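import Groth.Agent.FlatMor.K262.GenExt
import Mathlib.AlgebraicGeometry.Morphisms.Flat
import Mathlib.AlgebraicGeometry.FunctionField
import Mathlib.AlgebraicGeometry.Morphisms.Proper
import Mathlib.RingTheory.Flat.TorsionFree
import Mathlib.RingTheory.RegularLocalRing.Defs
import Mathlib.RingTheory.DiscreteValuationRing.TFAE
import Mathlib.Topology.KrullDimension

/-!
# Dedekind schemes: local rings, flatness of dominant integral schemes, the generic fibre
-/

set_option autoImplicit false
universe u

open AlgebraicGeometry CategoryTheory CategoryTheory.Limits IsLocalRing TopologicalSpace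

namespace K381.DedFlat

/-- A dominant morphism of integral schemes maps the generic point to the generic point. -/
theorem map_genericPoint {Y S : Scheme.{u}} [IsIntegral Y] [IsIntegral S] (f : Y ⟶ S) [IsDominant f] :
    f (genericPoint Y) = genericPoint S := by
  have h1 : IsGenericPoint (f (genericPoint Y)) (Set.univ : Set S) := by
    have h2 : closure {f (genericPoint Y)} = closure (Set.range f) := by
      apply subset_antisymm
      · exact closure_mono (Set.singleton_subset_iff.mpr ⟨_, rfl⟩)
      · refine closure_minimal ?_ isClosed_closure
        rintro _ ⟨y, rfl⟩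
        exact ((genericPoint_specializes y).map f.continuous).mem_closure
    rw [IsGenericPoint, h2]
    exact f.denseRange.closure_range
  exact h1.eq (genericPoint_spec S)

/-- Local homomorphisms at the points of a dominant morphism of integral schemes are injective. -/
theorem stalkMap_injective {Y S : Scheme.{u}} [IsIntegral Y] [IsIntegral S] (f : Y ⟶ S) [IsDominant f] (y : Y) :
    Function.Injective (f.stalkMap y) := by
  have hη := map_genericPoint f
  have h1 := Scheme.Hom.stalkSpecializes_stalkMap f (genericPoint Y) y (genericPoint_specializes y)
  have hs : f (genericPoint Y) ⤳ f y := (genericPoint_specializes y).map f.continuous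
  have hsp : Function.Injective (S.presheaf.stalkSpecializes hs) := by
    have key : ∀ (z : S) (hz : z = genericPoint S) (h : z ⤳ f y), Function.Injective (S.presheaf.stalkSpecializes h) := by
      rintro _ rfl h
      exact IsFractionRing.injective (S.presheaf.stalk (f y)) S.functionField
    exact key _ hη hs
  have hf : IsField (S.presheaf.stalk (f (genericPoint Y))) := by
    rw [hη]
    exact Field.toIsField S.functionField
  have h2 : Function.Injective (f.stalkMap (genericPoint Y)) := by
    let := hf.toField
    exact RingHom.injective (f.stalkMap (genericPoint Y)).hom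
  have h3 : Function.Injective (S.presheaf.stalkSpecializes hs ≫ f.stalkMap (genericPoint Y)) := by
    have : (S.presheaf.stalkSpecializes hs ≫ f.stalkMap (genericPoint Y) : _ → _) =
        (f.stalkMap (genericPoint Y)) ∘ (S.presheaf.stalkSpecializes hs) := by
      ext a; rfl
    rw [this]
    exact h2.comp hsp
  rw [h1] at h3
  intro a b hab
  apply h3
  change Y.presheaf.stalkSpecializes _ (f.stalkMap y a) = Y.presheaf.stalkSpecializes _ (f.stalkMap y b)
  rw [hab]

/-- An injective ring map from a principal ideal domain to a domain is flat. -/
theorem ringHom_flat_of_injective {R S : Type*} [CommRing R] [IsDomain R] [IsPrincipalIdealRing R]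
    [CommRing S] [IsDomain S] (φ : R →+* S) (h : Function.Injective φ) : φ.Flat := by
  algebraize [φ]
  change Module.Flat R S
  rw [Module.Flat.flat_iff_torsion_eq_bot_of_isBezout, ← Submodule.isTorsionFree_iff_torsion_eq_bot]
  refine ⟨fun r hr => ?_⟩
  rw [isSMulRegular_iff_right_eq_zero_of_smul]
  intro s hs
  rw [Algebra.smul_def] at hs
  rcases mul_eq_zero.mp hs with h0 | h0
  · exact absurd (h (h0.trans (map_zero _).symm)) hr.ne_zero
  · exact h0

/-- A dominant morphism from an integral scheme to an integral scheme whose local rings are principal ideal domains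
is flat. -/
theorem flat_of_isDominant {Y S : Scheme.{u}} [IsIntegral Y] [IsIntegral S] (f : Y ⟶ S) [IsDominant f]
    (hS : ∀ s : S, IsPrincipalIdealRing (S.presheaf.stalk s)) : Flat f := by
  refine Flat.of_stalkMap f fun y => ?_
  have := hS (f y)
  exact ringHom_flat_of_injective _ (stalkMap_injective f y)

/-- Regular local rings of dimension at most one are principal ideal domains. -/
theorem isPrincipalIdealRing_of_isRegularLocalRing (A : Type u) [CommRing A] [IsRegularLocalRing A] [IsDomain A]
    (h : ringKrullDim A ≤ 1) : IsPrincipalIdealRing A := by
  have h0 := tfae_of_isNoetherianRing_of_isLocalRing_of_isDomain (R := A)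
  refine (show IsPrincipalIdealRing A ↔ Module.finrank (ResidueField A) (CotangentSpace A) ≤ 1 from h0.out 0 5).mpr ?_
  have h1 := (IsRegularLocalRing.iff_finrank_cotangentSpace A).mp inferInstance
  rw [← h1] at h
  exact_mod_cast h

theorem topologicalKrullDim_eq_iSup_stalk (X : Scheme.{u}) :
    topologicalKrullDim X = ⨆ x : X, ringKrullDim (X.presheaf.stalk x) := by
  have h1 : topologicalKrullDim X = Order.krullDim X :=
    Order.krullDim_eq_of_orderIso (irreducibleSetEquivPoints (α := X))
  rw [h1, Order.krullDim_eq_iSup_coheight]
  exact iSup_congr fun x => (ringKrullDim_stalk_eq_coheight x).symm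

theorem ringKrullDim_stalk_le (X : Scheme.{u}) (x : X) :
    ringKrullDim (X.presheaf.stalk x) ≤ topologicalKrullDim X := by
  rw [topologicalKrullDim_eq_iSup_stalk]
  exact le_iSup (fun y : X => ringKrullDim (X.presheaf.stalk y)) x

/-- Local rings of a regular integral scheme of dimension at most one are principal ideal domains. -/
theorem isPrincipalIdealRing_stalk {S : Scheme.{u}} [IsIntegral S]
    (hreg : ∀ s : S, IsRegularLocalRing (S.presheaf.stalk s)) (hdim : topologicalKrullDim S ≤ 1) (s : S) :
    IsPrincipalIdealRing (S.presheaf.stalk s) := by
  have := hreg s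
  exact isPrincipalIdealRing_of_isRegularLocalRing _ ((ringKrullDim_stalk_le S s).trans hdim)

end K381.DedFlat
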