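import Groth.Prelude.Def_ModelsG
import Groth.Prelude.Def_CurvBase
import Groth.Agent.VarietyB.ResMap

/-!
# The maps `A → O_{Y,y}` for a scheme over `Spec A`
-/

set_option autoImplicit false
universe u

open AlgebraicGeometry CategoryTheory CategoryTheory.Limits IsLocalRing

namespace K381.StHom

/-- The ring map `A → O_{Y,y}`. -/
noncomputable def st {A : Type u} [CommRing A] {Y : Scheme.{u}} (f : Y ⟶ Spec (CommRingCat.of A)) (y : Y) :
    A →+* Y.presheaf.stalk y :=
  (Y.presheaf.germ ⊤ y trivial).hom.comp (Coh.toGlobal f)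

section

variable {A : Type u} [CommRing A] {Y : Scheme.{u}} (f : Y ⟶ Spec (CommRingCat.of A)) (y : Y)

theorem specMap_st : Spec.map (CommRingCat.ofHom (st f y)) = Y.fromSpecStalk y ≫ f := by
  have h : CommRingCat.ofHom (st f y) =
      CommRingCat.ofHom (R := A) (S := Γ(Y, ⊤)) (Coh.toGlobal f) ≫ Y.presheaf.germ ⊤ y trivial := rfl
  rw [h, Spec.map_comp, ← Scheme.fromSpecStalk_toSpecΓ, Category.assoc,
    Groth.Agent.VarietyB.ResMap.specMap_toGlobal]

theorem st_comp {Y' : Scheme.{u}} (h : Y' ⟶ Y) (y' : Y') :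
    (h.stalkMap y').hom.comp (st f (h y')) = st (h ≫ f) y' := by
  have h1 : Spec.map (CommRingCat.ofHom (st f (h y')) ≫ h.stalkMap y') =
      Spec.map (CommRingCat.ofHom (st (h ≫ f) y')) := by
    rw [Spec.map_comp, specMap_st, specMap_st, Scheme.SpecMap_stalkMap_fromSpecStalk_assoc]
  exact congrArg CommRingCat.Hom.hom (Spec.map_injective h1)

theorem st_base {B : Type u} [CommRing B] (φ : B →+* A) :
    (st f y).comp φ = st (f ≫ Spec.map (CommRingCat.ofHom φ)) y := by
  have h1 : Spec.map (CommRingCat.ofHom φ ≫ CommRingCat.ofHom (st f y)) =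
      Spec.map (CommRingCat.ofHom (st (f ≫ Spec.map (CommRingCat.ofHom φ)) y)) := by
    rw [Spec.map_comp, specMap_st, specMap_st, Category.assoc]
  exact congrArg CommRingCat.Hom.hom (Spec.map_injective h1)

theorem stalkSpecializes_st {y' : Y} (h : y' ⤳ y) :
    (Y.presheaf.stalkSpecializes h).hom.comp (st f y) = st f y' := by
  have h1 := Y.presheaf.germ_stalkSpecializes (U := ⊤) trivial h
  exact RingHom.ext fun a => DFunLike.congr_fun (congrArg CommRingCat.Hom.hom h1) (Coh.toGlobal f a)

theorem mem_maximalIdeal_iff (a : A) :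
    st f y a ∈ maximalIdeal (Y.presheaf.stalk y) ↔ a ∈ (f y).asIdeal := by
  have h1 : f y = PrimeSpectrum.comap (st f y) (closedPoint (Y.presheaf.stalk y)) := by
    have h2 : (Y.fromSpecStalk y ≫ f) (closedPoint (Y.presheaf.stalk y)) =
      (Spec.map (CommRingCat.ofHom (st f y))) (closedPoint (Y.presheaf.stalk y)) := by rw [specMap_st]
    rw [Scheme.Hom.comp_apply, Scheme.fromSpecStalk_closedPoint] at h2
    exact h2
  rw [h1]
  rfl

end

theorem stalkHom_eq (R : Type u) [CommRing R] [IsDomain R] [IsDiscreteValuationRing R]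
    (X : Over (Spec (CommRingCat.of R))) (x : X.left) : Models.stalkHom R X x = st X.hom x := rfl

theorem stalkMap_eq (k : Type u) [Field k] (X : Scheme.{u}) [X.Over (Spec (CommRingCat.of k))] (x : X) :
    Curv2.stalkMap k X x = st (X ↘ Spec (CommRingCat.of k)) x := rfl

/-- Two fields which are quotients of the same local ring. -/
theorem exists_equiv {A L L' : Type*} [CommRing A] [IsLocalRing A] [CommRing L] [CommRing L'] (hL : IsField L)
    (hL' : IsField L') (α : A →+* L)
    (β : A →+* L') (hα : Function.Surjective α) (hβ : Function.Surjective β) :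
    ∃ e : L ≃+* L', ∀ a, e (α a) = β a := by
  have key : RingHom.ker α = RingHom.ker β := by
    let := hL.toField
    let := hL'.toField
    have h1 : (RingHom.ker α).IsMaximal := RingHom.ker_isMaximal_of_surjective α hα
    have h2 : (RingHom.ker β).IsMaximal := RingHom.ker_isMaximal_of_surjective β hβ
    rw [eq_maximalIdeal h1, eq_maximalIdeal h2]
  let e := (RingHom.quotientKerEquivOfSurjective hα).symm.trans
    ((Ideal.quotEquivOfEq key).trans (RingHom.quotientKerEquivOfSurjective hβ))
  refine ⟨e, fun a => ?_⟩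
  have h1 : (RingHom.quotientKerEquivOfSurjective hα).symm (α a) = Ideal.Quotient.mk _ a := by
    rw [RingEquiv.symm_apply_eq]
    rfl
  change (RingHom.quotientKerEquivOfSurjective hβ) ((Ideal.quotEquivOfEq key)
    ((RingHom.quotientKerEquivOfSurjective hα).symm (α a))) = _
  rw [h1]
  rfl

end K381.StHom
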