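import Groth.Agent.Models.K381.GenFib
import Groth.Agent.CohqB.ProjBC
import Groth.Agent.S7645

/-!
# Proper curves over the function field embed into the generic fibre of a projective space
-/

set_option autoImplicit false
universe u

open AlgebraicGeometry CategoryTheory CategoryTheory.Limits IsLocalRing TopologicalSpace

namespace K381.ProjGen

/-- `P^n_K → P^n_S`. -/
theorem exists_isPullback (n : ℕ) (S : Scheme.{u}) (K : CommRingCat.{u}) (γ : Spec K ⟶ S) :
    ∃ a : CohB1.ProjSpace n K ⟶ CohB1.ProjSpaceOver n S,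
      IsPullback a (CohB1.ProjSpace.toSpec n K) (CohB1.ProjSpaceOver.toBase n S) γ := by
  let φ : ULift.{u} ℤ →+* K := (Int.castRingHom K).comp ULift.ringEquiv.toRingHom
  have h1 := Groth.Agent.CohqB.ProjBC.isPullback_pmap φ n
  have h2 : IsPullback (pullback.fst (CohB1.ProjSpace.toSpec n (ULift.{u} ℤ)) (specULiftZIsTerminal.from S))
      (CohB1.ProjSpaceOver.toBase n S) (CohB1.ProjSpace.toSpec n (ULift.{u} ℤ)) (specULiftZIsTerminal.from S) :=
    IsPullback.of_hasPullback _ _
  have h3 : γ ≫ specULiftZIsTerminal.from S = Spec.map (CommRingCat.ofHom φ) :=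
    specULiftZIsTerminal.hom_ext _ _
  refine ⟨h2.lift (Groth.Agent.CohqB.ProjBC.pmap φ n) (CohB1.ProjSpace.toSpec n K ≫ γ) ?_, ?_⟩
  · rw [Category.assoc, h3]
    exact h1.w
  · refine IsPullback.of_right (h₁₂ := pullback.fst _ _) ?_ (h2.lift_snd _ _ _) h2
    rw [h2.lift_fst, h3]
    exact h1

theorem exists_embedding {S : Scheme.{u}} [IsIntegral S] {C : Scheme.{u}} (g : C ⟶ Spec S.functionField) [IsProper g]
    (hdim : topologicalKrullDim C ≤ 1) :
    ∃ (n : ℕ) (l : C ⟶ pullback (CohB1.ProjSpaceOver.toBase n S) (S.fromSpecStalk (genericPoint S))),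
      IsClosedImmersion l ∧ l ≫ pullback.snd _ _ = g := by
  let : C.Over (Spec (CommRingCat.of S.functionField)) := ⟨g⟩
  have : IsProper (C ↘ Spec (CommRingCat.of S.functionField)) := ‹IsProper g›
  obtain ⟨n, i, hi, hi'⟩ := Groth.Agent.S7645.result S.functionField C hdim
  obtain ⟨a, ha⟩ := exists_isPullback n S S.functionField (S.fromSpecStalk (genericPoint S))
  refine ⟨n, i ≫ ha.isoPullback.hom, inferInstance, ?_⟩
  rw [Category.assoc, ha.isoPullback_hom_snd]
  exact hi'

end K381.ProjGen
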