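import Groth.Agent.Models.K381.RegModel
import Groth.Agent.Props.K592.NormComp
import Groth.Agent.Sga1.SigmaFinite
import Groth.Agent.Ega2.SigmaMap
import Groth.Agent.CalgA.TwoGlue

/-!
# Regular proper flat models of regular proper curves: disjoint unions
-/

set_option autoImplicit false
universe u v

open AlgebraicGeometry CategoryTheory CategoryTheory.Limits IsLocalRing TopologicalSpace

namespace K381.DisjModel

/-- A Noetherian scheme whose local rings are domains is a finite disjoint union of integral closed and open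
subschemes. -/
theorem exists_decomp (X : Scheme.{u}) [IsNoetherian X] (hX : ∀ x : X, IsDomain (X.presheaf.stalk x)) :
    ∃ (ι : Type u) (_ : Finite ι) (Z : ι → X.Opens), (∀ i, (Z i : Set X) ∈ irreducibleComponents (X : Type u)) ∧
      (∀ i, IsIntegral (Z i)) ∧ (∀ i, IsClosedImmersion (Z i).ι) ∧ ⨆ i, (Z i) = ⊤ ∧
      (∀ i j, i ≠ j → Disjoint (Z i) (Z j)) := by
  have hfin : (irreducibleComponents (X : Type u)).Finite := NoetherianSpace.finite_irreducibleComponents
  let Z : irreducibleComponents (X : Type u) → X.Opens := fun W => ⟨W.1, K592.NormComp.isOpen_of_finite hfin hX W.2⟩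
  refine ⟨irreducibleComponents (X : Type u), hfin.to_subtype, Z, fun i => i.2, fun i => ?_, fun i => ?_, ?_, ?_⟩
  · have h1 : IsIrreducible ((Z i : X.Opens) : Set X) := i.2.1
    have h2 : IrreducibleSpace (Z i) := Subtype.irreducibleSpace h1
    have h3 : ∀ x : (Z i : Scheme.{u}), _root_.IsReduced ((Z i : Scheme.{u}).presheaf.stalk x) := fun x => by
      have h4 := hX ((Z i).ι x)
      exact isReduced_of_injective (inv ((Z i).ι.stalkMap x)).hom
        (ConcreteCategory.bijective_of_isIso (inv ((Z i).ι.stalkMap x))).1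
    have h5 : IsReduced (Z i : Scheme.{u}) := isReduced_of_isReduced_stalk _
    exact isIntegral_of_irreducibleSpace_of_isReduced _
  · have h1 : IsClosed (((Z i) : X.Opens) : Set X) := isClosed_of_mem_irreducibleComponents _ i.2
    exact IsClosedImmersion.of_isPreimmersion _ (by simpa using h1)
  · rw [eq_top_iff]
    intro x _
    exact Opens.mem_iSup.mpr ⟨⟨irreducibleComponent x, irreducibleComponent_mem_irreducibleComponents x⟩,
      mem_irreducibleComponent⟩
  · intro i j hij
    change Disjoint (Z i) (Z j)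
    rw [disjoint_iff, Opens.ext_iff]
    ext x
    simp only [Opens.coe_inf, Set.mem_inter_iff, Opens.coe_bot, Set.mem_empty_iff_false, iff_false]
    rintro ⟨h1, h2⟩
    exact hij (Subtype.ext (Groth.Agent.CurvesC.NormSections.eq_of_mem_of_mem (hX x) i.2 j.2 h1 h2))

/-- Finite disjoint unions of models. -/
theorem exists_disjUnion {S T C : Scheme.{u}} (γ : T ⟶ S) (g : C ⟶ T) {ι : Type u} [Finite ι] (Z : ι → C.Opens)
    (hcov : ⨆ i, (Z i) = ⊤) (hdisj : ∀ i j, i ≠ j → Disjoint (Z i) (Z j)) (M : ι → Scheme.{u}) (f : ∀ j, M j ⟶ S)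
    (i : ∀ j, (Z j : Scheme.{u}) ⟶ M j) (h : ∀ j, IsPullback (i j) ((Z j).ι ≫ g) (f j) γ) :
    ∃ i' : C ⟶ ∐ M, IsPullback i' g (Sigma.desc f) γ := by
  obtain ⟨hcof⟩ := nonempty_isColimit_cofanMk_of (fun j => (Z j).ι) (by simpa using hcov)
    (by intro a b hab; simpa [Function.onFun] using hdisj a b hab)
  let i' : C ⟶ ∐ M := Cofan.IsColimit.desc hcof (fun j => i j ≫ Sigma.ι M j)
  have hi' : ∀ j, (Z j).ι ≫ i' = i j ≫ Sigma.ι M j := fun j => Cofan.IsColimit.fac hcof _ j
  have h1 : ∀ j, IsPullback (Z j).ι (i j) i' (Sigma.ι M j) := fun j => by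
    have h2 := FinitaryExtensive.isVanKampen_finiteCoproducts (coproductIsCoproduct M)
    have h3 := (h2 (Cofan.mk C (fun j => (Z j).ι)) (Discrete.natTrans fun j ↦ i j.as) i'
      (by ext ⟨j⟩; simpa using (hi' j).symm) (NatTrans.Equifibered.of_discrete _)).1 ⟨hcof⟩
    exact h3 ⟨j⟩
  refine ⟨i', Groth.Agent.CalgA.TwoGlue.isPullback_of_cover ?_ (sigmaOpenCover M) (fun j => (Z j : Scheme.{u}))
    (fun j => (Z j).ι) i h1 fun j => ?_⟩
  · refine Cofan.IsColimit.hom_ext hcof _ _ fun j => ?_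
    change (Z j).ι ≫ i' ≫ _ = (Z j).ι ≫ g ≫ γ
    rw [reassoc_of% (hi' j), Sigma.ι_desc, (h j).w, Category.assoc]
  · change IsPullback (i j) ((Z j).ι ≫ g) (Sigma.ι M j ≫ Sigma.desc f) γ
    rw [Sigma.ι_desc]
    exact h j

theorem isProper_sigmaDesc {S : Scheme.{u}} {ι : Type u} [Finite ι] {M : ι → Scheme.{u}} (f : ∀ j, M j ⟶ S)
    (h : ∀ j, IsProper (f j)) : IsProper (Sigma.desc f) := by
  have h1 : Sigma.desc f = Limits.Sigma.map f ≫ Sigma.desc (fun _ : ι ↦ 𝟙 S) := by
    refine Sigma.hom_ext _ _ fun i ↦ ?_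
    simp
  have h2 : IsProper (Limits.Sigma.map f) :=
    Groth.Agent.Ega2.SigmaMap.sigmaMap_of_isZariskiLocalAtTarget (@IsProper) f h
  have h3 : IsFinite (Sigma.desc (fun _ : ι ↦ 𝟙 S)) := Groth.Agent.Sga1.SigmaFinite.isFinite_sigmaDesc _
  rw [h1]
  infer_instance

end K381.DisjModel
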