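import Groth.Agent.Models.H56.Core
import Groth.Agent.Models.K380.AlgH0
import Groth.Agent.S3324

/-!
# The core of the semistable reduction theorem over an algebraically closed residue field, without a rational point

`main`: `R` a discrete valuation ring with algebraically closed residue field, `C` a smooth proper curve of genus
`g ≥ 2` over its fraction field with `H⁰(C, O_C) = K`, `l > 768 g` a prime invertible in `R` such that `Pic(C)[l]`
has `l ^ (2 g)` elements. Then `C` has semistable reduction over `R`.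

The proof is that of `H56.CoreMain.coreAt_of`; the rational point is replaced by the divisor `D = (1/d) X_k`, `d` the
greatest common divisor of the multiplicities of the minimal regular model: `h⁰(O_D) = 1` and
`h¹(O_D) = 1 + (g - 1)/d` (S3323, S3324), so that the chain of inequalities gives `2 g ≤ 2 (1 + (g - 1)/d)`, `d = 1`.
-/

set_option autoImplicit false
universe u
open CategoryTheory CategoryTheory.Limits AlgebraicGeometry TopologicalSpace

namespace Groth.Agent.Models.K381.CoreNP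

open Groth.Agent.Grpsch.PicGrp Groth.Agent.Models.H56 RedFib CoreGeom CoreHyp
open Groth.Agent.CurvesC.CurveNum

/-- Arithmetic of the chain: the greatest common divisor is one. -/
theorem chain_gcd {n g t hY hZ hZ' g' d : ℕ} (D C : Fin n → ℕ) (NC NT NX NZ l : ℕ) (hl : 2 ≤ l) (hg : 2 ≤ g)
    (h1 : NC = l ^ (2 * g)) (h2 : NC ≤ NT * NX) (h3 : NT ≤ l ^ t) (h4 : NX ≤ NZ)
    (h5 : NZ ≤ l ^ (hZ + hZ')) (h6 : hZ ≤ hY) (h7 : hZ' ≤ ∑ i, D i) (h8 : ∀ i, D i ≤ C i)
    (h9 : t + ∑ i, C i ≤ hY) (h10 : hY ≤ g') (h11 : (1 : ℤ) - g = d * (1 - g')) : d = 1 := by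
  have h12 : l ^ (2 * g) ≤ l ^ t * NZ := by
    rw [← h1]
    exact h2.trans (Nat.mul_le_mul h3 h4)
  have h13 : l ^ (2 * g) ≤ l ^ (t + (hZ + hZ')) := by
    rw [pow_add]
    exact h12.trans (Nat.mul_le_mul_left _ h5)
  have h14 : 2 * g ≤ t + (hZ + hZ') := (Nat.pow_le_pow_iff_right (by omega)).1 h13
  have h15 : ∑ i, D i ≤ ∑ i, C i := Finset.sum_le_sum fun i _ => h8 i
  have h16 : g ≤ g' := by omega
  rcases Nat.lt_trichotomy d 1 with hd | hd | hd
  · obtain rfl : d = 0 := by omega
    rw [Nat.cast_zero, zero_mul] at h11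
    omega
  · exact hd
  · exfalso
    have h17 : (2 : ℤ) ≤ d := by exact_mod_cast hd
    have h18 : (g : ℤ) ≤ g' := by exact_mod_cast h16
    have h19 : (2 : ℤ) ≤ g := by exact_mod_cast hg
    nlinarith

section Wdeg

variable {R : Type u} [CommRing R] [IsDomain R] [IsDiscreteValuationRing R]

/-- Over an algebraically closed residue field all `wdeg` are one. -/
theorem wdeg_eq_one {X : Over (Spec (CommRingCat.of R))} [IsProper X.hom]
    (hk : IsAlgClosed (IsLocalRing.ResidueField R)) (Γ : ArSurf.VertComp R X) : Models.wdeg R X Γ = 1 := by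
  have hprop := H67.WdegOne.isProper_curve Γ
  have hprop' : IsProper Γ.curve.hom := hprop
  have hfield : IsField Γ(Γ.curve.left, ⊤) :=
    isField_of_universallyClosed (IsLocalRing.ResidueField R)
      (Γ.curve.left ↘ Spec (CommRingCat.of (IsLocalRing.ResidueField R)))
  let _ := hfield.toField
  let φ : IsLocalRing.ResidueField R →+* Γ(Γ.curve.left, ⊤) := Coh.toGlobal Γ.curve.hom
  have hφ : φ.IsIntegral := by
    have h1 : ((Scheme.ΓSpecIso (CommRingCat.of (IsLocalRing.ResidueField R))).inv ≫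
        Γ.curve.hom.appTop).hom.IsIntegral := by
      apply RingHom.isIntegral_respectsIso.2
        (e := (Scheme.ΓSpecIso (CommRingCat.of (IsLocalRing.ResidueField R))).symm.commRingCatIsoToRingEquiv)
      exact isIntegral_appTop_of_universallyClosed Γ.curve.hom
    exact h1
  have hbij : Function.Bijective φ := by
    algebraize [φ]
    have : Algebra.IsIntegral (IsLocalRing.ResidueField R) Γ(Γ.curve.left, ⊤) := ⟨hφ⟩
    exact IsAlgClosed.algebraMap_bijective_of_isIntegral
  let _ : Module (IsLocalRing.ResidueField R) (Coh.Γtop Γ.curve.left) :=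
    topMod (IsLocalRing.ResidueField R) Γ.curve.left
  let e : IsLocalRing.ResidueField R →ₗ[IsLocalRing.ResidueField R] Coh.Γtop Γ.curve.left :=
    { toFun := φ
      map_add' := φ.map_add
      map_smul' := fun c x => φ.map_mul c x }
  have h1 : Module.finrank (IsLocalRing.ResidueField R) (Coh.Γtop Γ.curve.left) = 1 := by
    rw [← (LinearEquiv.ofBijective e hbij).finrank_eq, Module.finrank_self]
  unfold Models.wdeg
  rw [(hZeroTop (IsLocalRing.ResidueField R) Γ.curve.left).finrank_eq]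
  exact h1

end Wdeg

section Main

variable {R : Type u} [CommRing R] [IsDomain R] [IsDiscreteValuationRing R]
  {C X : Scheme.{u}} {f : C ⟶ Spec (CommRingCat.of (FractionRing R))} {p : X ⟶ Spec (CommRingCat.of R)}

/-- `h¹` of the reduced closed fibre is at most `h¹` of `(1/d) X_k`. -/
theorem h1_red_le (hC : Curve.IsSmoothProperCurve (FractionRing R) C f)
    (hX : Models.IsRegularProperModel R X p C f) {n : ℕ} {Γ : Fin n → ArSurf.VertComp R (Over.mk p)}
    (hΓ : Models.IsComponentList R (Over.mk p) Γ) (d : ℕ) (hd : ∀ i, d ∣ Models.mult R (Over.mk p) (Γ i)) :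
    Models.lengthH R (Over.mk p) (ClSub.quotMod (Models.redFibreIdeal R (Over.mk p))) 1 ≤
      Models.lengthH R (Over.mk p)
        (ClSub.quotMod (∏ i, (Γ i).ι.ker ^ (Models.mult R (Over.mk p) (Γ i) / d))) 1 := by
  obtain ⟨hker, hspec⟩ := Groth.Agent.S3313.result R C X f p hC hX.1 hX.2.2 Γ hΓ
  have hprop : IsProper (Over.mk p).hom := hX.2.1
  have hp : IsProper p := hX.2.1
  have hfl : Flat (Over.mk p).hom := hX.1.1
  have hlft : LocallyOfFiniteType (Over.mk p).hom := hX.1.2.1
  have hred : ∏ i, (Γ i).ι.ker = Models.redFibreIdeal R (Over.mk p) :=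
    ModelsG.H46.RedFib.prod_ker_eq_redFibreIdeal (X := Over.mk p) hX.2.2 hΓ
  have hdim : topologicalKrullDim ((Over.mk p).hom.fiber (IsLocalRing.closedPoint R)) ≤ 1 :=
    H68.FibGood.dim_fiber_le_of_isModel hX.1 hC.2.2.2.le
  have hpos := Models.H43.MultPos.mult_pos_of_isComponentList Γ hΓ
  refine H68.FibGood.lengthH_one_le _ hdim ?_ ?_
  · rw [hspec]
    exact H68.Main.prod_pow_le _ fun i => Nat.div_le_self _ _
  · rw [← hred]
    have h1 : ∏ i, (Γ i).ι.ker = ∏ i, (Γ i).ι.ker ^ 1 := Finset.prod_congr rfl fun i _ => (pow_one _).symm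
    rw [h1]
    refine H68.Main.prod_pow_le _ fun i => ?_
    have h2 : 0 < Models.mult R (Over.mk p) (Γ i) := hpos i
    exact Nat.div_pos (Nat.le_of_dvd h2 (hd i)) (Nat.pos_of_dvd_of_pos (hd i) h2)

/-- The chain of inequalities and its equality case, over an algebraically closed residue field. -/
theorem chainFacts (hk : IsAlgClosed (IsLocalRing.ResidueField R))
    (hC : Curve.IsSmoothProperCurve (FractionRing R) C f) (hH0 : IsIso f.appTop)
    (hmin : Models.IsMinimalModel R X p C f)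
    {n : ℕ} (Γ : Fin n → ArSurf.VertComp R (Over.mk p))
    (hΓ : Models.IsComponentList R (Over.mk p) Γ)
    (L : Fin n → X.Modules) (hL : ∀ i, ClSub.IsInverseOf (L i) (ClSub.idealMod (Γ i).ι.ker))
    (T : Models.NumericalType n)
    (hTa : ∀ i j, T.a i j = ArSurf.inter R (Over.mk p) (L j) (Γ i))
    (hTw : ∀ i, T.w i = (Models.wdeg R (Over.mk p) (Γ i) : ℤ))
    (hTmin : T.IsMinimal) (g : ℕ) (hg : 2 ≤ g) (hgen : Models.curveGenus (FractionRing R) C f = g)
    (hTgen : T.genus = g) (l : ℕ) (hl : l.Prime) (hlg : 768 * g < l)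
    (hlk : (l : IsLocalRing.ResidueField R) ≠ 0)
    (hcard : Nat.card {c : Pic C // c ^ l = 1} = l ^ (2 * g))
    (K : Type u) [Field K] [IsAlgClosed K] [Algebra (IsLocalRing.ResidueField R) K]
    [Algebra.IsAlgebraic (IsLocalRing.ResidueField R) K] :
    Models.specialFibreIdeal R (Over.mk p) = Models.redFibreIdeal R (Over.mk p) ∧
    ∃ (Z : Scheme.{u}) (r : Z ⟶ pullback (str p)
        (Spec.map (CommRingCat.ofHom (algebraMap (IsLocalRing.ResidueField R) K))))
      (Z' : Scheme.{u}) (ν : Z' ⟶ Z) (U : Z.Opens), IsClosedImmersion r ∧ Surjective r ∧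
      AlgebraicGeometry.IsReduced Z ∧ ConnectedSpace Z ∧
      (∀ T ∈ irreducibleComponents (Z : Type u), topologicalKrullDim T = 1) ∧ IsFinite ν ∧
      Smooth (ν ≫ r ≫ pullback.snd _ _) ∧
      Dense (U : Set Z) ∧ Dense ((ν ⁻¹ᵁ U : Z'.Opens) : Set Z') ∧ IsIso (ν ∣_ U) ∧
      Nat.card {c : Pic Z // c ^ l = 1} = l ^ (Models.curveGenus K Z (r ≫ pullback.snd _ _) +
        Models.curveGenus K Z' (ν ≫ r ≫ pullback.snd _ _)) := by
  have hX := hmin.1
  have hp : IsProper p := hX.2.1
  have hp' : IsProper (Over.mk p).hom := hX.2.1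
  have hfl' : Flat (Over.mk p).hom := hX.1.1
  have hpr := isProper_str p
  let φ : Spec (CommRingCat.of K) ⟶ Spec (CommRingCat.of (IsLocalRing.ResidueField R)) :=
    Spec.map (CommRingCat.ofHom (algebraMap (IsLocalRing.ResidueField R) K))
  have hnpos : 0 < n := T.pos
  let i₀ : Fin n := ⟨0, hnpos⟩
  have hw0 : Models.wdeg R (Over.mk p) (Γ i₀) = 1 := wdeg_eq_one hk (Γ i₀)
  -- `h⁰`
  have hY0 : Models.lengthH R (Over.mk p) (ClSub.quotMod (Models.redFibreIdeal R (Over.mk p))) 0 = 1 :=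
    K380.AlgH0.lengthH_zero hk _ (Models.H67.H0Fibre.isField_redFibre hC hH0 hX)
  obtain ⟨hDf, hDchi⟩ := Groth.Agent.S3324.result R C X f p hC hH0 hX Γ hΓ
  rw [K380.AlgH0.lengthH_zero (p := p) hk _ hDf, hgen] at hDchi
  have hdvd : ∀ i, Models.multGcd R (Over.mk p) Γ ∣ Models.mult R (Over.mk p) (Γ i) := fun i =>
    Finset.gcd_dvd (Finset.mem_univ i)
  have hY1 := h1_red_le hC hX hΓ (Models.multGcd R (Over.mk p) Γ) hdvd
  -- the greatest common divisor is prime to `l`
  have hcop : Nat.Coprime l (Models.multGcd R (Over.mk p) Γ) := by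
    rw [Nat.Prime.coprime_iff_not_dvd hl]
    intro hld
    have h1 : ((Models.multGcd R (Over.mk p) Γ : ℕ) : ℤ) ∣ ((g - 1 : ℕ) : ℤ) := by
      refine ⟨-(((1 : ℕ) : ℤ) - (Models.lengthH R (Over.mk p) (ClSub.quotMod (∏ i, (Γ i).ι.ker ^
        (Models.mult R (Over.mk p) (Γ i) / Models.multGcd R (Over.mk p) Γ))) 1 : ℤ)), ?_⟩
      rw [mul_neg, ← hDchi]
      push_cast [Nat.cast_sub (show 1 ≤ g by omega)]
      ring
    have h2 : l ∣ g - 1 := hld.trans (Int.natCast_dvd_natCast.1 h1)
    have h3 := Nat.le_of_dvd (by omega) h2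
    omega
  have hpure := pure_Y p hΓ
  have hY0' : Models.hRank (IsLocalRing.ResidueField R) (Y p) (str p) (Coh.structureModule (Y p)) 0 = 1 := by
    rw [← lengthH_eq]
    exact hY0
  have hneY : Nonempty (Y p) := ⟨comp p (Γ i₀) (genericPoint _)⟩
  have hdimY : topologicalKrullDim (Y p) ≤ 1 := (CurvesB.FibreBC.topologicalKrullDim_eq_one hpure).le
  -- the reduced base change
  obtain ⟨Z, r, hr1, hr2, hr3⟩ := exists_red (pullback (str p) φ)
  have hD : ∀ i, ∃ (D : Scheme.{u}) (ρ : D ⟶ pullback (comp p (Γ i) ≫ str p) φ), IsClosedImmersion ρ ∧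
      Surjective ρ ∧ AlgebraicGeometry.IsReduced D := fun i => exists_red _
  choose D ρ hρ1 hρ2 hρ3 using hD
  obtain ⟨Z', ν, U, hν1, hν2, hU1, hU2, hν3, hZ'⟩ := Core.normHyp (IsLocalRing.ResidueField R) K (Y p) (str p) n
    (fun i => (Γ i).curve.left) (fun i => comp p (Γ i)) (fun i => (Γ i).dim_eq) (comp_injective p hΓ)
    (range_comp_eq p hΓ) Z r D ρ
  have hconnW : ConnectedSpace ↥(pullback (str p) φ) :=
    connectedSpace_bc (IsLocalRing.ResidueField R) K (Y p) (str p) hY0'
  have hconnZ : ConnectedSpace Z := connectedSpace r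
  have hpureW : ∀ T ∈ irreducibleComponents (↥(pullback (str p) φ) : Type u), topologicalKrullDim T = 1 :=
    PureBC.dimOne_of_isPullback (pullback.fst (str p) φ) (pullback.snd (str p) φ) (str p)
      (IsPullback.of_hasPullback _ _) hpure
  have hpureZ := pure_of_homeo r hpureW
  have hlK : (l : K) ≠ 0 := by
    intro h0
    apply hlk
    apply (algebraMap (IsLocalRing.ResidueField R) K).injective
    rw [map_natCast, map_zero, h0]
  obtain ⟨hfinZ, hcardZ⟩ := Core.countHyp K Z Z' (r ≫ pullback.snd _ _) hpureZ ν U hU1 hU2 l hl hlK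
  obtain ⟨hfinX, hcardX⟩ := CoreOf.card_pic_le hC hH0 hX l hl hlk K Z r hfinZ
  obtain ⟨gX, hgX⟩ := hX.1.2.2.2
  have hP1 := PicLe.card_torsion_pic_le hC hH0 hX Γ hΓ gX hgX L hL T hTa hTw l hl.pos
    hcop (Chain.finite_torsion T l hl.ne_zero) hfinX
  have hTw0 : T.w i₀ = 1 := by rw [hTw, hw0]; rfl
  have hT : Nat.card (Submodule.torsionBy ℤ T.Pic (l : ℤ)) ≤ l ^ T.topGenus.toNat :=
    ((Groth.Agent.S2185.result T (by rw [hTgen]; exact_mod_cast hg) l hl
      (by rw [hTgen]; exact_mod_cast hlg)).2 hTmin).1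
  have h6 := CoreOf.curveGenus_le (p := p) hdimY K Z r
  have h8 : ∀ i, Models.curveGenus K (D i) (ρ i ≫ pullback.snd _ _) ≤ Models.h1 R (Over.mk p) (Γ i) := by
    intro i
    rw [← CoreOf.h1_comp]
    exact H217.H1Red.h1_red_le (IsLocalRing.ResidueField R) K (Γ i).curve.left (comp p (Γ i) ≫ str p)
      (Γ i).dim_eq.le (D i) (ρ i)
  have h9 : T.topGenus + ∑ i, (Models.h1 R (Over.mk p) (Γ i) : ℤ) ≤
      (Models.lengthH R (Over.mk p) (ClSub.quotMod (Models.redFibreIdeal R (Over.mk p))) 1 : ℤ) :=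
    H45.RedChiCore.topGenus_add_le (X := Over.mk p) Γ L T hTa hTw i₀ hTw0 hY0
      (H45.RedChi.chiQ_red (X := Over.mk p) hX.2.2 hΓ hL)
  have htop : ((T.topGenus.toNat : ℕ) : ℤ) = T.topGenus := Int.toNat_of_nonneg (Num.topGenus_nonneg T)
  have h9' : T.topGenus.toNat + ∑ i, Models.h1 R (Over.mk p) (Γ i) ≤
      Models.lengthH R (Over.mk p) (ClSub.quotMod (Models.redFibreIdeal R (Over.mk p))) 1 := by
    zify
    rw [htop]
    exact h9
  -- the greatest common divisor is one
  have hgcd : Models.multGcd R (Over.mk p) Γ = 1 :=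
    chain_gcd (fun i => Models.curveGenus K (D i) (ρ i ≫ pullback.snd _ _))
      (fun i => Models.h1 R (Over.mk p) (Γ i)) _ _ _ _ l hl.two_le hg hcard hP1.2 hT hcardX hcardZ h6 hZ' h8
      h9' hY1 hDchi
  have hl1 : Models.lengthH R (Over.mk p) (ClSub.quotMod (Models.specialFibreIdeal R (Over.mk p))) 1 = g := by
    have h1 := (Groth.Agent.S3313.result R C X f p hC hX.1 hX.2.2 Γ hΓ).2
    have hprod : ∏ i, (Γ i).ι.ker ^ (Models.mult R (Over.mk p) (Γ i) / Models.multGcd R (Over.mk p) Γ) =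
        Models.specialFibreIdeal R (Over.mk p) := by
      rw [h1, hgcd]
      exact Finset.prod_congr rfl fun j _ => by rw [Nat.div_one]
    rw [hprod, hgcd] at hDchi
    push_cast at hDchi
    omega
  obtain ⟨h10, h11⟩ := Groth.Agent.S3345.result R C X f p hC hH0 hX Γ hΓ hmin hgcd hY0
  rw [hl1] at h10 h11
  obtain ⟨e1, e2, e3, e4, e5⟩ := Chain.chain (fun i => Models.curveGenus K (D i) (ρ i ≫ pullback.snd _ _))
    (fun i => Models.h1 R (Over.mk p) (Γ i)) _ _ _ _ l hl.two_le hcard hP1.2 hT hcardX hcardZ h6 hZ' h8 h9' h10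
  refine ⟨?_, Z, r, Z', ν, U, hr1, hr2, hr3, hconnZ, hpureZ, hν1, hν2, hU1, hU2, hν3, e5⟩
  by_contra hne
  have := h11 hne
  omega

end Main

/-- **The core theorem without a rational point** (algebraically closed residue field). -/
theorem main (R : Type u) [CommRing R] [IsDomain R] [IsDiscreteValuationRing R]
    (hk : IsAlgClosed (IsLocalRing.ResidueField R))
    (C : Scheme.{u}) (f : C ⟶ Spec (CommRingCat.of (FractionRing R)))
    (hC : Curve.IsSmoothProperCurve (FractionRing R) C f) (hH0 : IsIso f.appTop)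
    (g : ℕ) (hg : 2 ≤ g) (hgen : Models.curveGenus (FractionRing R) C f = g) (l : ℕ) (hl : l.Prime)
    (hlk : (l : IsLocalRing.ResidueField R) ≠ 0) (hlg : 768 * g < l)
    (hcard : Nat.card {c : Pic C // c ^ l = 1} = l ^ (2 * g)) :
    Models.HasSemistableReduction R C f := by
  obtain ⟨X, p, hmin⟩ := Groth.Agent.S3328.result R C f hC hH0
  have hX := hmin.1
  have hirr : IrreducibleSpace C := by
    have := hC.2.2.1
    infer_instance
  obtain ⟨n, Γ, L, hΓ, hL⟩ := H55.MinFib.exists_componentList hC hX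
    (H54.Bridge.ringKrullDim_stalk_of_isClosed hX hC.2.2.2)
  obtain ⟨T, hTm, hTa, hTw, hTg, hTgen⟩ := Groth.Agent.S3322.result R C X f p hC hH0 hX Γ hΓ L hL
  have hTmin : T.IsMinimal := by
    rintro i ⟨h1, h2⟩
    refine (Groth.Agent.S3347.result R C X f p hC hH0 hX Γ hΓ L hL).1 hmin i ⟨?_, ?_⟩
    · have := hTg i
      rw [h1, mul_zero] at this
      exact_mod_cast this.symm
    · rw [← hTa, h2, hTw]
  have hTgen' : T.genus = g := by rw [hTgen, hgen]
  obtain ⟨heq, Z, r, Z', ν, U, h1, h2, h3, h4, h5, h6, h7, h8, h9, h10, h11⟩ :=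
    chainFacts hk hC hH0 hmin Γ hΓ L hL T hTa hTw hTmin g hg hgen hTgen' l hl hlg hlk hcard
      (IsLocalRing.ResidueField R)
  have hred : AlgebraicGeometry.IsReduced (pullback (str p) (Spec.map (CommRingCat.ofHom
      (algebraMap (IsLocalRing.ResidueField R) (IsLocalRing.ResidueField R))))) := by
    have hiso : IsIso (Spec.map (CommRingCat.ofHom
        (algebraMap (IsLocalRing.ResidueField R) (IsLocalRing.ResidueField R)))) := by
      have h12 : CommRingCat.ofHom (algebraMap (IsLocalRing.ResidueField R) (IsLocalRing.ResidueField R)) =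
          𝟙 _ := rfl
      rw [h12]
      infer_instance
    exact isReduced_of_isOpenImmersion (pullback.fst (str p) (Spec.map (CommRingCat.ofHom
      (algebraMap (IsLocalRing.ResidueField R) (IsLocalRing.ResidueField R)))))
  have hnod := CoreNodal.isNodalFamily Core.nodalHyp hC hX heq (IsLocalRing.ResidueField R) hred l hl hlk
    Z r Z' ν U h5 h7 h8 h9 h11
  exact ⟨X, p, hX.1, hX.2.1, hnod⟩

end Groth.Agent.Models.K381.CoreNP
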