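import Groth.Agent.Models.K954.OneBranch
import Groth.Agent.Models.K954.NCDef
import Groth.Agent.Models.K111.NCDim
import Groth.Agent.CurvSt.K903.Facts
import Groth.Agent.Vanish.K31.Sect
import Groth.Agent.S3700
import Groth.Agent.Dual.H341.CMSch

/-!
# Normal crossings at smooth points and under étale morphisms; quasi-finite covers

* `ringKrullDim_eq_two`: the closed points of the special fibre of a nodal family over a discrete valuation ring have
  dimension two;
* `nc_of_smooth`, `nc_of_etale`;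
* `exists_piece`: an affine integral piece of a universally open quasi-finite morphism.
-/

set_option autoImplicit false
universe u

open CategoryTheory CategoryTheory.Limits AlgebraicGeometry IsLocalRing
open Groth.Agent.K954.NC

namespace K381.CoverGeom

section Top

theorem isClosed_singleton_of_isDiscrete {X : Type*} [TopologicalSpace X] {S : Set X} (hS : IsClosed S)
    (hd : IsDiscrete S) {z : X} (hz : z ∈ S) : IsClosed ({z} : Set X) := by
  rw [isDiscrete_iff_forall_mem_exists_isOpen] at hd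
  rw [← isOpen_compl_iff, isOpen_iff_forall_mem_open]
  intro w hw
  by_cases hwS : w ∈ S
  · obtain ⟨V, hV, hVS⟩ := hd w hwS
    refine ⟨V, ?_, hV, ?_⟩
    · intro v hv hvz
      rw [Set.mem_singleton_iff] at hvz
      subst hvz
      have : v ∈ ({w} : Set X) := by rw [← hVS]; exact ⟨hv, hz⟩
      exact hw this.symm
    · have : w ∈ V ∩ S := by rw [hVS]; rfl
      exact this.1
  · refine ⟨Sᶜ, ?_, hS.isOpen_compl, hwS⟩
    intro v hv hvz
    rw [Set.mem_singleton_iff] at hvz
    subst hvz
    exact hv hz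

theorem isClosed_singleton {Z X : Scheme.{u}} (f : Z ⟶ X) [LocallyQuasiFinite f] (z : Z)
    (h : IsClosed ({f z} : Set X)) : IsClosed ({z} : Set Z) :=
  isClosed_singleton_of_isDiscrete (h.preimage f.continuous) (f.isDiscrete_preimage_singleton (f z)) rfl

end Top

section Dim

variable {R : Type u} [CommRing R] [IsDomain R] [IsDiscreteValuationRing R] {ϖ : R} (hϖ : Irreducible ϖ)
  {X : Scheme.{u}} (p : X ⟶ Spec (CommRingCat.of R)) (hp : Curv2.IsNodalFamily p) [IsLocallyNoetherian X] (x : X)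
  (hx : p x = (closedPoint R : PrimeSpectrum R)) (hxc : IsClosed ({x} : Set X))

omit [IsDomain R] [IsDiscreteValuationRing R] [IsLocallyNoetherian X] in
include hp hxc in
/-- the dimension of the local ring of the fibre. -/
theorem ringKrullDim_fiber (s : Spec (CommRingCat.of R)) (z : p.fiber s) (hz : p.fiberι s z = x) :
    ringKrullDim ((p.fiber s).presheaf.stalk z) = 1 := by
  have hc : IsClosed ({z} : Set (p.fiber s)) := by
    have h1 := hxc.preimage (p.fiberι s).continuous
    have h2 : (p.fiberι s) ⁻¹' {x} = {z} := by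
      ext w
      simp only [Set.mem_preimage, Set.mem_singleton_iff]
      constructor
      · intro h
        exact (p.fiberι s).isEmbedding.injective (h.trans hz.symm)
      · rintro rfl
        exact hz
    rwa [h2] at h1
  exact K903.Facts.ringKrullDim_stalk (Groth.Agent.Dual.H341.CMSch.topologicalKrullDim_le_of_components _ 1 (hp.2.2 s).1)
    (hp.2.2 s).1 z hc

include hϖ hp hx hxc in
/-- The local rings at the closed points of the special fibre have dimension two. -/
theorem ringKrullDim_eq_two : ringKrullDim (X.presheaf.stalk x) = 2 := by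
  have hpf : Flat p := hp.1
  obtain ⟨z, hz⟩ := K793.Basic.exists_fiber_point p x hx
  have h1 := ringKrullDim_fiber p hp x hxc _ z hz
  have h2 := (K793.Basic.fibEquiv p x hϖ z hz).ringKrullDim
  rw [h1] at h2
  let _ := (DualGr.stalkHom p x).toAlgebra
  have h3 : Module.Flat R (X.presheaf.stalk x) := K793.Basic.flat_stalkHom p x
  have h4 : IsLocalHom (algebraMap R (X.presheaf.stalk x)) := by
    refine ⟨fun r hr => ?_⟩
    have h5 : IsUnit (DualGr.stalkHom p x r) := hr
    rw [K793.Basic.isUnit_stalkHom_iff, hx] at h5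
    by_contra hcon
    exact h5 ((mem_maximalIdeal r).2 hcon)
  have h5 := Groth.Agent.Ega4A.RegEtale.ringKrullDim_eq_add_of_flat R (X.presheaf.stalk x)
  have h6 : (maximalIdeal R).map (algebraMap R (X.presheaf.stalk x)) = Ideal.span {DualGr.stalkHom p x ϖ} := by
    rw [hϖ.maximalIdeal_eq, Ideal.map_span, Set.image_singleton]
    rfl
  have h7 : ringKrullDim R = 1 := IsDiscreteValuationRing.ringKrullDim_eq_one R
  rw [h6, h2, h7, one_add_one_eq_two] at h5
  exact h5

omit [IsDomain R] [IsDiscreteValuationRing R] [IsLocallyNoetherian X] in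
theorem regular_fiber [LocallyOfFinitePresentation p] (hs : x ∈ p.smoothLocus) (s : Spec (CommRingCat.of R))
    (z : p.fiber s) (hz : p.fiberι s z = x) : IsRegularLocalRing ((p.fiber s).presheaf.stalk z) := by
  have h0 : p x = s := by
    have h1 : x ∈ Set.range (p.fiberι s) := ⟨z, hz⟩
    rw [p.range_fiberι] at h1
    exact h1
  subst h0
  obtain rfl : z = p.asFiber x := (p.fiberι (p x)).isEmbedding.injective (hz.trans (p.fiberι_asFiber x).symm)
  exact Groth.Agent.S3700.isRegularLocalRing_fiberStalk p x hs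

include hϖ hp hx hxc in
/-- Normal crossings at the smooth closed points of the special fibre. -/
theorem nc_of_smooth [LocallyOfFinitePresentation p] (hs : x ∈ p.smoothLocus) : NCAt p ϖ x := by
  have hR : IsRegularLocalRing R := inferInstance
  have hreg : IsRegularLocalRing (X.presheaf.stalk x) :=
    Groth.Agent.Ega4dB.SmoothReg.isRegularLocalRing_stalk_of_mem_smoothLocus p x hs
      (K111.NCDim.regular_stalk_spec (A := R) (p x))
  have hmem : DualGr.stalkHom p x ϖ ∈ maximalIdeal (X.presheaf.stalk x) := by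
    rw [mem_maximalIdeal, mem_nonunits_iff, K793.Basic.isUnit_stalkHom_iff_ne p x hϖ, not_not]
    exact hx
  refine ⟨hreg, ringKrullDim_eq_two hϖ p hp x hx hxc, hmem, ?_⟩
  obtain ⟨z, hz⟩ := K793.Basic.exists_fiber_point p x hx
  have h1 := regular_fiber p x hs _ z hz
  have h2 := ringKrullDim_fiber p hp x hxc _ z hz
  have h3 : IsRegularLocalRing (X.presheaf.stalk x ⧸ Ideal.span {DualGr.stalkHom p x ϖ}) :=
    IsRegularLocalRing.of_ringEquiv (K793.Basic.fibEquiv p x hϖ z hz).symm
  have h4 : ringKrullDim (X.presheaf.stalk x ⧸ Ideal.span {DualGr.stalkHom p x ϖ}) = 1 := by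
    rw [(K793.Basic.fibEquiv p x hϖ z hz).ringKrullDim, h2]
  have hd : IsDomain (X.presheaf.stalk x ⧸ Ideal.span {DualGr.stalkHom p x ϖ}) :=
    Groth.Agent.CalgA.RegBasic.isDomain _
  have h5 : IsDiscreteValuationRing (X.presheaf.stalk x ⧸ Ideal.span {DualGr.stalkHom p x ϖ}) :=
    Groth.Agent.VarietyA.SmoothReg.isDiscreteValuationRing_of_isRegularLocalRing _ h4
  obtain ⟨b, hb⟩ := IsDiscreteValuationRing.exists_irreducible
    (X.presheaf.stalk x ⧸ Ideal.span {DualGr.stalkHom p x ϖ})
  obtain ⟨v, rfl⟩ := Ideal.Quotient.mk_surjective b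
  have hloc : IsLocalHom (Ideal.Quotient.mk (Ideal.span {DualGr.stalkHom p x ϖ})) :=
    IsLocalHom.of_surjective _ Ideal.Quotient.mk_surjective
  refine ⟨1, DualGr.stalkHom p x ϖ, v, 1, 0, isUnit_one, ?_, by ring⟩
  apply le_antisymm
  · intro a ha
    have h6 : Ideal.Quotient.mk (Ideal.span {DualGr.stalkHom p x ϖ}) a ∈
        maximalIdeal (X.presheaf.stalk x ⧸ Ideal.span {DualGr.stalkHom p x ϖ}) := by
      rw [mem_maximalIdeal, mem_nonunits_iff]
      intro h
      exact (mem_maximalIdeal a).1 ha (isUnit_of_map_unit _ _ h)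
    rw [hb.maximalIdeal_eq, Ideal.mem_span_singleton'] at h6
    obtain ⟨c, hc⟩ := h6
    obtain ⟨c, rfl⟩ := Ideal.Quotient.mk_surjective c
    rw [← map_mul, Ideal.Quotient.eq, Ideal.mem_span_singleton'] at hc
    obtain ⟨d, hd⟩ := hc
    rw [Ideal.mem_span_pair]
    exact ⟨-d, c, by linear_combination -hd⟩
  · rw [Ideal.span_le]
    rintro a (rfl | rfl)
    · exact hmem
    · rw [SetLike.mem_coe, mem_maximalIdeal, mem_nonunits_iff]
      intro h
      exact hb.not_isUnit (h.map _)

end Dim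

section Etale

theorem nc_of_etale {R : Type u} [CommRing R] {ϖ : R} {X Z : Scheme.{u}} (p : X ⟶ Spec (CommRingCat.of R))
    (h : Z ⟶ X) [Etale h] [IsLocallyNoetherian X] (z : Z) (H : NCAt p ϖ (h z)) : NCAt (h ≫ p) ϖ z := by
  have hreg := H.regular
  have hst : DualGr.stalkHom (h ≫ p) z ϖ = (h.stalkMap z).hom (DualGr.stalkHom p (h z) ϖ) :=
    K111.NCStep.stalkHom_comp' p h z ϖ
  refine ⟨Groth.Agent.Ega4dB.SmoothReg.isRegularLocalRing_stalk_of_smooth h z H.regular,
    (Groth.Agent.S0120.result h z).trans H.dim, ?_, ?_⟩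
  · rw [hst, ← Groth.Agent.K954.OneBranch.map_max h z]
    exact Ideal.mem_map_of_mem _ H.mem
  · obtain ⟨c, u, v, a, b, hc, hm, he⟩ := H.mono
    refine ⟨(h.stalkMap z).hom c, (h.stalkMap z).hom u, (h.stalkMap z).hom v, a, b, hc.map _, ?_, ?_⟩
    · rw [← Groth.Agent.K954.OneBranch.map_max h z, hm, Ideal.map_span, Set.image_pair]
    · rw [hst, he, map_mul, map_mul, map_pow, map_pow]

theorem nc_comp_spec {A B : Type u} [CommRing A] [CommRing B] (ψ : A →+* B) {X : Scheme.{u}}
    (h : X ⟶ Spec (CommRingCat.of B)) (x : X) (a : A) (H : NCAt h (ψ a) x) :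
    NCAt (h ≫ Spec.map (CommRingCat.ofHom ψ)) a x := by
  have hst := Groth.Agent.K382.NodeOpen.stalkHom_comp ψ h x a
  refine ⟨H.regular, H.dim, ?_, ?_⟩
  · rw [hst]; exact H.mem
  · obtain ⟨c, u, v, m, n, hc, hm, he⟩ := H.mono
    exact ⟨c, u, v, m, n, hc, hm, by rw [hst]; exact he⟩

end Etale

section Piece

/-- An affine integral piece. -/
theorem exists_piece {R : Type u} [CommRing R] {ϖ : R} {X P : Scheme.{u}} (p : X ⟶ Spec (CommRingCat.of R))
    (g : P ⟶ X) [IsLocallyNoetherian P] [LocallyOfFiniteType g] [UniversallyOpen g] [LocallyQuasiFinite g]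
    (O : P.Opens) (hO : ∀ y ∈ O, IsRegularLocalRing (P.presheaf.stalk y)) (y : P) (hy : y ∈ O)
    (hyc : IsClosed ({g y} : Set X)) (hNC : NCAt (g ≫ p) ϖ y) :
    ∃ (Z : Scheme.{u}) (f : Z ⟶ X) (z : Z), IsIntegral Z ∧ IsAffine Z ∧ IsNoetherian Z ∧ LocallyOfFiniteType f ∧
      UniversallyOpen f ∧ (∀ z', IsIntegrallyClosed (Z.presheaf.stalk z')) ∧ IsClosed ({z} : Set Z) ∧ f z = g y ∧
      NCAt (f ≫ p) ϖ z := by
  have hreg := hO y hy
  have hdom : IsDomain (P.presheaf.stalk y) := Groth.Agent.CalgA.RegBasic.isDomain _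
  obtain ⟨V, hyV, hVO, hV⟩ := K31.Sect.exists_integral_nhd y O hy
  obtain ⟨U, hU, hyU, hUV⟩ := exists_isAffineOpen_mem_and_subset hyV
  have hUa : IsAffine (U : Scheme.{u}) := hU
  have hne : Nonempty (U : Scheme.{u}) := ⟨⟨y, hyU⟩⟩
  have hUi : IsIntegral (U : Scheme.{u}) := isIntegral_of_isOpenImmersion (P.homOfLE hUV)
  have hUN : IsLocallyNoetherian (U : Scheme.{u}) := isLocallyNoetherian_of_isOpenImmersion U.ι
  refine ⟨U, U.ι ≫ g, ⟨y, hyU⟩, hUi, hUa, ⟨⟩, inferInstance, inferInstance, ?_, ?_, rfl, ?_⟩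
  · intro z
    have h1 : IsRegularLocalRing (P.presheaf.stalk z.1) := hO z.1 (hVO (hUV z.2))
    have h2 : IsIntegrallyClosed (P.presheaf.stalk z.1) := Groth.Agent.CurvesC.RegNormal.isIntegrallyClosed _
    exact IsIntegrallyClosed.of_equiv (U.stalkIso z).symm.commRingCatIsoToRingEquiv
  · exact isClosed_singleton (U.ι ≫ g) ⟨y, hyU⟩ hyc
  · rw [Category.assoc]
    exact nc_of_etale (g ≫ p) U.ι ⟨y, hyU⟩ hNC

end Piece

end K381.CoverGeom
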