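import Groth.Agent.Models.K381.CoverAlg
import Groth.Agent.Models.K381.CoverGeom

/-!
# A universally open quasi-finite chart with normal crossings at a point of a nodal family

Let `p : X ⟶ Spec R` be a nodal family over a discrete valuation ring, smooth outside the special fibre, `x` a closed
point of the special fibre. There are `f : Z ⟶ X` of finite type, universally open, with `Z` affine, integral and
normal, and a closed point `z` of `Z` over `x` at which the uniformizer has normal crossings.
-/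

set_option autoImplicit false
universe u

open CategoryTheory CategoryTheory.Limits AlgebraicGeometry IsLocalRing
open Groth.Agent.Models.NodeRing Groth.Agent.Models.NodeBlow Groth.Agent.Models.NodeStep
open Groth.Agent.K954.NC

namespace Groth.Agent.K381.Cover

section Chart

variable {R : Type u} [CommRing R] [IsDomain R] [IsDiscreteValuationRing R] {ϖ : R} (hϖ : Irreducible ϖ)
  {X : Scheme.{u}} {p : X ⟶ Spec (CommRingCat.of R)} [IsLocallyNoetherian X] [LocallyOfFinitePresentation p]
  (hsm : ∀ x, p x ≠ (closedPoint R : PrimeSpectrum R) → x ∈ p.smoothLocus) {x : X} (C : K793.Chart.NChart R ϖ p x)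
  (hu : uu C.D C.a ∈ (C.g C.y).asIdeal) (hv : vv C.D C.a ∈ (C.g C.y).asIdeal)

include hϖ hsm hu hv in
/-- The equation of the node is `uv = ϖ ^ n` with `n` positive. -/
theorem exists_pow : ∃ n : ℕ, n ≠ 0 ∧ C.a = C.t ^ n := by
  rcases C.ha with ha | ⟨n, hn⟩
  · exfalso
    let ψ : W C.D C.a →+* C.D := lift (RingHom.id _) 0 0 (by rw [ha]; simp)
    let P0 : Spec (CommRingCat.of (W C.D C.a)) := ⟨RingHom.ker ψ, RingHom.ker_isPrime ψ⟩
    have hle : Ideal.span {uu C.D C.a, vv C.D C.a} ≤ RingHom.ker ψ := by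
      rw [Ideal.span_le]
      rintro w (rfl | rfl)
      · rw [SetLike.mem_coe, RingHom.mem_ker]; simp [ψ]
      · rw [SetLike.mem_coe, RingHom.mem_ker]; simp [ψ]
    have hsp : P0 ⤳ C.g C.y := by
      refine (PrimeSpectrum.le_iff_specializes (R := W C.D C.a) _ _).1 ?_
      change RingHom.ker ψ ≤ (C.g C.y).asIdeal
      intro w hw
      obtain ⟨d, hd⟩ := exists_sub_mem w
      have h1 := sub_mem hw (hle hd)
      rw [sub_sub_cancel, RingHom.mem_ker, lift_algebraMap, RingHom.id_apply] at h1
      rw [h1, map_zero, sub_zero] at hd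
      have h2 : Ideal.span {uu C.D C.a, vv C.D C.a} ≤ (C.g C.y).asIdeal := by
        rw [Ideal.span_le]
        rintro w (rfl | rfl)
        · exact hu
        · exact hv
      exact h2 hd
    obtain ⟨y', hy', h2⟩ := (Flat.generalizingMap C.g) hsp
    have ht : algebraMap C.D (W C.D C.a) C.t ∉ (C.g y').asIdeal := by
      rw [h2]
      change algebraMap C.D (W C.D C.a) C.t ∉ RingHom.ker ψ
      rw [RingHom.mem_ker, lift_algebraMap, RingHom.id_apply]
      exact C.irr.ne_zero
    rw [C.t_mem_iff hϖ] at ht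
    have h3 : IsRegularLocalRing (X.presheaf.stalk (C.e y')) :=
      Groth.Agent.Ega4dB.SmoothReg.isRegularLocalRing_stalk_of_mem_smoothLocus p _ (hsm _ ht)
        (K111.NCDim.regular_stalk_spec (A := R) _)
    rw [C.isRegular_iff, stalk_isRegular_iff, h2] at h3
    have h4 : P0.asIdeal.IsPrime := P0.isPrime
    exact Groth.Agent.Models.NodeRing.not_isRegular_zero ha P0.asIdeal (hle (Ideal.subset_span (by simp)))
      (hle (Ideal.subset_span (by simp))) h3
  · refine ⟨n, ?_, hn⟩
    rintro rfl
    rw [pow_zero] at hn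
    have h1 : algebraMap C.D (W C.D C.a) C.a ∈ (C.g C.y).asIdeal := by
      rw [← uu_mul_vv]
      exact Ideal.mul_mem_right _ _ hu
    have h2 : algebraMap C.D (W C.D C.a) C.a = 1 := (congrArg (algebraMap C.D (W C.D C.a)) hn).trans (map_one _)
    rw [h2] at h1
    exact (C.g C.y).isPrime.ne_top ((Ideal.eq_top_iff_one _).2 h1)

end Chart

/-- Normal crossings at the origin of `Spec D[u,v]/(uv - t)`. -/
theorem nc_origin {D : Type u} [CommRing D] [IsDomain D] [IsDiscreteValuationRing D] {t : D} (ht : Irreducible t) :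
    NCAt (str D t) t (_root_.K381.CoverAlg.o ht) := by
  have hN1 : IsNoetherianRing (W D t) := inferInstance
  have hN2 : IsNoetherianRing (CommRingCat.of (W D t)) := hN1
  have hreg : IsRegularLocalRing ((Spec (CommRingCat.of (W D t))).presheaf.stalk (_root_.K381.CoverAlg.o ht)) :=
    stalk_isRegular_of_le_one t ht 1 le_rfl (pow_one t).symm _
  have hst : DualGr.stalkHom (𝟙 (Spec (CommRingCat.of (W D t)))) (_root_.K381.CoverAlg.o ht) =
      ((Spec (CommRingCat.of (W D t))).presheaf.germ ⊤ (_root_.K381.CoverAlg.o ht) trivial).hom.comp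
        (Scheme.ΓSpecIso (CommRingCat.of (W D t))).inv.hom := by
    exact RingHom.ext fun w => rfl
  have hm := K793.Basic.maximalIdeal_stalk (R := W D t) (_root_.K381.CoverAlg.o ht)
  rw [← hst] at hm
  have ho : (_root_.K381.CoverAlg.o ht).asIdeal = Ideal.span {uu D t, vv D t} := _root_.K381.CoverAlg.orig_eq
  rw [ho, Ideal.map_span, Set.image_pair] at hm
  refine ⟨hreg, ?_, ?_, ?_⟩
  · exact _root_.K381.CoverGeom.ringKrullDim_eq_two ht (str D t) (Groth.Agent.Models.NodeNodal.isNodalFamily D t) _
      (_root_.K381.CoverAlg.str_o ht) (_root_.K381.CoverAlg.isClosed_o ht)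
  · rw [mem_maximalIdeal, mem_nonunits_iff, K793.Basic.isUnit_stalkHom_iff_ne _ _ ht, not_not]
    exact _root_.K381.CoverAlg.str_o ht
  · refine ⟨1, _, _, 1, 1, isUnit_one, hm, ?_⟩
    have h1 := Groth.Agent.K382.NodeOpen.stalkHom_comp (algebraMap D (W D t)) (𝟙 (Spec (CommRingCat.of (W D t))))
      (_root_.K381.CoverAlg.o ht) t
    rw [Category.id_comp, ← uu_mul_vv, map_mul] at h1
    rw [one_mul, pow_one, pow_one]
    exact h1

theorem exists_cover {R : Type u} [CommRing R] [IsDomain R] [IsDiscreteValuationRing R] {ϖ : R} (h : Irreducible ϖ)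
    {X : Scheme.{u}} (p : X ⟶ Spec (CommRingCat.of R)) [LocallyOfFiniteType p] (hp : Curv2.IsNodalFamily p)
    (hsm : ∀ x, p x ≠ (closedPoint R : PrimeSpectrum R) → x ∈ p.smoothLocus) (x : X)
    (hx : p x = (closedPoint R : PrimeSpectrum R)) (hxc : IsClosed ({x} : Set X)) :
    ∃ (Z : Scheme.{u}) (f : Z ⟶ X) (z : Z), IsIntegral Z ∧ IsAffine Z ∧ IsNoetherian Z ∧ LocallyOfFiniteType f ∧
      UniversallyOpen f ∧ (∀ z', IsIntegrallyClosed (Z.presheaf.stalk z')) ∧ IsClosed ({z} : Set Z) ∧ f z = x ∧
      Groth.Agent.K954.NC.NCAt (f ≫ p) ϖ z := by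
  have hXN : IsLocallyNoetherian X := LocallyOfFiniteType.isLocallyNoetherian p
  have hpf : LocallyOfFinitePresentation p := hp.2.1
  by_cases hs : x ∈ p.smoothLocus
  · refine _root_.K381.CoverGeom.exists_piece p (𝟙 X) p.smoothLocus (fun y hy => ?_) x hs hxc ?_
    · exact Groth.Agent.Ega4dB.SmoothReg.isRegularLocalRing_stalk_of_mem_smoothLocus p y hy
        (K111.NCDim.regular_stalk_spec (A := R) _)
    · rw [Category.id_comp]
      exact _root_.K381.CoverGeom.nc_of_smooth h p hp x hx hxc hs
  · obtain ⟨C⟩ := K793.Chart.exists_nchart h p hp x hx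
    have hu := Groth.Agent.K382.NodeOpen.uu_mem C hs
    have hv := Groth.Agent.K382.NodeOpen.vv_mem C hs
    obtain ⟨n, hn, ha⟩ := exists_pow h hsm C hu hv
    have htm : algebraMap C.D (W C.D C.a) C.t ∈ (C.g C.y).asIdeal := by
      rw [C.t_mem_iff h, C.hy]; exact hx
    let φ := Spec.map (CommRingCat.ofHom (_root_.K381.CoverAlg.pw ha))
    have i1 : UniversallyOpen φ := _root_.K381.CoverAlg.universallyOpen_pw C.irr ha hn
    have i2 : IsFinite φ := _root_.K381.CoverAlg.isFinite_pw ha hn
    have hφ : φ (_root_.K381.CoverAlg.o C.irr) = C.g C.y := _root_.K381.CoverAlg.map_o C.irr ha hn _ hu hv htm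
    obtain ⟨y, h1, h2⟩ := Scheme.Pullback.exists_preimage_pullback (f := C.g) (g := φ) C.y
      (_root_.K381.CoverAlg.o C.irr) hφ.symm
    have i3 : LocallyQuasiFinite C.e := K793.Chart.locallyQuasiFinite_of_etale C.e
    have hN1 : IsNoetherianRing (W C.D C.t) := inferInstance
    have hN2 : IsNoetherianRing (CommRingCat.of (W C.D C.t)) := hN1
    have i4 : IsLocallyNoetherian (Spec (CommRingCat.of (W C.D C.t))) := inferInstance
    have i5 : IsLocallyNoetherian (pullback C.g φ) := LocallyOfFiniteType.isLocallyNoetherian (pullback.snd C.g φ)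
    have hw : (pullback.fst C.g φ ≫ C.e) ≫ p = (pullback.snd C.g φ ≫ str C.D C.t) ≫
        Spec.map (CommRingCat.ofHom (algebraMap R C.D)) := by
      rw [Category.assoc, ← C.w, ← Category.assoc, pullback.condition, Category.assoc, Category.assoc]
      congr 1
      rw [← Category.assoc]
      congr 1
      rw [← Spec.map_comp, ← CommRingCat.ofHom_comp, _root_.K381.CoverAlg.pw_comp]
    have hy : (pullback.fst C.g φ ≫ C.e) y = x := by
      rw [Scheme.Hom.comp_apply, h1, C.hy]
    have hmain := _root_.K381.CoverGeom.exists_piece p (pullback.fst C.g φ ≫ C.e) (ϖ := ϖ) ⊤ (fun w _ => ?_) y trivial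
      (by rw [hy]; exact hxc) ?_
    · rw [hy] at hmain
      exact hmain
    · exact Groth.Agent.Ega4dB.SmoothReg.isRegularLocalRing_stalk_of_smooth (pullback.snd C.g φ) w
        (stalk_isRegular_of_le_one C.t C.irr 1 le_rfl (pow_one C.t).symm _)
    · rw [hw]
      apply _root_.K381.CoverGeom.nc_comp_spec
      apply _root_.K381.CoverGeom.nc_of_etale
      rw [h2]
      exact nc_origin C.irr

end Groth.Agent.K381.Cover
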