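import Groth.Agent.Models.K381.ResModel
import Groth.Agent.Sga67.BlowAmple
import Groth.Agent.GrpQ.H770.LocQS
import Groth.Agent.S2324
import Groth.Agent.Ega2.AmpleUnit

/-!
# Morphisms for which finite sets over an affine open lie in an affine open
-/

set_option autoImplicit false
universe u

open AlgebraicGeometry CategoryTheory CategoryTheory.Limits IsLocalRing TopologicalSpace

namespace K381.AFin

/-- Every finite set of points of `X` lying over an affine open `W` of `Y` lies in an affine open contained in the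
preimage of `W`. -/
def RelAF {X Y : Scheme.{u}} (f : X ⟶ Y) : Prop :=
  ∀ W : Y.Opens, IsAffineOpen W → ∀ F : Set X, F.Finite → F ⊆ f ⁻¹ᵁ W →
    ∃ W' : X.Opens, IsAffineOpen W' ∧ W' ≤ f ⁻¹ᵁ W ∧ F ⊆ W'

theorem RelAF.comp {X Y Z : Scheme.{u}} {f : X ⟶ Y} {g : Y ⟶ Z} (hf : RelAF f) (hg : RelAF g) : RelAF (f ≫ g) := by
  intro W hW F hF hFW
  obtain ⟨W', hW', h1, h2⟩ := hg W hW (f '' F) (hF.image f) (by rintro _ ⟨x, hx, rfl⟩; exact hFW hx)
  obtain ⟨W'', hW'', h3, h4⟩ := hf W' hW' F hF (fun x hx => h2 ⟨x, hx, rfl⟩)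
  exact ⟨W'', hW'', h3.trans fun x hx => h1 hx, h4⟩

theorem RelAF.of_isAffineHom {X Y : Scheme.{u}} (f : X ⟶ Y) [IsAffineHom f] : RelAF f := fun W hW _ _ hFW =>
  ⟨f ⁻¹ᵁ W, hW.preimage f, le_rfl, hFW⟩

theorem RelAF.projSpaceOver (n : ℕ) (S : Scheme.{u}) : RelAF (CohB1.ProjSpaceOver.toBase n S) := by
  intro W hW F hF hFW
  obtain ⟨A, hA, h1, h2⟩ := Groth.Agent.GrpQ.H770.LocQS.exists_affine_of_finite (𝟙 (CohB1.ProjSpaceOver n S)) W hW F hF
    (fun x hx => by simpa using hFW hx) (CohB1.ProjSpaceOver.toBase n S ⁻¹ᵁ W) hFW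
  exact ⟨A, hA, h2, h1⟩

theorem RelAF.of_isBlowUp {X X' : Scheme.{u}} [IsLocallyNoetherian X] {J : X.IdealSheafData} {b : X' ⟶ X}
    (hb : BlowUp.IsBlowUp b J) : RelAF b := by
  intro W hW F hF hFW
  have hp : IsProper b :=
    Groth.Agent.Flat2C.BlowProper.isProper_of_isBlowUp hb (K381.ResModel.isFiniteTypeIdeal J)
  have h1 := Groth.Agent.Divis.BlowUpFormal.isBlowUp_morphismRestrict hb W
  have haff : IsAffine (W : Scheme.{u}) := hW
  obtain ⟨M, hM⟩ := Groth.Agent.Sga67.BlowAmple.exists_isAmple h1 _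
    (Groth.Agent.Ega2.Weight.isAmple_structureModule (W : Scheme.{u}))
  have hsep : (b ⁻¹ᵁ W : Scheme.{u}).IsSeparated := by
    have : IsSeparated (b ∣_ W) := inferInstance
    exact (Scheme.isSeparated_iff _).mpr (by
      rw [← terminal.comp_from (b ∣_ W)]; infer_instance)
  have hcpt : CompactSpace (b ⁻¹ᵁ W : Scheme.{u}) := by
    exact QuasiCompact.compactSpace_of_compactSpace (b ∣_ W)
  obtain ⟨n, s, h2, h3, h4⟩ := Groth.Agent.S2324.result (b ⁻¹ᵁ W : Scheme.{u}) M hM ((b ⁻¹ᵁ W).ι ⁻¹' F)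
    (hF.preimage (b ⁻¹ᵁ W).ι.isOpenEmbedding.injective.injOn) ⊤ (fun _ _ => trivial)
  refine ⟨(b ⁻¹ᵁ W).ι ''ᵁ (CohB1.genLocus _ s), h4.image_of_isOpenImmersion _, ?_, ?_⟩
  · rintro _ ⟨x, -, rfl⟩
    exact x.2
  · intro x hx
    exact ⟨⟨x, hFW hx⟩, h2 hx, rfl⟩

end K381.AFin
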