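import Groth.Agent.Models.K381.ClosPt
import Groth.Agent.CycB.PushLocal
import Groth.Agent.Models.DVRGeneric

/-!
# Closures of closed points of the generic fibre (S16554)
-/

set_option autoImplicit false
universe u

open AlgebraicGeometry CategoryTheory CategoryTheory.Limits IsLocalRing TopologicalSpace
attribute [local instance] Curv2.resAlgebra

namespace K381.ClosMain

open K381.StHom K381.ClosPt

variable {R : Type u} [CommRing R] [IsDomain R] [IsDiscreteValuationRing R]

theorem main (hk : IsAlgClosed (ResidueField R)) {C : Scheme.{u}} [C.Over (Spec (CommRingCat.of (FractionRing R)))]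
    (X : Over (Spec (CommRingCat.of R))) [IsProper X.hom] (iX : C ⟶ X.left)
    (hiX : IsPullback iX (C ↘ Spec (CommRingCat.of (FractionRing R))) X.hom
      (Spec.map (CommRingCat.ofHom (algebraMap R (FractionRing R)))))
    (x : X.left) (P : C) (hP : IsClosed ({P} : Set C))
    (hPx : closure ({iX.base P} : Set X.left) ∩ Models.specialFibreSet R X = {x})
    (ϖ : R) (hϖ : Irreducible ϖ) {n : ℕ} (r : Fin n → ℕ) (g : Fin n → X.left.presheaf.stalk x)
    (hg : ∀ i, g i ∈ maximalIdeal (X.left.presheaf.stalk x))
    (h : Ideal.span {Models.stalkHom R X x ϖ} = Ideal.span {∏ i, g i ^ r i}) :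
    ∃ c : Fin n → ℕ, (∀ i, 1 ≤ c i) ∧
      Module.finrank (FractionRing R) (C.residueField P) = ∑ i, c i * r i := by
  have ho : IsOpenImmersion (Spec.map (CommRingCat.ofHom (algebraMap R (FractionRing R)))) :=
    Groth.Agent.Models.DVRGeneric.isOpenImmersion_generic R (FractionRing R)
  have ho₁ : IsOpenImmersion iX := MorphismProperty.of_isPullback (P := @IsOpenImmersion) hiX.flip ho
  obtain ⟨D, i, hDi, hi, ζ, rfl, hζ⟩ := Groth.Agent.CycB.PushLocal.exists_integral_closedImmersion (iX P)
  have hrange : Set.range i = closure {iX P} := by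
    apply subset_antisymm
    · rintro _ ⟨z, rfl⟩
      have := (_root_.genericPoint_specializes z).map i.continuous
      rw [hζ] at this
      exact this.mem_closure
    · refine closure_minimal ?_ i.isClosedEmbedding.isClosed_range
      rintro _ rfl
      exact ⟨_, hζ⟩
  have hxm : x ∈ closure ({iX.base P} : Set X.left) ∩ Models.specialFibreSet R X := by rw [hPx]; rfl
  obtain ⟨d₀, hd₀⟩ : x ∈ Set.range i := by rw [hrange]; exact hxm.1
  subst hd₀
  have h₀ : (i ≫ X.hom) d₀ = closedPoint R := hxm.2
  have hXP : X.hom (iX P) ≠ closedPoint R := by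
    rw [← Scheme.Hom.comp_apply, hiX.w, Scheme.Hom.comp_apply]
    intro h1
    have h2 := congrArg PrimeSpectrum.asIdeal h1
    change Ideal.comap (algebraMap R (FractionRing R)) ((C ↘ Spec (CommRingCat.of (FractionRing R))) P).asIdeal =
      maximalIdeal R at h2
    have h3 : ((C ↘ Spec (CommRingCat.of (FractionRing R))) P).asIdeal = ⊥ :=
      (Ideal.eq_bot_or_top _).resolve_right ((C ↘ Spec (CommRingCat.of (FractionRing R))) P).2.ne_top
    rw [h3, ← RingHom.ker_eq_comap_bot, (RingHom.injective_iff_ker_eq_bot _).mp
      (IsFractionRing.injective R (FractionRing R))] at h2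
    exact IsDiscreteValuationRing.not_a_field R h2.symm
  have hη : (i ≫ X.hom) (genericPoint D) ≠ closedPoint R := by
    rw [Scheme.Hom.comp_apply, hζ]
    exact hXP
  have hall : ∀ d : D, d = genericPoint D ∨ d = d₀ := by
    intro d
    have hdm : i d ∈ closure {iX P} := hrange ▸ ⟨d, rfl⟩
    by_cases hd : X.hom (i d) = closedPoint R
    · right
      have h1 : i d ∈ closure ({iX.base P} : Set X.left) ∩ Models.specialFibreSet R X := ⟨hdm, hd⟩
      rw [hPx] at h1
      exact i.isClosedEmbedding.injective h1
    · left
      have h1 : X.hom (i d) = X.hom (iX P) :=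
        PrimeSpectrum.ext ((eq_bot_of_ne _ hd).trans (eq_bot_of_ne _ hXP).symm)
      have h2 : X.hom (iX P) = Spec.map (CommRingCat.ofHom (algebraMap R (FractionRing R)))
          ((C ↘ Spec (CommRingCat.of (FractionRing R))) P) := by
        rw [← Scheme.Hom.comp_apply, hiX.w, Scheme.Hom.comp_apply]
      obtain ⟨c, hc, -⟩ := Scheme.exists_preimage_of_isPullback hiX (i d)
        ((C ↘ Spec (CommRingCat.of (FractionRing R))) P) (h1.trans h2)
      have h3 : iX P ⤳ iX c := by rw [hc]; exact specializes_iff_mem_closure.mpr hdm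
      have h4 : P ⤳ c := iX.isOpenEmbedding.isInducing.specializes_iff.mp h3
      have h5 : c ∈ closure {P} := h4.mem_closure
      rw [hP.closure_eq] at h5
      obtain rfl : c = P := h5
      apply i.isClosedEmbedding.injective
      change i d = i (genericPoint D)
      rw [hζ, hc]
  have hxs : iX P ⤳ i (genericPoint D) := by rw [hζ]
  have hspec : Function.Surjective (X.left.presheaf.stalkSpecializes hxs) := by
    have h1 := (X.left.presheaf.stalkCongr (.of_eq hζ.symm)).isIso_inv
    exact (ConcreteCategory.bijective_of_isIso ((X.left.presheaf.stalkCongr (.of_eq hζ.symm)).inv)).2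
  let α : X.left.presheaf.stalk (i (genericPoint D)) →+* D.presheaf.stalk (genericPoint D) :=
    (i.stalkMap (genericPoint D)).hom
  let β : X.left.presheaf.stalk (i (genericPoint D)) →+* C.residueField P :=
    (C.residue P).hom.comp ((iX.stalkMap P).hom.comp (X.left.presheaf.stalkSpecializes hxs).hom)
  have hα : Function.Surjective α := i.stalkMap_surjective (genericPoint D)
  have hβ : Function.Surjective β := by
    have h1 : Function.Surjective (iX.stalkMap P) := (ConcreteCategory.bijective_of_isIso (iX.stalkMap P)).2
    exact (C.residue_surjective P).comp (h1.comp hspec)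
  have hFD : IsField (D.presheaf.stalk (genericPoint D)) :=
    (show IsField D.functionField from Field.toIsField D.functionField)
  obtain ⟨e, he⟩ := exists_equiv hFD (Field.toIsField (C.residueField P)) α β hα hβ
  have hge : ∀ j, (i.stalkMap d₀).hom (g j) ∈ maximalIdeal (D.presheaf.stalk d₀) := fun j => by
    rw [mem_maximalIdeal, mem_nonunits_iff]
    intro hu
    exact (mem_maximalIdeal _).mp (hg j) (isUnit_of_map_unit (i.stalkMap d₀).hom (g j) hu)
  refine finrank_eq hk (i ≫ X.hom) d₀ h₀ hη hall ϖ hϖ r (fun j => (i.stalkMap d₀).hom (g j)) hge ?_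
    (C.residueField P) e fun a => ?_
  · have h1 := congrArg (Ideal.map (i.stalkMap d₀).hom) h
    rw [Ideal.map_span, Ideal.map_span, Set.image_singleton, Set.image_singleton, map_prod] at h1
    simp only [map_pow] at h1
    rw [← h1, ← st_comp]
    rfl
  · have h1 : st (i ≫ X.hom) (genericPoint D) a = α (st X.hom (i (genericPoint D)) a) := by
      rw [← st_comp]; rfl
    rw [h1, he]
    have h2 : (X.left.presheaf.stalkSpecializes hxs).hom (st X.hom (i (genericPoint D)) a) = st X.hom (iX P) a := by
      rw [← stalkSpecializes_st X.hom _ hxs]; rfl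
    have h3 : (iX.stalkMap P).hom (st X.hom (iX P) a) = st (iX ≫ X.hom) P a := by
      rw [← st_comp]; rfl
    have h4 : st (iX ≫ X.hom) P a = st (C ↘ Spec (CommRingCat.of (FractionRing R))) P (algebraMap R (FractionRing R) a) := by
      rw [hiX.w, ← st_base]; rfl
    change (C.residue P).hom ((iX.stalkMap P).hom ((X.left.presheaf.stalkSpecializes hxs).hom
      (st X.hom (i (genericPoint D)) a))) = _
    rw [h2, h3, h4]
    rfl

end K381.ClosMain
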