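import Groth.Agent.Models.K381.FinLen

/-!
# The rank of a finite local domain over a discrete valuation ring as a sum of multiplicities
-/

set_option autoImplicit false
universe u

open IsLocalRing

namespace K381.OrdSum

theorem ord_prod {S : Type*} [CommRing S] [IsDomain S] {ι : Type*} (s : Finset ι) (g : ι → S) (hg : ∀ i ∈ s, g i ≠ 0) :
    Ring.ord S (∏ i ∈ s, g i) = ∑ i ∈ s, Ring.ord S (g i) := by
  classical
  induction s using Finset.induction_on with
  | empty => simp
  | insert a s ha ih =>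
    rw [Finset.prod_insert ha, Finset.sum_insert ha, mul_comm, Ring.ord_mul S (mem_nonZeroDivisors_of_ne_zero
      (hg a (Finset.mem_insert_self _ _))), ih fun i hi => hg i (Finset.mem_insert_of_mem hi), add_comm]

theorem one_le_ord {S : Type*} [CommRing S] [IsLocalRing S] {f : S} (hf : f ∈ maximalIdeal S) : 1 ≤ Ring.ord S f := by
  rw [Order.one_le_iff_ne_zero, Ring.ord, Ne, Module.length_eq_zero_iff]
  intro h
  rw [Submodule.Quotient.subsingleton_iff] at h
  have h1 : Ideal.span {f} ≤ maximalIdeal S := by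
    rw [Ideal.span_le, Set.singleton_subset_iff]; exact hf
  rw [h, top_le_iff] at h1
  exact (maximalIdeal.isMaximal S).ne_top h1

theorem exists_coeff (R : Type u) [CommRing R] [IsDomain R] [IsDiscreteValuationRing R]
    (hk : IsAlgClosed (ResidueField R)) (S : Type u) [CommRing S] [IsDomain S] [IsLocalRing S] [Algebra R S]
    [Module.Finite R S] [IsLocalHom (algebraMap R S)] (hinj : Function.Injective (algebraMap R S)) (ϖ : R)
    (hϖ : Irreducible ϖ) {n : ℕ} (r : Fin n → ℕ) (f : Fin n → S) (hf : ∀ i, f i ∈ maximalIdeal S)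
    (h : Ideal.span {algebraMap R S ϖ} = Ideal.span {∏ i, f i ^ r i}) :
    ∃ c : Fin n → ℕ, (∀ i, 1 ≤ c i) ∧ Module.finrank R S = ∑ i, c i * r i := by
  classical
  have h0 : (∏ i, f i ^ r i) ≠ 0 := by
    intro h0
    rw [h0, Ideal.span_singleton_eq_span_singleton, associated_zero_iff_eq_zero] at h
    exact hϖ.ne_zero (hinj (h.trans (map_zero _).symm))
  have h1 : ∀ i, f i ^ r i ≠ 0 := fun i hi => h0 (Finset.prod_eq_zero (Finset.mem_univ i) hi)
  have h2 : Ring.ord S (algebraMap R S ϖ) = ∑ i, Ring.ord S (f i ^ r i) := by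
    rw [← ord_prod Finset.univ (fun i => f i ^ r i) (fun i _ => h1 i), Ring.ord_eq_of_associated
      (Ideal.span_singleton_eq_span_singleton.mp h)]
  have h3 : ∀ i, Ring.ord S (f i ^ r i) = r i • Ring.ord S (f i) := by
    intro i
    by_cases hr : r i = 0
    · rw [hr, pow_zero, zero_smul, Ring.ord_one]
    · refine Ring.ord_pow (mem_nonZeroDivisors_of_ne_zero fun h4 => h1 i ?_) _
      rw [h4, zero_pow hr]
  rw [K381.FinLen.ord_eq_finrank R hk S hinj ϖ hϖ] at h2
  have h4 : ∀ i, Ring.ord S (f i ^ r i) ≠ ⊤ := by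
    intro i hi
    have h5 : Ring.ord S (f i ^ r i) ≤ ∑ i, Ring.ord S (f i ^ r i) :=
      Finset.single_le_sum (f := fun i => Ring.ord S (f i ^ r i)) (fun _ _ => zero_le) (Finset.mem_univ i)
    rw [← h2, hi, top_le_iff] at h5
    exact ENat.natCast_ne_top _ h5
  refine ⟨fun i => max 1 (Ring.ord S (f i)).toNat, fun i => le_max_left _ _, ?_⟩
  have h5 : ∀ i, Ring.ord S (f i ^ r i) = ((max 1 (Ring.ord S (f i)).toNat * r i : ℕ) : ℕ∞) := by
    intro i
    by_cases hr : r i = 0
    · rw [hr, pow_zero, Ring.ord_one, mul_zero, Nat.cast_zero]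
    · have h6 : Ring.ord S (f i) ≠ ⊤ := by
        intro h7
        apply h4 i
        rw [h3, h7, nsmul_eq_mul]
        exact ENat.mul_top (by exact_mod_cast hr)
      obtain ⟨m, hm⟩ := ENat.ne_top_iff_exists.mp h6
      have h7 := one_le_ord (hf i)
      rw [h3, ← hm, ENat.toNat_natCast, nsmul_eq_mul]
      rw [← hm] at h7
      have h8 : 1 ≤ m := by exact_mod_cast h7
      rw [max_eq_right h8, mul_comm, Nat.cast_mul]
  rw [Finset.sum_congr rfl fun i _ => h5 i] at h2
  exact_mod_cast h2

end K381.OrdSum
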