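import Groth.Agent.Models.K381.StHom
import Groth.Agent.Models.K381.OrdSum
import Mathlib.AlgebraicGeometry.ZariskisMainTheorem
import Mathlib.AlgebraicGeometry.FunctionField

/-!
# Integral schemes proper over a discrete valuation ring with two points
-/

set_option autoImplicit false
universe u

open AlgebraicGeometry CategoryTheory CategoryTheory.Limits IsLocalRing TopologicalSpace

namespace K381.ClosPt

open K381.StHom

variable {R : Type u} [CommRing R] [IsDomain R] [IsDiscreteValuationRing R]

theorem eq_bot_of_ne (y : PrimeSpectrum R) (hy : y ≠ closedPoint R) : y.asIdeal = ⊥ := by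
  by_contra h
  apply hy
  apply PrimeSpectrum.ext
  have h1 : y.asIdeal.IsMaximal := IsPrime.to_maximal_ideal h
  exact eq_maximalIdeal h1

section

variable {D : Scheme.{u}} [IsIntegral D] (f : D ⟶ Spec (CommRingCat.of R)) [IsProper f] (d₀ : D)
  (h₀ : f d₀ = closedPoint R) (hη : f (genericPoint D) ≠ closedPoint R)
  (hall : ∀ d : D, d = genericPoint D ∨ d = d₀)

include h₀ hη hall

theorem isFinite : IsFinite f := by
  have h1 : Function.Injective f := by
    intro a b hab
    rcases hall a with rfl | rfl <;> rcases hall b with rfl | rfl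
    · rfl
    · exact absurd (hab.trans h₀) hη
    · exact absurd (hab.symm.trans h₀) hη
    · rfl
  have h2 : LocallyQuasiFinite f := .of_injective h1
  exact IsFinite.of_isProper_of_locallyQuasiFinite f

omit [IsProper f] h₀ hη in
theorem eq_top (U : D.Opens) (hU : d₀ ∈ U) : U = ⊤ := by
  ext d
  simp only [Opens.coe_top, Set.mem_univ, iff_true]
  rcases hall d with rfl | rfl
  · exact (genericPoint_specializes d₀).mem_open U.2 hU
  · exact hU

omit [IsProper f] h₀ hη in
theorem germ_bijective : Function.Bijective (D.presheaf.germ ⊤ d₀ trivial) := by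
  constructor
  · exact germ_injective_of_isIntegral D (U := ⊤) d₀ trivial
  · intro t
    obtain ⟨U, hU, s, rfl⟩ := D.presheaf.exists_germ_eq t
    obtain rfl := eq_top d₀ hall U hU
    exact ⟨s, rfl⟩

theorem finite_st : (st f d₀).Finite := by
  have := isFinite f d₀ h₀ hη hall
  have h1 : (f.appTop).hom.Finite := f.finite_appTop
  have h2 : ((Scheme.ΓSpecIso (CommRingCat.of R)).inv.hom).Finite :=
    RingHom.Finite.of_surjective _ (ConcreteCategory.bijective_of_isIso _).2
  have h3 : (D.presheaf.germ ⊤ d₀ trivial).hom.Finite :=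
    RingHom.Finite.of_surjective _ (germ_bijective d₀ hall).2
  exact h3.comp (h1.comp h2)

omit [IsIntegral D] [IsProper f] hη hall in
theorem isLocalHom_st : IsLocalHom (st f d₀) := by
  refine ⟨fun a ha => ?_⟩
  by_contra h
  have h1 : a ∈ (f d₀).asIdeal := by
    rw [h₀]
    exact (mem_maximalIdeal a).mpr h
  rw [← mem_maximalIdeal_iff] at h1
  exact h1 ha

omit [IsProper f] h₀ hall in
theorem injective_st : Function.Injective (st f d₀) := by
  rw [injective_iff_map_eq_zero]
  intro a ha
  have h1 : st f (genericPoint D) a = 0 := by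
    rw [← stalkSpecializes_st f d₀ (genericPoint_specializes d₀), RingHom.comp_apply, ha, map_zero]
  have h2 : st f (genericPoint D) a ∈ maximalIdeal _ := by rw [h1]; exact zero_mem _
  rw [mem_maximalIdeal_iff, eq_bot_of_ne _ hη] at h2
  exact h2

end

/-- The degree formula. -/
theorem finrank_eq (hk : IsAlgClosed (ResidueField R)) {D : Scheme.{u}} [IsIntegral D]
    (f : D ⟶ Spec (CommRingCat.of R)) [IsProper f] (d₀ : D)
    (h₀ : f d₀ = closedPoint R) (hη : f (genericPoint D) ≠ closedPoint R)
    (hall : ∀ d : D, d = genericPoint D ∨ d = d₀) (ϖ : R)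
    (hϖ : Irreducible ϖ) {n : ℕ} (r : Fin n → ℕ) (g : Fin n → D.presheaf.stalk d₀)
    (hg : ∀ i, g i ∈ maximalIdeal (D.presheaf.stalk d₀))
    (h : Ideal.span {st f d₀ ϖ} = Ideal.span {∏ i, g i ^ r i})
    (L : Type u) [Field L] [Algebra (FractionRing R) L]
    (e : D.presheaf.stalk (genericPoint D) ≃+* L)
    (he : ∀ a : R, e (st f (genericPoint D) a) = algebraMap (FractionRing R) L (algebraMap R (FractionRing R) a)) :
    ∃ c : Fin n → ℕ, (∀ i, 1 ≤ c i) ∧ Module.finrank (FractionRing R) L = ∑ i, c i * r i := by
  let := (st f d₀).toAlgebra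
  have hfin : Module.Finite R (D.presheaf.stalk d₀) := finite_st f d₀ h₀ hη hall
  have hloc : IsLocalHom (algebraMap R (D.presheaf.stalk d₀)) := isLocalHom_st f d₀ h₀
  obtain ⟨c, hc, hc'⟩ := K381.OrdSum.exists_coeff R hk (D.presheaf.stalk d₀) (injective_st f d₀ hη) ϖ hϖ r g hg h
  refine ⟨c, hc, ?_⟩
  rw [← hc']
  let : Algebra (D.presheaf.stalk d₀) L :=
    (e.toRingHom.comp (algebraMap (D.presheaf.stalk d₀) D.functionField)).toAlgebra
  let : Algebra R L := ((algebraMap (FractionRing R) L).comp (algebraMap R (FractionRing R))).toAlgebra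
  have t1 : IsScalarTower R (FractionRing R) L := IsScalarTower.of_algebraMap_eq fun _ => rfl
  have t2 : IsScalarTower R (D.presheaf.stalk d₀) L := IsScalarTower.of_algebraMap_eq fun a => by
    change algebraMap (FractionRing R) L (algebraMap R (FractionRing R) a) = e (algebraMap (D.presheaf.stalk d₀) D.functionField
      (st f d₀ a))
    rw [← he, ← stalkSpecializes_st f d₀ (genericPoint_specializes d₀)]
    rfl
  have t3 : IsFractionRing (D.presheaf.stalk d₀) L := by
    let e' : D.functionField ≃ₐ[D.presheaf.stalk d₀] L := { e with commutes' := fun a => rfl }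
    exact IsLocalization.isLocalization_of_algEquiv _ e'
  exact IsFractionRing.finrank_eq R (FractionRing R) (D.presheaf.stalk d₀) L

end K381.ClosPt
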