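import Groth.Agent.Models.K381.Pinch
import Groth.Agent.Resolve.K377.NormSch
import Groth.Agent.Fga.DimCut
import Groth.Agent.Curves.K577.DimComp
import Groth.Agent.Sga2lef.H338.StalkDepth
import Groth.Agent.S9683
import Groth.Agent.S2511
import Groth.Agent.S15948
import Groth.Agent.Ega1.ReducedSub

/-!
# Seminormal curves: normalization, singular locus, pushout square
-/

set_option autoImplicit false
universe u

open AlgebraicGeometry CategoryTheory CategoryTheory.Limits IsLocalRing TopologicalSpace

namespace K381.SnData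

/-- A proper scheme with a finite underlying set is finite. -/
theorem isFinite_of_finite {S X : Scheme.{u}} (f : X ⟶ S) [IsProper f] [Finite X] : IsFinite f := by
  have : LocallyQuasiFinite f := LocallyQuasiFinite.of_finite_preimage_singleton f (fun x => Set.toFinite _)
  exact IsFinite.of_isProper_of_locallyQuasiFinite f

/-- The pullback to a reduced discrete closed subscheme is reduced if the fibres are. -/
theorem isReduced_of_fibres {X Y D : Scheme.{u}} (ν : X ⟶ Y) (d : D ⟶ Y) [IsClosedImmersion d] [IsReduced D]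
    [IsArtinianScheme D] (h : ∀ y : Y, IsReduced (ν.fiber y)) : IsReduced (pullback ν d) := by
  have hflat : Flat (pullback.snd ν d) := Flat.of_stalkMap _ fun y => by
    have := K381.ZMod.isField_stalk (pullback.snd ν d y)
    let _ := this.toField
    let φ := ((pullback.snd ν d).stalkMap y).hom
    let _ := φ.toAlgebra
    change Module.Flat (D.presheaf.stalk (pullback.snd ν d y)) _
    infer_instance
  have : Finite (irreducibleComponents D) := inferInstance
  exact Groth.Agent.S2511.isReduced_of_flat_of_finite_irreducibleComponents (pullback.snd ν d)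
    (fun z => Groth.Agent.S2511.isReduced_fiber_pullback_snd ν d h z)

theorem isExc_spec_field (κ : Type u) [Field κ] : K381.ExcSch.IsExc (Spec (CommRingCat.of κ)) := fun _ =>
  ⟨⟨⊤, isAffineOpen_top _⟩, trivial, Groth.Agent.Sga2lef.H338.StalkDepth.isExcellent_of_ringEquiv
    (Scheme.ΓSpecIso (CommRingCat.of κ)).symm.commRingCatIsoToRingEquiv
    (Groth.Agent.Sga2lef.H338.StalkDepth.isExcellent_field κ)⟩

theorem exists_data {κ : Type u} [Field κ] {C : Scheme.{u}} (g : C ⟶ Spec (CommRingCat.of κ)) [IsProper g]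
    [IsReduced C] (hdimC : ∀ W ∈ irreducibleComponents (C : Type u), topologicalKrullDim W = 1)
    (hsn : HTop.IsSeminormal C) :
    ∃ (Cn D : Scheme.{u}) (ν : Cn ⟶ C) (d : D ⟶ C), IsFinite ν ∧ Surjective ν ∧
      (∀ x : Cn, IsRegularLocalRing (Cn.presheaf.stalk x)) ∧ topologicalKrullDim Cn ≤ 1 ∧
      IsClosedImmersion d ∧ IsReduced D ∧ (∀ x : C, x ∉ Set.range d ↔ IsRegularLocalRing (C.presheaf.stalk x)) ∧
      (∀ U : C.Opens, (∀ x ∈ U, x ∉ Set.range d) → IsIso (ν ∣_ U)) ∧
      IsPushout (pullback.fst ν d) (pullback.snd ν d) ν d ∧ IsReduced (pullback ν d) ∧ IsFinite (d ≫ g) ∧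
      Dense (ν ⁻¹' (Set.range d)ᶜ) := by
  have hCN : IsLocallyNoetherian C := LocallyOfFiniteType.isLocallyNoetherian g
  have hCc : CompactSpace C := QuasiCompact.compactSpace_of_compactSpace g
  have hCn : IsNoetherian C := {}
  have hCs : C.IsSeparated := by
    rw [Scheme.isSeparated_iff, ← terminal.comp_from g]
    infer_instance
  have hdim1 : topologicalKrullDim C ≤ 1 :=
    K577.DimComp.topologicalKrullDim_le 1 fun W hW => (hdimC W hW).le
  have hexc : K381.ExcSch.IsExc C := (isExc_spec_field κ).of_locallyOfFiniteType g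
  obtain ⟨Cn, ν, h1, h2, h3, U, h4, h5, h6⟩ := K377.NormSch.exists_norm (X := C) (fun U => hexc.isNag U)
    hexc.isOpen_regular
  let R : C.Opens := ⟨_, hexc.isOpen_regular⟩
  let Dc : Closeds C := ⟨(R : Set C)ᶜ, R.isOpen.isClosed_compl⟩
  let I := Scheme.IdealSheafData.vanishingIdeal Dc
  have hred : IsReduced I.subscheme := Groth.Agent.Ega1.ReducedSub.isReduced_subscheme_vanishingIdeal Dc
  have hrange : Set.range I.subschemeι = (R : Set C)ᶜ := by
    rw [Scheme.IdealSheafData.range_subschemeι, Scheme.IdealSheafData.coe_support_vanishingIdeal]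
    rfl
  have hmem : ∀ x : C, x ∉ Set.range I.subschemeι ↔ IsRegularLocalRing (C.presheaf.stalk x) := fun x => by
    rw [hrange, Set.notMem_compl_iff]
    rfl
  have hsurj : Surjective ν := by
    refine ⟨fun y => ?_⟩
    have h7 : (U : Set C) ⊆ Set.range ν := by
      intro y hy
      have h8 := h3 U h4
      obtain ⟨z, hz⟩ := (inferInstance : Surjective (ν ∣_ U)).surj ⟨y, hy⟩
      refine ⟨(ν ⁻¹ᵁ U).ι z, ?_⟩
      rw [← Scheme.Hom.comp_apply, ← morphismRestrict_ι, Scheme.Hom.comp_apply, hz]
      rfl
    have h8 : IsClosed (Set.range ν) := ν.isClosedMap.isClosed_range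
    have h9 : Set.range ν = Set.univ := by
      rw [← Set.univ_subset_iff, ← h5.closure_eq]
      exact closure_minimal h7 h8
    exact Set.range_eq_univ.mp h9 y
  have hCnN : IsLocallyNoetherian Cn := LocallyOfFiniteType.isLocallyNoetherian ν
  have hdimn : topologicalKrullDim Cn ≤ 1 := (Groth.Agent.S9683.result ν).1.trans hdim1
  have hfin : Finite I.subscheme := by
    have h7 : topologicalKrullDim ((R : Set C)ᶜ : Set C) ≤ (0 : ℕ) := by
      refine Groth.Agent.Fga.DimCut.dim_le_of_forall_not_subset _ R.isOpen.isClosed_compl (fun W hW hsub => ?_) 0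
        (by simpa using hdim1)
      obtain ⟨ζ, hζ⟩ := QuasiSober.sober hW.1 (isClosed_of_mem_irreducibleComponents W hW)
      have h8 : IsField (C.presheaf.stalk ζ) := isField_stalk_of_closure_mem_irreducibleComponents C ζ (by
        rw [hζ.def]; exact hW)
      refine hsub hζ.mem ?_
      let _ := h8.toField
      change IsRegularLocalRing (C.presheaf.stalk ζ)
      infer_instance
    have h8 := (K284.TopDim.finite_discrete_of_dim_le_zero h7).1
    have h9 : (Set.range I.subschemeι).Finite := by rw [hrange]; exact Set.toFinite _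
    have := h9.to_subtype
    exact Finite.of_injective_finite_range I.subschemeι.isEmbedding.injective
  have hDf : IsFinite (I.subschemeι ≫ g) := isFinite_of_finite _
  have hDA : IsArtinianScheme I.subscheme := by
    have : IsArtinianRing (CommRingCat.of κ) := inferInstanceAs (IsArtinianRing κ)
    exact K381.ZMod.isLocallyArtinian_of_isFinite (K := CommRingCat.of κ) (I.subschemeι ≫ g)
  obtain ⟨h10, h11⟩ := Groth.Agent.S15948.result g hdimC hsn ν h2 ⟨U, h5, h6, h3 U h4⟩ I.subschemeι (by
    rw [← compl_inj_iff]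
    ext x
    rw [Set.mem_compl_iff]
    rw [hmem x]
    simp)
  refine ⟨Cn, I.subscheme, ν, I.subschemeι, h1, hsurj, fun x => ?_, hdimn, inferInstance, hred, hmem, fun U' hU' =>
    h3 U' fun x hx => (hmem x).mp (hU' x hx), h10, isReduced_of_fibres ν _ h11, hDf,
    h6.mono fun x hx => (hmem _).mpr (h4 _ hx)⟩
  obtain ⟨h12, h13⟩ := h2 x
  exact K377.BlowCodim2.isRegular_of_normal _ ((K381.DedFlat.ringKrullDim_stalk_le Cn x).trans hdimn)

end K381.SnData
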