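import Groth.Agent.Models.K381.Conn
import Groth.Agent.Models.K381.SnData
import Mathlib.AlgebraicGeometry.Geometrically.Reduced

/-!
# Models of seminormal curves cohomologically flat in dimension zero
-/

set_option autoImplicit false
universe u

open AlgebraicGeometry CategoryTheory CategoryTheory.Limits TopologicalSpace Opposite IsLocalRing
open K838.Ferr K381.AFin K381.ZMod

namespace K381.CohFlat

theorem isReduced_of_geometricallyReduced {κ : Type u} [Field κ] {C : Scheme.{u}} (g : C ⟶ Spec (CommRingCat.of κ))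
    [LocallyOfFiniteType g] [GeometricallyReduced g] : IsReduced C :=
  GeometricallyReduced.isReduced_of_flat_of_isLocallyNoetherian g

/-- **Models with universally trivial direct image of the structure sheaf** of seminormal curves. -/
theorem exists_model {S : Scheme.{u}} [IsIntegral S] [IsNoetherian S] [S.IsSeparated]
    (hreg : ∀ s : S, IsRegularLocalRing (S.presheaf.stalk s)) (hdimS : topologicalKrullDim S ≤ 1)
    (hexc : K381.ExcSch.IsExc S)
    {C : Scheme.{u}} (g : C ⟶ Spec S.functionField) [IsProper g] [LocallyOfFinitePresentation g]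
    [GeometricallyReduced g] [ConnectedSpace C] (hsn : HTop.IsSeminormal C)
    (hdimC : ∀ W ∈ irreducibleComponents (C : Type u), topologicalKrullDim W = 1)
    (hpt : ∀ W ∈ irreducibleComponents (C : Type u), ∃ y ∈ W, y ∈ g.smoothLocus ∧ IsIso (g.residueFieldMap y)) :
    ∃ (M : Scheme.{u}) (f : M ⟶ S) (i : C ⟶ M), IsProper f ∧ Flat f ∧
      IsPullback i g f (S.fromSpecStalk (genericPoint S)) ∧
      ∀ (A : CommRingCat.{u}) (a : Spec A ⟶ S), IsIso (pullback.snd f a).appTop := by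
  have hCred : IsReduced C := isReduced_of_geometricallyReduced (κ := S.functionField) g
  obtain ⟨Cn, D, ν, d, hνf, hνs, hCreg, hCdim, hdc, hDred, hDrange, hνiso, hpush, hZred, hDfin, hdense⟩ :=
    K381.SnData.exists_data (κ := S.functionField) g hdimC hsn
  let O : C.Opens := ⟨(Set.range d)ᶜ, d.isClosedEmbedding.isClosed_range.isOpen_compl⟩
  have hOν : IsIso (ν ∣_ O) := hνiso O fun x hx => hx
  have hO : ∀ x, x ∈ O ↔ IsRegularLocalRing (C.presheaf.stalk x) := hDrange
  let gn : Cn ⟶ Spec S.functionField := ν ≫ g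
  have hgn : IsProper gn := inferInstanceAs (IsProper (ν ≫ g))
  let ZK := pullback ν d
  let j : ZK ⟶ Cn := pullback.fst ν d
  let π : ZK ⟶ D := pullback.snd ν d
  have hjd : j ≫ ν = π ≫ d := pullback.condition
  have hj : IsClosedImmersion j := inferInstance
  have hπs : Surjective π := inferInstance
  have hπf : IsFinite π := inferInstance
  have hjg : j ≫ gn = π ≫ (d ≫ g) := by
    change j ≫ ν ≫ g = _
    rw [reassoc_of% hjd]
  have hZfin : IsFinite (j ≫ gn) := by
    have h1 : IsFinite (π ≫ (d ≫ g)) := @MorphismProperty.comp_mem _ _ @IsFinite _ _ _ _ π (d ≫ g) hπf hDfin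
    rwa [hjg]
  have hZred' : IsReduced ZK := hZred
  have hZKfin : Finite ZK := by
    have h1 : IsArtinianRing S.functionField := inferInstance
    have h2 : IsArtinianScheme ZK := isLocallyArtinian_of_isFinite (j ≫ gn)
    infer_instance
  have hdimS' : ∀ s : S, ringKrullDim (S.presheaf.stalk s) ≤ 1 := fun s =>
    (K381.DedFlat.ringKrullDim_stalk_le S s).trans hdimS
  -- the components of the normalization
  have hCnlN : IsLocallyNoetherian Cn := LocallyOfFiniteType.isLocallyNoetherian gn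
  have hCnc : CompactSpace Cn := QuasiCompact.compactSpace_of_compactSpace gn
  have hCnN : IsNoetherian Cn := {}
  obtain ⟨J, hJ, U, hU1, hU2, hU3, hU4, hU5⟩ := K381.DisjModel.exists_decomp Cn
    (fun x => (K381.RegModel.isNormalScheme_of_regular hCreg x).1)
  have hUc : ∀ k, IsClosed (U k : Set Cn) := fun k => isClosed_of_mem_irreducibleComponents _ (hU1 k)
  have himg : ∀ k, ν '' (U k : Set Cn) ∈ irreducibleComponents (C : Type u) := fun k =>
    K381.Comps.image_mem ν O hdense (U k) (hU1 k).1 (hUc k)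
  have hUdim : ∀ k, topologicalKrullDim (U k : Scheme.{u}) = 1 := fun k => by
    have := hU3 k
    have := hU2 k
    exact K381.Comps.dim_eq ν (U k) 1 (hdimC _ (himg k))
  have hUreg : ∀ k (c : (U k : Scheme.{u})), IsRegularLocalRing ((U k : Scheme.{u}).presheaf.stalk c) := fun k c => by
    have := hCreg ((U k).ι c)
    exact IsRegularLocalRing.of_ringEquiv (asIso ((U k).ι.stalkMap c)).commRingCatIsoToRingEquiv
  let gk : ∀ k, (U k : Scheme.{u}) ⟶ Spec S.functionField := fun k => (U k).ι ≫ ν ≫ g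
  have hgk : ∀ k, IsProper (gk k) := fun k => by
    have := hU3 k
    exact inferInstanceAs (IsProper ((U k).ι ≫ ν ≫ g))
  have hsec : ∀ k, ∃ σ : Spec S.functionField ⟶ (U k : Scheme.{u}), σ ≫ gk k = 𝟙 _ := fun k => by
    obtain ⟨y, hy⟩ := K381.Comps.exists_point (κ := S.functionField) ν g O hO (U k) (hpt _ (himg k))
    obtain ⟨σ, hσ, -⟩ := K381.RatPt.exists_section (κ := S.functionField) (gk k) y hy
    exact ⟨σ, hσ⟩
  choose σ hσ using hsec
  -- the finite subscheme
  let V : J → ZK.Opens := fun k => j ⁻¹ᵁ U k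
  have hV4 : ⨆ k, V k = ⊤ := by
    have h1 : j ⁻¹ᵁ (⨆ k, U k) = ⨆ k, V k := Scheme.Hom.preimage_iSup j U
    rw [← h1, hU4]
    rfl
  have hV5 : ∀ k l, k ≠ l → Disjoint (V k) (V l) := fun k l hkl => by
    have h1 := hU5 k l hkl
    rw [disjoint_iff] at h1 ⊢
    change j ⁻¹ᵁ U k ⊓ j ⁻¹ᵁ U l = ⊥
    rw [← Scheme.Hom.preimage_inf, h1]
    rfl
  let jk : ∀ k, (V k : Scheme.{u}) ⟶ (U k : Scheme.{u}) := fun k => j ∣_ U k
  have hjk : ∀ k, IsClosedImmersion (jk k) := fun k => inferInstanceAs (IsClosedImmersion (j ∣_ U k))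
  have hjkι : ∀ k, jk k ≫ (U k).ι = (V k).ι ≫ j := fun k => morphismRestrict_ι j (U k)
  have hek : ∀ k, jk k ≫ gk k = (V k).ι ≫ j ≫ gn := fun k => by
    change jk k ≫ (U k).ι ≫ ν ≫ g = _
    rw [reassoc_of% (hjkι k)]
  have hVfin : ∀ k, Finite (V k : Scheme.{u}) := fun k => Finite.of_injective (V k).ι (V k).ι.isOpenEmbedding.injective
  have hZk : ∀ k, ∃ (Z : Scheme.{u}) (h : Z ⟶ S) (τ : (V k : Scheme.{u}) ⟶ Z), IsZ (jk k ≫ gk k) h τ := fun k => by
    have h1 : IsFinite (jk k ≫ gk k) := K381.SnData.isFinite_of_finite _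
    exact exists_Z hreg hdimS hexc (jk k ≫ gk k)
  choose Z h τ hZ using hZk
  obtain ⟨T, t, δ, hT⟩ := exists_Z hreg hdimS hexc (d ≫ g)
  -- the regular models
  have hX : ∀ k, ∃ (X : Scheme.{u}) (f : X ⟶ S) (i : (U k : Scheme.{u}) ⟶ X) (ι : Z k ⟶ X), IsProper f ∧ Flat f ∧
      IsIntegral X ∧ (∀ x : X, IsRegularLocalRing (X.presheaf.stalk x)) ∧
      IsPullback i (gk k) f (S.fromSpecStalk (genericPoint S)) ∧
      RelAF f ∧ IsClosedImmersion ι ∧ ι ≫ f = h k ∧ jk k ≫ i = τ k ≫ ι := fun k => by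
    have := hU2 k
    obtain ⟨X, f, i, ι, h1, h2, h3, h4, h5, h6, h7, h8, h9, -⟩ :=
      K381.Core.exists_core hreg hdimS hexc (hUreg k) (hUdim k).le (hZ k) ∅ isClosed_empty (fun t ht => ht.elim)
    exact ⟨X, f, i, ι, h1, h2, h3, h4, h5, h6, h7, h8, h9⟩
  choose X f i ι hf1 hf2 hf3 hf4 hf5 hf6 hι1 hι2 hι3 using hX
  -- the disjoint unions
  obtain ⟨i', hi', hi'', -⟩ := K381.ZMod.exists_disjUnion (S.fromSpecStalk (genericPoint S)) gn U hU4 hU5 X f i hf5
  obtain ⟨τ', hτ', hτ'', hextZ⟩ := K381.ZMod.exists_disjUnion (S.fromSpecStalk (genericPoint S)) (j ≫ gn) V hV4 hV5 Z h τ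
    (fun k => by rw [← hek k]; exact (hZ k).isPullback)
  let F : (∐ X) ⟶ S := Limits.Sigma.desc f
  have hF1 : IsProper F := K381.DisjModel.isProper_sigmaDesc f hf1
  have hF2 : Flat F := IsZariskiLocalAtSource.sigmaDesc (P := @Flat) hf2
  have hF3 : RelAF F := K381.SumGeom.relAF_sigmaDesc f hf6
  let H : (∐ Z) ⟶ S := Limits.Sigma.desc h
  have hH1 : IsFinite H := K381.ZMod.isFinite_sigmaDesc h fun k => (hZ k).finite
  have hH2 : Flat H := IsZariskiLocalAtSource.sigmaDesc (P := @Flat) fun k => (hZ k).flat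
  let I : (∐ Z) ⟶ ∐ X := Limits.Sigma.map ι
  have hI1 : IsClosedImmersion I :=
    Groth.Agent.Ega2.SigmaMap.sigmaMap_of_isZariskiLocalAtTarget (@IsClosedImmersion) ι hι1
  have hI2 : I ≫ F = H := by
    refine Limits.Sigma.hom_ext _ _ fun k => ?_
    simp only [I, F, H, Limits.Sigma.ι_map_assoc, Limits.Sigma.ι_desc, hι2]
  have hI3 : j ≫ i' = τ' ≫ I := by
    refine hextZ _ _ fun k => ?_
    rw [← reassoc_of% (hjkι k), hi'', reassoc_of% (hτ'' k)]
    simp only [I, Limits.Sigma.ι_map, reassoc_of% (hι3 k)]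
  -- the map `ξ`
  have hT1 := hT.finite
  have hT2 := hT.flat
  have hT3 := hT.reduced
  have hξ : ∀ k, ∃ ξ : Z k ⟶ T, ξ ≫ t = h k ∧ τ k ≫ ξ = (V k).ι ≫ π ≫ δ := fun k =>
    (hZ k).ext (h k) t ((V k).ι ≫ π ≫ δ) (by
      rw [Category.assoc, Category.assoc, hT.isPullback.w, (hZ k).isPullback.w, hek k, hjg]
      simp only [Category.assoc])
  choose ξ hξ1 hξ2 using hξ
  let Ξ : (∐ Z) ⟶ T := Limits.Sigma.desc ξ
  have hΞ1 : Ξ ≫ t = H := by
    refine Limits.Sigma.hom_ext _ _ fun k => ?_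
    simp only [Ξ, H, Limits.Sigma.ι_desc_assoc, Limits.Sigma.ι_desc, hξ1]
  have hΞ2 : τ' ≫ Ξ = π ≫ δ := by
    refine hextZ _ _ fun k => ?_
    rw [reassoc_of% (hτ'' k)]
    simp only [Ξ, Limits.Sigma.ι_desc, hξ2]
  have hΞfl : Flat Ξ := IsZariskiLocalAtSource.sigmaDesc (P := @Flat) fun k =>
    K381.SumGeom.flat_of_isZ (hZ k) hT (ξ k) (hξ1 k)
  have hΞtf : IsFinite (Ξ ≫ t) := by rw [hΞ1]; exact hH1
  have hΞtl : Flat (Ξ ≫ t) := by rw [hΞ1]; exact hH2
  have hΞf : IsFinite Ξ := IsFinite.of_comp Ξ t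
  have hΞs : Surjective Ξ := by
    have h1 : IsDominant (π ≫ δ) := by
      have := hT.dominant
      infer_instance
    have h2 : IsDominant (τ' ≫ Ξ) := by rw [hΞ2]; exact h1
    have h3 : IsDominant Ξ := IsDominant.of_comp τ' Ξ
    refine ⟨?_⟩
    have h5 : Set.range Ξ = Set.univ := by
      rw [← Ξ.isClosedMap.isClosed_range.closure_eq]
      exact Ξ.denseRange.closure_eq
    exact Set.range_eq_univ.mp h5
  obtain ⟨P, a, b, p, hP1, hP2, hP3, hap, hbp, hP4, hP5, hP6, hP7⟩ :=
    K381.Pinch.exists_pinch F hF3 I t Ξ (by rw [hI2, hΞ1])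
  obtain ⟨iC, hiC1, hiC2, hiC3⟩ := K381.Pinch.exists_genericFibre hP1 hap hbp hI2 hi' hT.isPullback hτ'
    hI3 rfl hΞ2.symm hpush rfl rfl
  refine ⟨P, p, iC, hP2, hP3, hiC1, fun A α => ?_⟩
  have hpd : IsDominant p := isDominant hiC1
  have hps : Surjective p := by
    refine ⟨?_⟩
    have h5 : Set.range p = Set.univ := by
      rw [← p.isClosedMap.isClosed_range.closure_eq]
      exact p.denseRange.closure_eq
    exact Set.range_eq_univ.mp h5
  have hplfp : LocallyOfFinitePresentation p := LocallyOfFinitePresentation.iff_locallyOfFiniteType.mpr inferInstance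
  refine K381.UnivH0.isIso_of_fibres p (fun s => ?_) α
  have hJne : Nonempty J := by
    obtain ⟨c⟩ := (inferInstance : Nonempty C)
    obtain ⟨y, -⟩ := ν.surjective c
    have h1 : y ∈ ⨆ k, U k := by rw [hU4]; trivial
    obtain ⟨k, -⟩ := Opens.mem_iSup.mp h1
    exact ⟨k⟩
  by_cases hs : s = genericPoint S
  · subst hs
    refine K381.Conn.isIso_generic hiC1 ?_
    obtain ⟨k⟩ := hJne
    exact K381.RatPt.isIso_appTop (κ := S.functionField) g (σ k ≫ (U k).ι ≫ ν) (by
      simp only [Category.assoc]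
      exact hσ k)
  -- a closed point
  have hsD : IsDiscreteValuationRing (S.presheaf.stalk s) := K381.Conn.isDVR hreg hdimS' s hs
  have hflat : Flat (I ≫ a ≫ p) := by rw [hap, hI2]; exact hH2
  have hne : Nonempty ↥(pullback p (S.fromSpecResidueField s)) := by
    obtain ⟨y, -⟩ := (pullback.snd p (S.fromSpecResidueField s)).surjective (IsLocalRing.closedPoint _)
    exact ⟨y⟩
  refine K381.FibPinch.isIso_fibre hP1 (fun k => Limits.Sigma.ι X k) (fun x => ?_) s (fun k => ?_) (fun A' c hc => ?_)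
  · exact K381.SumGeom.exists_sigma x
  · have hk2 := hU2 k
    have h1 : Limits.Sigma.ι X k ≫ a ≫ p = f k := by rw [hap]; exact Limits.Sigma.ι_desc _ _
    have key : ∀ q : X k ⟶ S, q = f k → Function.Surjective (pullback.snd q (S.fromSpecResidueField s)).appTop := by
      rintro _ rfl
      have h2 : IsIso (gk k).appTop :=
        K381.RatPt.isIso_appTop_of_isIntegral (κ := S.functionField) (gk k) (σ k) (hσ k)
      obtain ⟨σS, hσS, -⟩ := K381.PtExt.exists_ext (𝟙 S) (f k) hreg hdimS' (σ k ≫ i k) (by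
        rw [Category.assoc, (hf5 k).w, reassoc_of% (hσ k), Category.comp_id])
      have h3 := K381.LocBC.isIso_fibre s (f k) hsD (hf4 k) (hUdim k) (hf5 k) h2 σS hσS
      exact (ConcreteCategory.bijective_of_isIso _).2
    exact key _ h1
  · refine K381.Conn.const_of_connected ν ν.surjective ν.isClosedMap (fun k => (U k : Set Cn)) hUc
      (fun k => (hU1 k).1.1) ?_ c ?_
    · rw [Set.eq_univ_iff_forall]
      intro y
      have h1 : y ∈ ⨆ k, U k := by rw [hU4]; trivial
      obtain ⟨k, hk⟩ := Opens.mem_iSup.mp h1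
      exact Set.mem_iUnion.mpr ⟨k, hk⟩
    intro k l y y' hy hy' hyy'
    by_cases hyO : ν y ∈ O
    · have h1 : y = y' := K381.Comps.injective_of ν O hyO hyy'
      subst h1
      by_contra hkl
      have h2 : k ≠ l := fun h2 => hkl (by rw [h2])
      have h3 : y ∈ U k ⊓ U l := ⟨hy, hy'⟩
      rw [(hU5 k l h2).eq_bot] at h3
      exact h3
    · have h1 : ν y ∈ Set.range d := by
        by_contra h1
        exact hyO h1
      obtain ⟨x₀, hx₀⟩ := h1
      obtain ⟨w, hw, hw'⟩ := Scheme.exists_preimage_of_isPullback (IsPullback.of_hasPullback ν d) y x₀ hx₀.symm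
      obtain ⟨w₁, hw₁, hw₁'⟩ := Scheme.exists_preimage_of_isPullback (IsPullback.of_hasPullback ν d) y' x₀
        (by rw [← hyy', hx₀])
      obtain ⟨t₀, ht₀, hlift⟩ := K381.Conn.exists_spec t Ξ (δ x₀) (K381.GenFib.map_eq hT.isPullback x₀) s
      have key : ∀ (k : J) (y : Cn) (hy : y ∈ U k) (w : ZK), j w = y → π w = x₀ → ∃ z : ↥(∐ Z), p (a (I z)) = s ∧
          I z ∈ Set.range (Limits.Sigma.ι X k) ∧ Ξ z = t₀ := by
        intro k y hy w hw hw'
        obtain ⟨z, hz, hz'⟩ := hlift (τ' w) (by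
          rw [← Scheme.Hom.comp_apply, hΞ2, Scheme.Hom.comp_apply, hw'])
        refine ⟨z, ?_, ?_, hz'⟩
        · have h1 : I ≫ a ≫ p = Ξ ≫ t := by rw [hap, hI2, hΞ1]
          rw [← Scheme.Hom.comp_apply, ← Scheme.Hom.comp_apply, h1, Scheme.Hom.comp_apply, hz', ht₀]
        · obtain ⟨k', x', hx'⟩ := K381.SumGeom.exists_sigma (X := X) (I z)
          have h1 : I (τ' w) ⤳ I z := hz.map I.continuous
          have h2 : I (τ' w) ∈ (Limits.Sigma.ι X k').opensRange := h1.mem_open (Limits.Sigma.ι X k').opensRange.isOpen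
            ⟨x', hx'⟩
          have h3 : I (τ' w) ∈ (Limits.Sigma.ι X k).opensRange := by
            rw [← Scheme.Hom.comp_apply, ← hI3, Scheme.Hom.comp_apply, hw]
            refine ⟨i k ⟨y, hy⟩, ?_⟩
            rw [← Scheme.Hom.comp_apply, ← hi'']
            rfl
          have h4 : k' = k := by
            by_contra hkk
            have h5 : I (τ' w) ∈ (Limits.Sigma.ι X k').opensRange ⊓ (Limits.Sigma.ι X k).opensRange := ⟨h2, h3⟩
            rw [(disjoint_opensRange_sigmaι X k' k hkk).eq_bot] at h5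
            exact h5
          subst h4
          exact ⟨x', hx'⟩
      obtain ⟨z, hz1, hz2, hz3⟩ := key k y hy w hw hw'
      obtain ⟨z', hz1', hz2', hz3'⟩ := key l y' hy' w₁ hw₁ hw₁'
      exact hc k l z z' hz1 hz1' hz2 hz2' (hz3.trans hz3'.symm)

end K381.CohFlat
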