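import Groth.Agent.Models.K381.RatPt
import Groth.Agent.VarietyA.RegSmoothSch
import Groth.Agent.S9683
import Mathlib.AlgebraicGeometry.Morphisms.Finite

/-!
# Components of the normalization of a curve
-/

set_option autoImplicit false
universe u

open AlgebraicGeometry CategoryTheory CategoryTheory.Limits IsLocalRing TopologicalSpace

namespace K381.Comps

variable {C Cn : Scheme.{u}} (ν : Cn ⟶ C)

/-- Over the complement of `D` the map `ν` is an isomorphism. -/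
theorem specializes_of (O : C.Opens) [IsIso (ν ∣_ O)] {y y' : Cn} (h : ν y ∈ O) (h' : ν y' ∈ O) (hs : ν y ⤳ ν y') :
    y ⤳ y' := by
  have h1 : Topology.IsInducing ((ν ∣_ O) ≫ O.ι) := (((ν ∣_ O) ≫ O.ι).isOpenEmbedding).isInducing
  have h2 : (ν ⁻¹ᵁ O).ι ≫ ν = ν ∣_ O ≫ O.ι := (morphismRestrict_ι ν O).symm
  let z : (ν ⁻¹ᵁ O : Scheme.{u}) := ⟨y, h⟩
  let z' : (ν ⁻¹ᵁ O : Scheme.{u}) := ⟨y', h'⟩
  have h3 : z ⤳ z' := by
    apply h1.specializes_iff.mp
    rw [← h2]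
    exact hs
  exact h3.map (ν ⁻¹ᵁ O).ι.continuous

theorem injective_of (O : C.Opens) [IsIso (ν ∣_ O)] {y y' : Cn} (h : ν y ∈ O) (hs : ν y = ν y') :
    y = y' := by
  have h' : ν y' ∈ O := by rw [← hs]; exact h
  have h1 : y ⤳ y' := specializes_of ν O h h' (by rw [hs])
  have h2 : y' ⤳ y := specializes_of ν O h' h (by rw [hs])
  exact (h1.antisymm h2).eq

theorem isIso_residueFieldMap_of (O : C.Opens) [IsIso (ν ∣_ O)] {y : Cn} (h : ν y ∈ O) :
    IsIso (ν.residueFieldMap y) := by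
  let y' : (ν ⁻¹ᵁ O : Scheme.{u}) := ⟨y, h⟩
  have h2 : (ν ⁻¹ᵁ O).ι ≫ ν = ν ∣_ O ≫ O.ι := (morphismRestrict_ι ν O).symm
  have h3 : IsIso (((ν ⁻¹ᵁ O).ι ≫ ν).residueFieldMap y') := by
    have : IsOpenImmersion ((ν ⁻¹ᵁ O).ι ≫ ν) := by rw [h2]; infer_instance
    infer_instance
  have h4 : IsIso ((ν ⁻¹ᵁ O).ι.residueFieldMap y') := inferInstance
  have h5 : IsIso (ν.residueFieldMap ((ν ⁻¹ᵁ O).ι y') ≫ (ν ⁻¹ᵁ O).ι.residueFieldMap y') := by
    rw [← Scheme.residueFieldMap_comp]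
    exact h3
  exact @IsIso.of_isIso_comp_right _ _ _ _ _ _ _ h4 h5

/-- The image of a component of the normalization is a component. -/
theorem image_mem [IsFinite ν] [Surjective ν] (O : C.Opens) [IsIso (ν ∣_ O)] (hd : Dense (ν ⁻¹' (O : Set C)))
    (U : Cn.Opens) (hU : IsIrreducible (U : Set Cn)) (hUc : IsClosed (U : Set Cn)) :
    ν '' (U : Set Cn) ∈ irreducibleComponents (C : Type u) := by
  have h1 : IsIrreducible (ν '' (U : Set Cn)) := hU.image _ ν.continuous.continuousOn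
  have h2 : IsClosed (ν '' (U : Set Cn)) := ν.isClosedMap _ hUc
  obtain ⟨u, hu, huO⟩ := hd.inter_open_nonempty _ U.isOpen hU.1
  refine ⟨h1, fun W hW hsub => ?_⟩
  obtain ⟨w, hw⟩ := QuasiSober.sober hW.closure isClosed_closure
  have h3 : w ⤳ ν u := by
    rw [specializes_iff_mem_closure, hw.def]
    exact subset_closure (hsub ⟨u, hu, rfl⟩)
  obtain ⟨y, rfl⟩ := ν.surjective w
  have h4 : y ⤳ u := specializes_of ν O (h3.mem_open O.isOpen huO) huO h3
  have h5 : y ∈ U := h4.mem_open U.isOpen hu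
  have h6 : closure W ⊆ ν '' (U : Set Cn) := by
    rw [← hw.def]
    exact closure_minimal (Set.singleton_subset_iff.mpr ⟨y, h5, rfl⟩) h2
  exact subset_closure.trans h6

/-- The dimension of a component. -/
theorem dim_eq [IsFinite ν] (U : Cn.Opens) [IsClosedImmersion U.ι] [IsIntegral (U : Scheme.{u})] (n : WithBot ℕ∞)
    (h : topologicalKrullDim (ν '' (U : Set Cn) : Set C) = n) : topologicalKrullDim (U : Scheme.{u}) = n := by
  have h1 : IsFinite (U.ι ≫ ν) := @MorphismProperty.comp_mem _ _ @IsFinite _ _ _ _ U.ι ν inferInstance inferInstance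
  have h2 : IsFinite ((U.ι ≫ ν).toImage ≫ (U.ι ≫ ν).imageι) := by
    rw [Scheme.Hom.toImage_imageι]
    exact h1
  have h3 : IsFinite (U.ι ≫ ν).toImage := IsFinite.of_comp _ (U.ι ≫ ν).imageι
  have h4 : IsDominant (U.ι ≫ ν).toImage := inferInstance
  have h5 : Surjective (U.ι ≫ ν).toImage := by
    refine ⟨?_⟩
    rw [← Set.range_eq_univ, ← (U.ι ≫ ν).toImage.isClosedMap.isClosed_range.closure_eq]
    exact (U.ι ≫ ν).toImage.denseRange.closure_eq
  rw [(Groth.Agent.S9683.result (U.ι ≫ ν).toImage).2 h5]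
  have h6 : Set.range (U.ι ≫ ν).imageι = ν '' (U : Set Cn) := by
    ext x
    constructor
    · rintro ⟨y, rfl⟩
      obtain ⟨z, rfl⟩ := (U.ι ≫ ν).toImage.surjective y
      refine ⟨U.ι z, z.2, ?_⟩
      rw [← Scheme.Hom.comp_apply, ← Scheme.Hom.comp_apply, Scheme.Hom.toImage_imageι]
    · rintro ⟨y, hy, rfl⟩
      let z : (U : Scheme.{u}) := ⟨y, hy⟩
      refine ⟨(U.ι ≫ ν).toImage z, ?_⟩
      rw [← Scheme.Hom.comp_apply, Scheme.Hom.toImage_imageι]
      rfl
  rw [← h, ← h6]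
  exact ((U.ι ≫ ν).imageι.isEmbedding.toHomeomorph).isHomeomorph.topologicalKrullDim_eq

section

variable {κ : Type u} [Field κ] (g : C ⟶ Spec (CommRingCat.of κ))

/-- A component of the normalization has a rational point. -/
theorem exists_point [LocallyOfFinitePresentation g] (O : C.Opens) [IsIso (ν ∣_ O)]
    (hO : ∀ x, x ∈ O ↔ IsRegularLocalRing (C.presheaf.stalk x)) (U : Cn.Opens)
    (h : ∃ y ∈ ν '' (U : Set Cn), y ∈ g.smoothLocus ∧ IsIso (g.residueFieldMap y)) :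
    ∃ y : (U : Scheme.{u}), IsIso ((U.ι ≫ ν ≫ g).residueFieldMap y) := by
  obtain ⟨_, ⟨y, hy, rfl⟩, h1, h2⟩ := h
  refine ⟨⟨y, hy⟩, ?_⟩
  have h3 : ν y ∈ O := (hO _).mpr
    (Groth.Agent.VarietyA.RegSmoothSch.isRegularLocalRing_stalk_of_mem_smoothLocus g _ h1)
  have h4 := isIso_residueFieldMap_of ν O h3
  let z : (U : Scheme.{u}) := ⟨y, hy⟩
  change IsIso ((U.ι ≫ ν ≫ g).residueFieldMap z)
  rw [Scheme.residueFieldMap_comp]
  have h6 : IsIso ((ν ≫ g).residueFieldMap y) := by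
    rw [Scheme.residueFieldMap_comp]
    exact IsIso.comp_isIso' h2 h4
  have h7 : IsIso (U.ι.residueFieldMap z) := inferInstance
  exact IsIso.comp_isIso' h6 h7

end

end K381.Comps
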