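import Groth.Agent.Models.K381.FibGlue
import Groth.Agent.Pinch.K838.FerrBC
import Groth.Agent.Pinch.K838.Coker

/-!
# Global functions on the fibres of a pinching
-/

set_option autoImplicit false
universe u

open AlgebraicGeometry CategoryTheory CategoryTheory.Limits TopologicalSpace Opposite
open K838.Ferr

namespace K381.FibPinch

variable {S P X T Z : Scheme.{u}} {ι : Z ⟶ X} {ξ : Z ⟶ T} {a : X ⟶ P} {b : T ⟶ P} {p : P ⟶ S}

theorem isIso_fibre (hF : IsFerr ι ξ a b) [Flat (ι ≫ a ≫ p)] [Flat ξ] [Surjective ξ] {J : Type u} [Nonempty J]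
    {X_ : J → Scheme.{u}} (m : ∀ k, X_ k ⟶ X) [∀ k, IsOpenImmersion (m k)] (hm : ∀ x : X, ∃ k x', m k x' = x) (s : S)
    (hX : ∀ k, Function.Surjective (pullback.snd (m k ≫ a ≫ p) (S.fromSpecResidueField s)).appTop)
    [Nonempty ↥(pullback p (S.fromSpecResidueField s))]
    (hconn : ∀ (A : Type u) (c : J → A), (∀ k l (z z' : Z), p (a (ι z)) = s → p (a (ι z')) = s →
      ι z ∈ Set.range (m k) → ι z' ∈ Set.range (m l) → ξ z = ξ z' → c k = c l) → ∀ k l, c k = c l) :
    IsIso (pullback.snd p (S.fromSpecResidueField s)).appTop := by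
  let γ := S.fromSpecResidueField s
  have haff := hF.affine_left
  have haff' := hF.affine_right
  have hcl := hF.closed
  -- the base changes
  have hW : IsPullback (pullback.fst p γ) (pullback.snd p γ) p γ := IsPullback.of_hasPullback p γ
  let a' : pullback (a ≫ p) γ ⟶ pullback p γ := pullback.lift (pullback.fst _ _ ≫ a) (pullback.snd _ _)
    (by rw [Category.assoc, pullback.condition])
  let b' : pullback (b ≫ p) γ ⟶ pullback p γ := pullback.lift (pullback.fst _ _ ≫ b) (pullback.snd _ _)
    (by rw [Category.assoc, pullback.condition])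
  let ι' : pullback (ι ≫ a ≫ p) γ ⟶ pullback (a ≫ p) γ := pullback.lift (pullback.fst _ _ ≫ ι) (pullback.snd _ _)
    (by rw [Category.assoc, pullback.condition])
  let ξ' : pullback (ι ≫ a ≫ p) γ ⟶ pullback (b ≫ p) γ := pullback.lift (pullback.fst _ _ ≫ ξ) (pullback.snd _ _)
    (by rw [Category.assoc, ← reassoc_of% hF.w, pullback.condition])
  have hX' : IsPullback (pullback.fst (a ≫ p) γ) a' a (pullback.fst p γ) := by
    refine IsPullback.of_bot ?_ (pullback.lift_fst _ _ _).symm hW
    rw [pullback.lift_snd]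
    exact IsPullback.of_hasPullback _ _
  have hY' : IsPullback (pullback.fst (b ≫ p) γ) b' b (pullback.fst p γ) := by
    refine IsPullback.of_bot ?_ (pullback.lift_fst _ _ _).symm hW
    rw [pullback.lift_snd]
    exact IsPullback.of_hasPullback _ _
  have hZ' : IsPullback (pullback.fst (ι ≫ a ≫ p) γ) ι' ι (pullback.fst (a ≫ p) γ) := by
    refine IsPullback.of_bot ?_ (pullback.lift_fst _ _ _).symm (IsPullback.of_hasPullback (a ≫ p) γ)
    rw [pullback.lift_snd]
    exact IsPullback.of_hasPullback _ _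
  have hξ' : IsPullback (pullback.fst (ι ≫ a ≫ p) γ) ξ' ξ (pullback.fst (b ≫ p) γ) := by
    refine IsPullback.of_bot ?_ (pullback.lift_fst _ _ _).symm (IsPullback.of_hasPullback (b ≫ p) γ)
    rw [pullback.lift_snd, ← reassoc_of% hF.w]
    exact IsPullback.of_hasPullback _ _
  have hw : ι' ≫ a' = ξ' ≫ b' := by
    apply pullback.hom_ext
    · rw [Category.assoc, Category.assoc, pullback.lift_fst, pullback.lift_fst, pullback.lift_fst_assoc,
        pullback.lift_fst_assoc, Category.assoc, Category.assoc, hF.w]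
    · rw [Category.assoc, Category.assoc, pullback.lift_snd, pullback.lift_snd, pullback.lift_snd, pullback.lift_snd]
  have hpush : IsPushout ι' ξ' a' b' :=
    K838.FerrBC.isPushout_baseChange_of_flat hF hW hX' hY' hZ' (pullback.lift_fst _ _ _) hw
  have : IsAffineHom a' := MorphismProperty.of_isPullback (P := @IsAffineHom) hX' inferInstance
  have : IsAffineHom b' := MorphismProperty.of_isPullback (P := @IsAffineHom) hY' inferInstance
  have : IsClosedImmersion ι' := MorphismProperty.of_isPullback (P := @IsClosedImmersion) hZ' inferInstance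
  have hF' : IsFerr ι' ξ' a' b' := isFerr_of_isPushout hpush
  have hfl : Flat ξ' := MorphismProperty.of_isPullback (P := @Flat) hξ' inferInstance
  have hsj : Surjective ξ' := MorphismProperty.of_isPullback (P := @Surjective) hξ' inferInstance
  -- the components
  let m' : ∀ k, pullback (m k ≫ a ≫ p) γ ⟶ pullback (a ≫ p) γ := fun k =>
    pullback.lift (pullback.fst _ _ ≫ m k) (pullback.snd _ _) (by rw [Category.assoc, pullback.condition])
  have hm' : ∀ k, IsPullback (pullback.fst (m k ≫ a ≫ p) γ) (m' k) (m k) (pullback.fst (a ≫ p) γ) := fun k => by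
    refine IsPullback.of_bot ?_ (pullback.lift_fst _ _ _).symm (IsPullback.of_hasPullback (a ≫ p) γ)
    rw [pullback.lift_snd]
    exact IsPullback.of_hasPullback _ _
  have hmo : ∀ k, IsOpenImmersion (m' k) := fun k =>
    MorphismProperty.of_isPullback (P := @IsOpenImmersion) (hm' k) inferInstance
  have hrange : ∀ k (x : ↥(pullback (a ≫ p) γ)), pullback.fst (a ≫ p) γ x ∈ Set.range (m k) → x ∈ Set.range (m' k) := by
    rintro k x ⟨y, hy⟩
    obtain ⟨z, -, hz⟩ := Scheme.exists_preimage_of_isPullback (hm' k) y x hy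
    exact ⟨z, hz⟩
  refine K381.FibGlue.isIso_appTop' hF' (pullback.snd p γ) ?_ m' (fun x => ?_) (fun k => ?_) ?_ (fun c hc => ?_)
  · exact Field.toIsField _
  · obtain ⟨k, x', hx'⟩ := hm (pullback.fst (a ≫ p) γ x)
    obtain ⟨z, hz⟩ := hrange k x ⟨x', hx'⟩
    exact ⟨k, z, hz⟩
  · have h1 : m' k ≫ a' ≫ pullback.snd p γ = pullback.snd (m k ≫ a ≫ p) γ := by
      rw [pullback.lift_snd, pullback.lift_snd]
    rw [h1]
    exact hX k
  · exact K838.Coker.app_injective ξ' ⊤
  · refine hconn _ c fun k l z z' hz hz' hk hl hzz' => ?_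
    let pt : Spec (S.residueField s) := IsLocalRing.closedPoint _
    have hpt : γ pt = s := S.fromSpecResidueField_apply s pt
    have hlift : ∀ z : Z, p (a (ι z)) = s → ∃ w, pullback.fst (ι ≫ a ≫ p) γ w = z := by
      intro z hz
      obtain ⟨w, hw, -⟩ := Scheme.exists_preimage_of_isPullback (IsPullback.of_hasPullback (ι ≫ a ≫ p) γ) z pt
        (by rw [hpt]; exact hz)
      exact ⟨w, hw⟩
    obtain ⟨w, rfl⟩ := hlift z hz
    obtain ⟨w', rfl⟩ := hlift z' hz'
    have hιw : ∀ w, pullback.fst (a ≫ p) γ (ι' w) = ι (pullback.fst (ι ≫ a ≫ p) γ w) := by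
      intro w
      rw [← Scheme.Hom.comp_apply, pullback.lift_fst]
      rfl
    have hξw : ∀ w, pullback.fst (b ≫ p) γ (ξ' w) = ξ (pullback.fst (ι ≫ a ≫ p) γ w) := by
      intro w
      rw [← Scheme.Hom.comp_apply, pullback.lift_fst]
      rfl
    refine hc k l w w' (hrange k _ (by rw [hιw]; exact hk)) (hrange l _ (by rw [hιw]; exact hl)) ?_
    apply (pullback.fst (b ≫ p) γ).isEmbedding.injective
    rw [hξw, hξw]
    exact hzz'

end K381.FibPinch
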