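import Groth.Prelude.Def_ModelsG

/-!
# Components of the closed fibre and their generic points (light version)
-/

set_option autoImplicit false
universe u

open AlgebraicGeometry CategoryTheory CategoryTheory.Limits IsLocalRing TopologicalSpace

namespace K381.FibComp

variable {R : Type u} [CommRing R] [IsDomain R] [IsDiscreteValuationRing R]
variable {X : Over (Spec (CommRingCat.of R))}

/-- `ξ` is a generic point of the closed fibre. -/
def IsGen (X : Over (Spec (CommRingCat.of R))) (ξ : X.left) : Prop :=
  X.hom ξ = closedPoint R ∧ ∀ z, z ⤳ ξ → X.hom z = closedPoint R → z = ξ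

/-- The components of the closed fibre are the closures of its generic points. -/
theorem mem_fibreComponents_iff (Z : Set X.left) :
    Z ∈ Models.fibreComponents R X ↔ ∃ ξ : X.left, IsGen X ξ ∧ Z = closure {ξ} := by
  constructor
  · rintro ⟨⟨hZi, hZ⟩, hmax⟩
    have hcl : closure Z ⊆ Models.specialFibreSet R X :=
      closure_minimal hZ (Models.isClosed_specialFibreSet R X)
    have h1 : closure Z ⊆ Z := hmax ⟨hZi.closure, hcl⟩ subset_closure
    have hZc : IsClosed Z := isClosed_of_closure_subset h1
    obtain ⟨ξ, hξ⟩ := QuasiSober.sober hZi hZc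
    have hξ' : closure {ξ} = Z := hξ
    have hξZ : ξ ∈ Z := hξ.mem
    refine ⟨ξ, ⟨hZ hξZ, ?_⟩, hξ'.symm⟩
    intro y hy hpy
    have h2 : closure {y} ⊆ Models.specialFibreSet R X := by
      refine closure_minimal ?_ (Models.isClosed_specialFibreSet R X)
      rintro _ rfl
      exact hpy
    have h3 : Z ⊆ closure {y} := by
      rw [← hξ']
      exact closure_minimal (by rintro _ rfl; exact hy.mem_closure) isClosed_closure
    have h4 : closure {y} ⊆ Z := hmax ⟨isIrreducible_singleton.closure, h2⟩ h3
    have h5 : ξ ⤳ y := by
      rw [specializes_iff_mem_closure, hξ']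
      exact h4 (subset_closure rfl)
    exact (hy.antisymm h5).eq
  · rintro ⟨ξ, ⟨hξ, hmin⟩, rfl⟩
    have hcl : closure {ξ} ⊆ Models.specialFibreSet R X :=
      closure_minimal (by rintro _ rfl; exact hξ) (Models.isClosed_specialFibreSet R X)
    refine ⟨⟨isIrreducible_singleton.closure, hcl⟩, ?_⟩
    rintro S ⟨hSi, hS⟩ hle
    obtain ⟨η, hη⟩ := QuasiSober.sober hSi.closure isClosed_closure
    have hη' : closure {η} = closure S := hη
    have h1 : η ⤳ ξ := by
      rw [specializes_iff_mem_closure, hη']
      exact subset_closure (hle (subset_closure rfl))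
    have h2 : X.hom η = closedPoint R := by
      have : closure S ⊆ Models.specialFibreSet R X :=
        closure_minimal hS (Models.isClosed_specialFibreSet R X)
      exact this hη.mem
    have h3 := hmin η h1 h2
    subst h3
    rw [hη']
    exact subset_closure

theorem closure_mem_iff (ξ : X.left) :
    closure {ξ} ∈ Models.fibreComponents R X ↔ IsGen X ξ := by
  rw [mem_fibreComponents_iff]
  constructor
  · rintro ⟨η, hη, h⟩
    have h1 : ξ ⤳ η := by
      rw [specializes_iff_mem_closure, h]; exact subset_closure rfl
    have h2 : η ⤳ ξ := by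
      rw [specializes_iff_mem_closure, ← h]; exact subset_closure rfl
    have : ξ = η := (h1.antisymm h2).eq
    rwa [this]
  · intro h
    exact ⟨ξ, h, rfl⟩

/-- Every point of the closed fibre lies on a component. -/
theorem exists_isGen (x : X.left) (hx : X.hom x = closedPoint R) :
    ∃ ξ, ξ ⤳ x ∧ IsGen X ξ := by
  let F : Set X.left := Models.specialFibreSet R X
  have hF : IsClosed F := Models.isClosed_specialFibreSet R X
  let x' : F := ⟨x, hx⟩
  have hirr : IsIrreducible ((↑) '' (irreducibleComponent x') : Set X.left) :=
    isIrreducible_irreducibleComponent.image _ continuous_subtype_val.continuousOn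
  have hcl : IsClosed ((↑) '' (irreducibleComponent x') : Set X.left) :=
    hF.isClosedEmbedding_subtypeVal.isClosedMap _ isClosed_irreducibleComponent
  obtain ⟨ξ, hξ⟩ := QuasiSober.sober hirr hcl
  have hξ' : closure {ξ} = ((↑) '' (irreducibleComponent x') : Set X.left) := hξ
  have hξm : ξ ∈ ((↑) '' (irreducibleComponent x') : Set X.left) := hξ.mem
  refine ⟨ξ, ?_, ?_, ?_⟩
  · rw [specializes_iff_mem_closure, hξ']
    exact ⟨x', mem_irreducibleComponent, rfl⟩
  · obtain ⟨y, -, rfl⟩ := hξm
    exact y.2
  · intro z hz hzF
    let z' : F := ⟨z, hzF⟩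
    have h1 : IsIrreducible (closure {z'}) := isIrreducible_singleton.closure
    have h2 : irreducibleComponent x' ⊆ closure {z'} := by
      intro y hy
      have h3 : ξ ⤳ (y : X.left) := by
        rw [specializes_iff_mem_closure, hξ']
        exact ⟨y, hy, rfl⟩
      have h4 : z ⤳ (y : X.left) := hz.trans h3
      rw [← specializes_iff_mem_closure]
      exact Topology.IsInducing.subtypeVal.specializes_iff.mp h4
    have h3 : closure {z'} = irreducibleComponent x' := eq_irreducibleComponent h1.2 h2
    have h4 : z' ∈ irreducibleComponent x' := h3 ▸ subset_closure rfl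
    have h5 : ξ ⤳ z := by
      rw [specializes_iff_mem_closure, hξ']
      exact ⟨z', h4, rfl⟩
    exact (hz.antisymm h5).eq

end K381.FibComp
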