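import Groth.Agent.Models.H55.Pts
import Groth.Agent.Models.H54.SurfGeom
import Groth.Agent.Models.DVRGeneric
import Groth.Agent.Dix.NormalLoc
import Groth.Agent.Ega2.Normal
import Groth.Agent.Models.K381.FibComp

/-!
# Extension of birational maps between proper normal models (S16552)
-/

set_option autoImplicit false
universe u

open AlgebraicGeometry CategoryTheory CategoryTheory.Limits IsLocalRing TopologicalSpace
open Groth.Agent.Dix Groth.Agent.Dix.QuadVal Groth.Agent.Dix.Center Groth.Agent.Models.H55.Graph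

namespace K381.ExtMod

variable {R : Type u} [CommRing R] [IsDomain R] [IsDiscreteValuationRing R]

/-- Two points of an integral scheme, separated over `S`, over the same point of `S` and whose local rings have the
same image in the function field, one of them being a valuation ring, are equal. -/
theorem eq_of_range_eq {X S : Scheme.{u}} [IsIntegral X] (f : X ⟶ S) [IsSeparated f] (x x' : X)
    (hx : f x = f x') (h : Set.range (toK X x) = Set.range (toK X x')) : x = x' := by
  obtain ⟨V, hV⟩ := ExcGen.exists_dom x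
  refine center_unique f x x' hx V hV ⟨fun a => ?_, fun a ha => ?_⟩
  · obtain ⟨b, hb⟩ : toK X x' a ∈ Set.range (toK X x) := h ▸ ⟨a, rfl⟩
    rw [← hb]
    exact hV.le_one b
  · obtain ⟨b, hb⟩ : toK X x' a ∈ Set.range (toK X x) := h ▸ ⟨a, rfl⟩
    rw [← hb]
    refine hV.lt_one b ?_
    rw [mem_maximalIdeal, mem_nonunits_iff] at ha ⊢
    intro hu
    apply ha
    obtain ⟨c, hc⟩ := hu.exists_right_inv
    obtain ⟨d, hd⟩ : toK X x c ∈ Set.range (toK X x') := h ▸ ⟨c, rfl⟩
    refine IsUnit.of_mul_eq_one d (toK_injective X x' ?_)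
    rw [map_mul, hd, ← hb, ← map_mul, hc, map_one, map_one]

/-- The generic point of a flat scheme lies over the generic point. -/
theorem hom_genericPoint (X : Over (Spec (CommRingCat.of R))) [IsIntegral X.left] [Flat X.hom] :
    X.hom (genericPoint X.left) ≠ closedPoint R := by
  intro h
  have h1 : (⊥ : PrimeSpectrum R) ⤳ closedPoint R := by
    rw [← PrimeSpectrum.le_iff_specializes]
    exact bot_le
  obtain ⟨x, hx, hx'⟩ := Flat.generalizingMap X.hom (show (⊥ : PrimeSpectrum R) ⤳ X.hom (genericPoint X.left) by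
    rw [h]; exact h1)
  have h2 : x = genericPoint X.left := (hx.antisymm (genericPoint_specializes X.left x)).eq
  rw [h2, h] at hx'
  have h3 : maximalIdeal R = ⊥ := congrArg PrimeSpectrum.asIdeal hx'
  exact IsDiscreteValuationRing.not_a_field R h3

/-- A point of the closed fibre with a proper specialization is a generic point of the closed fibre, provided
closed points have local rings of dimension two. -/
theorem isGen_of_specializes (X : Over (Spec (CommRingCat.of R))) [IsIntegral X.left] [Flat X.hom]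
    (hd : ∀ x : X.left, IsClosed ({x} : Set X.left) → ringKrullDim (X.left.presheaf.stalk x) = 2)
    {ξ x : X.left} (hξ : X.hom ξ = closedPoint R) (hx : IsClosed ({x} : Set X.left)) (h : ξ ⤳ x) (hne : x ≠ ξ) :
    K381.FibComp.IsGen X ξ := by
  refine ⟨hξ, fun z hz hzs => ?_⟩
  by_contra hne'
  have hg : genericPoint X.left ≠ z := by
    rintro rfl
    exact hom_genericPoint X hzs
  exact ExcGen.not_coheight_of_chain (genericPoint_specializes X.left z) hz h hg.symm (Ne.symm hne') hne
    ((BlowIrr.coheight_eq_two_iff x).mp (hd x hx)).le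

theorem coheight_le_one (X : Over (Spec (CommRingCat.of R))) [IsIntegral X.left]
    (hd : ∀ x : X.left, IsClosed ({x} : Set X.left) → ringKrullDim (X.left.presheaf.stalk x) = 2)
    {ξ x : X.left} (hx : IsClosed ({x} : Set X.left)) (h : ξ ⤳ x) (hne : x ≠ ξ) :
    Order.coheight ξ ≤ 1 := by
  have h1 := Order.coheight_add_one_le (BlowIrr.lt_of_specializes h hne)
  rw [(BlowIrr.coheight_eq_two_iff x).mp (hd x hx)] at h1
  have h2 : Order.coheight ξ + 1 ≤ 1 + 1 := by
    rw [one_add_one_eq_two]; exact h1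
  exact (ENat.add_le_add_iff_right (by decide)).mp h2

/-- On a normal scheme the local rings at points with a proper specialization to a closed point of codimension two
are valuation rings. -/
theorem valuationRing_stalk (X : Over (Spec (CommRingCat.of R))) [IsIntegral X.left] [IsLocallyNoetherian X.left]
    (hn : Pi1.IsNormalScheme X.left)
    (hd : ∀ x : X.left, IsClosed ({x} : Set X.left) → ringKrullDim (X.left.presheaf.stalk x) = 2)
    {ξ x : X.left} (hx : IsClosed ({x} : Set X.left)) (h : ξ ⤳ x) (hne : x ≠ ξ) :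
    ValuationRing (X.left.presheaf.stalk ξ) := by
  have := (hn ξ).2
  refine (NormalLoc.valuationRing_of_not_two_le_ringKrullDim _ fun h2 => ?_).1
  rw [ringKrullDim_stalk_eq_coheight] at h2
  have h3 := coheight_le_one X hd hx h hne
  have h4 : (2 : ℕ∞) ≤ Order.coheight ξ := WithBot.coe_le_coe.mp h2
  exact absurd (h4.trans h3) (by decide)

/-- The ring homomorphism from the local ring at `x` to the field of functions of `C`. -/
noncomputable def th {C X : Scheme.{u}} [IsIntegral C] (j : C ⟶ X) (x : X) (h : j (genericPoint C) ⤳ x) :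
    X.presheaf.stalk x →+* C.presheaf.stalk (genericPoint C) :=
  (j.stalkMap (genericPoint C)).hom.comp (X.presheaf.stalkSpecializes h).hom

theorem th_comp {C G X : Scheme.{u}} [IsIntegral C] (j : C ⟶ G) (q : G ⟶ X) (i : C ⟶ X) (e : j ≫ q = i) (z : G)
    (h : j (genericPoint C) ⤳ z) (h' : i (genericPoint C) ⤳ q z) (a : X.presheaf.stalk (q z)) :
    th i (q z) h' a = th j z h (q.stalkMap z a) := by
  subst e
  have h1 := Scheme.Hom.stalkSpecializes_stalkMap q (j (genericPoint C)) z h
  have h2 := DFunLike.congr_fun (congrArg CommRingCat.Hom.hom h1) a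
  change ((j ≫ q).stalkMap (genericPoint C)) (X.presheaf.stalkSpecializes h' a) = _
  rw [Scheme.Hom.stalkMap_comp]
  exact congrArg (j.stalkMap (genericPoint C)) h2

theorem th_eq_toK {C X : Scheme.{u}} [IsIntegral C] [IsIntegral X] (j : C ⟶ X)
    (hj : j (genericPoint C) = genericPoint X) :
    ∃ σ : X.functionField →+* C.presheaf.stalk (genericPoint C), Function.Injective σ ∧
      ∀ (x : X) (h : j (genericPoint C) ⤳ x) (a : X.presheaf.stalk x), th j x h a = σ (toK X x a) := by
  have hs : j (genericPoint C) ⤳ genericPoint X := by rw [hj]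
  refine ⟨th j (genericPoint X) hs, ?_, fun x h a => ?_⟩
  · exact RingHom.injective (show X.functionField →+* C.presheaf.stalk (genericPoint C) from
      th j (genericPoint X) hs)
  · have h1 := X.presheaf.stalkSpecializes_comp hs (genericPoint_specializes X x)
    have h2 := DFunLike.congr_fun (congrArg CommRingCat.Hom.hom h1) a
    exact congrArg (j.stalkMap (genericPoint C)) h2.symm

theorem eq_of_range_th_eq {C X S : Scheme.{u}} [IsIntegral C] [IsIntegral X] (f : X ⟶ S) [IsSeparated f]
    (j : C ⟶ X) (hj : j (genericPoint C) = genericPoint X) (x x' : X) (hx : f x = f x')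
    (h1 : j (genericPoint C) ⤳ x) (h2 : j (genericPoint C) ⤳ x')
    (h : Set.range (th j x h1) = Set.range (th j x' h2)) : x = x' := by
  obtain ⟨σ, hσ, hσ'⟩ := th_eq_toK j hj
  refine eq_of_range_eq f x x' hx ?_
  have e1 : Set.range (th j x h1) = σ '' Set.range (toK X x) := by
    rw [← Set.range_comp]
    exact congrArg Set.range (funext fun a => hσ' x h1 a)
  have e2 : Set.range (th j x' h2) = σ '' Set.range (toK X x') := by
    rw [← Set.range_comp]
    exact congrArg Set.range (funext fun a => hσ' x' h2 a)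
  rw [e1, e2] at h
  exact hσ.image_injective h

theorem th_injective {C X : Scheme.{u}} [IsIntegral C] [IsIntegral X] (j : C ⟶ X)
    (hj : j (genericPoint C) = genericPoint X) (x : X) (h : j (genericPoint C) ⤳ x) :
    Function.Injective (th j x h) := by
  obtain ⟨σ, hσ, hσ'⟩ := th_eq_toK j hj
  intro a b hab
  rw [hσ', hσ'] at hab
  exact toK_injective X x (hσ hab)

/-- A subring-isomorphism argument: two domains with the same image in a ring. -/
theorem valuationRing_of_range_eq {A B L : Type*} [CommRing A] [CommRing B] [CommRing L] [IsDomain A] [IsDomain B]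
    [ValuationRing A] (i : A →+* L) (i' : B →+* L) (hi' : Function.Injective i')
    (h : Set.range i' = Set.range i) : ValuationRing B := by
  have key : ∀ b : B, ∃ a : A, i a = i' b := fun b => by
    have : i' b ∈ Set.range i := h ▸ ⟨b, rfl⟩
    exact this
  refine ValuationRing.iff_dvd_total.mpr ⟨fun b b' => ?_⟩
  obtain ⟨a, ha⟩ := key b
  obtain ⟨a', ha'⟩ := key b'
  rcases ValuationRing.dvd_total a a' with ⟨c, hc⟩ | ⟨c, hc⟩
  · left
    obtain ⟨d, hd⟩ : i c ∈ Set.range i' := h ▸ ⟨c, rfl⟩
    exact ⟨d, hi' (by rw [← ha', hc, map_mul, map_mul, hd, ha])⟩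
  · right
    obtain ⟨d, hd⟩ : i c ∈ Set.range i' := h ▸ ⟨c, rfl⟩
    exact ⟨d, hi' (by rw [← ha, hc, map_mul, map_mul, hd, ha'])⟩

theorem ringKrullDim_le_one_of_valuationRing (A : Type*) [CommRing A] [IsDomain A] [IsNoetherianRing A]
    [ValuationRing A] : ringKrullDim A ≤ 1 := by
  have h0 := tfae_of_isNoetherianRing_of_isLocalRing_of_isDomain (R := A)
  have h1 : IsPrincipalIdealRing A :=
    (show IsPrincipalIdealRing A ↔ ValuationRing A from h0.out 0 1).mpr inferInstance
  have h2 : Ring.KrullDimLE 1 A := inferInstance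
  exact (Ring.krullDimLE_iff.mp h2)

/-- Local rings at closed points of a proper flat integral model of a curve have dimension two. -/
theorem dim_closed {C : Scheme.{u}} [IsIntegral C] {fC : C ⟶ Spec (CommRingCat.of (FractionRing R))}
    (hdim : topologicalKrullDim C = 1) (X : Over (Spec (CommRingCat.of R))) [IsIntegral X.left]
    [IsProper X.hom] [Flat X.hom] (iX : C ⟶ X.left)
    (hiX : IsPullback iX fC X.hom (Spec.map (CommRingCat.ofHom (algebraMap R (FractionRing R)))))
    (x : X.left) (hx : IsClosed ({x} : Set X.left)) : ringKrullDim (X.left.presheaf.stalk x) = 2 := by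
  let e : C ≅ ((Neron.genericFibre R).obj (Over.mk X.hom)).left := IsPullback.isoIsPullback X.left (Spec (CommRingCat.of (FractionRing R))) hiX (Groth.Agent.Dix.GenFibre.isPullback_genι (Over.mk X.hom))
  have h1 : IrreducibleSpace ((Neron.genericFibre R).obj (Over.mk X.hom)).left :=
    Function.Surjective.irreducibleSpace e.hom.homeomorph.continuous e.hom.homeomorph.surjective
  have h2 : topologicalKrullDim ((Neron.genericFibre R).obj (Over.mk X.hom)).left = 1 := by
    rw [← hdim]
    exact (IsHomeomorph.topologicalKrullDim_eq e.hom.homeomorph e.hom.homeomorph.isHomeomorph).symm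
  have h3 : IsProper (Over.mk X.hom).hom := ‹IsProper X.hom›
  have h4 : Flat (Over.mk X.hom).hom := ‹Flat X.hom›
  have h5 : IsIntegral (Over.mk X.hom).left := ‹IsIntegral X.left›
  exact Groth.Agent.Models.H54.SurfGeom.ringKrullDim_stalk_of_isClosed (Over.mk X.hom) h2 x hx

section Main

variable {C : Scheme.{u}} [IsIntegral C] {X W : Over (Spec (CommRingCat.of R))} [IsIntegral X.left] [IsIntegral W.left]
  [IsProper X.hom] [Flat X.hom] [IsProper W.hom] [Flat W.hom] {iX : C ⟶ X.left} {iW : C ⟶ W.left}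
  [IsOpenImmersion iX] [IsOpenImmersion iW] (Q : BGraph W.hom X.hom iW iX)

include Q in
theorem j_genericPoint : Q.j (genericPoint C) = genericPoint Q.G := by
  have h1 : Q.q₂ (Q.j (genericPoint C)) = genericPoint X.left := by
    rw [← Scheme.Hom.comp_apply, Q.j₂]
    exact genericPoint_eq_of_isOpenImmersion iX
  exact (ExcGen.eq_of_isIso_stalkMap Q.q₂ (genericPoint Q.G) (Q.j (genericPoint C))
    (Q.gen₂.trans h1.symm) Q.iso₂).symm

/-- The key step: the second projection of the graph is quasi-finite. -/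
theorem quasiFiniteAt (hXn : Pi1.IsNormalScheme X.left) (hWn : Pi1.IsNormalScheme W.left)
    (hXd : ∀ x : X.left, IsClosed ({x} : Set X.left) → ringKrullDim (X.left.presheaf.stalk x) = 2)
    (hWd : ∀ x : W.left, IsClosed ({x} : Set W.left) → ringKrullDim (W.left.presheaf.stalk x) = 2)
    (H : ∀ (ξ : W.left) (hξ : iW (genericPoint C) ⤳ ξ), K381.FibComp.IsGen W ξ →
        ∃ (ξ' : X.left) (hξ' : iX (genericPoint C) ⤳ ξ'), X.hom ξ' = closedPoint R ∧
          Set.range (th iX ξ' hξ') = Set.range (th iW ξ hξ))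
    (z₀ : Q.G) (hz₀ : IsClosed ({z₀} : Set Q.G)) : Q.q₂.QuasiFiniteAt z₀ := by
  have hXN : IsLocallyNoetherian X.left := LocallyOfFiniteType.isLocallyNoetherian X.hom
  have hWN : IsLocallyNoetherian W.left := LocallyOfFiniteType.isLocallyNoetherian W.hom
  refine IsoPt.quasiFiniteAt_of Q.q₂ z₀ hz₀ fun z hz hs => ?_
  by_contra hne
  have hx₀ : IsClosed ({Q.q₂ z₀} : Set X.left) := by
    have := Q.q₂.isClosedMap _ hz₀
    rwa [Set.image_singleton] at this
  have hw₀ : IsClosed ({Q.q₁ z₀} : Set W.left) := by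
    have := Q.q₁.isClosedMap _ hz₀
    rwa [Set.image_singleton] at this
  have h₁ : Q.q₁ z ≠ Q.q₁ z₀ := fun h₁ =>
    hne (Groth.Agent.Models.H55.Pts.specializes_eq Q z₀ z hx₀ hs hz h₁)
  have hs₁ : Q.q₁ z ⤳ Q.q₁ z₀ := hs.map Q.q₁.continuous
  have hw : ∀ v : Q.G, W.hom (Q.q₁ v) = X.hom (Q.q₂ v) := fun v => by
    rw [← Scheme.Hom.comp_apply, ← Scheme.Hom.comp_apply, Q.w]
  have hcl : X.hom (Q.q₂ z₀) = closedPoint R :=
    Groth.Agent.Models.H54.SurfGeom.hom_eq_closedPoint_of_isClosed X _ hx₀
  have hzc : W.hom (Q.q₁ z) = closedPoint R := by rw [hw, hz, hcl]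
  have hgen : K381.FibComp.IsGen W (Q.q₁ z) := isGen_of_specializes W hWd hzc hw₀ hs₁ (Ne.symm h₁)
  have hval : ValuationRing (W.left.presheaf.stalk (Q.q₁ z)) :=
    valuationRing_stalk W hWn hWd hw₀ hs₁ (Ne.symm h₁)
  have hiW : iW (genericPoint C) = genericPoint W.left := genericPoint_eq_of_isOpenImmersion iW
  have hiX : iX (genericPoint C) = genericPoint X.left := genericPoint_eq_of_isOpenImmersion iX
  have hj := j_genericPoint Q
  obtain ⟨ξ', hξ', hξc, hr⟩ := H (Q.q₁ z) (by rw [hiW]; exact genericPoint_specializes _ _) hgen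
  have hval' : ValuationRing (X.left.presheaf.stalk ξ') :=
    valuationRing_of_range_eq _ _ (th_injective iX hiX ξ' hξ') hr
  obtain ⟨z', hz', hiso', -⟩ := Groth.Agent.Models.H55.Pts.exists_pt Q.q₂ Q.gen₂ Q.iso₂ ξ'
  have hiso : IsIso (Q.q₁.stalkMap z) :=
    Groth.Agent.Models.H55.Pts.isIso_stalkMap_of_valuationRing Q.q₁ Q.gen₁ Q.iso₁ z
  have hjz : ∀ v : Q.G, Q.j (genericPoint C) ⤳ v := fun v => by
    rw [hj]; exact genericPoint_specializes _ _
  subst hz'
  have e1 : Set.range (th iW (Q.q₁ z) (by rw [hiW]; exact genericPoint_specializes _ _)) =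
      Set.range (th Q.j z (hjz z)) := by
    have hs := (ConcreteCategory.isIso_iff_bijective (Q.q₁.stalkMap z)).mp hiso
    rw [← hs.2.range_comp]
    exact congrArg Set.range (funext fun a => th_comp Q.j Q.q₁ iW Q.j₁ z (hjz z) _ a)
  have e2 : Set.range (th iX (Q.q₂ z') hξ') = Set.range (th Q.j z' (hjz z')) := by
    have hs := (ConcreteCategory.isIso_iff_bijective (Q.q₂.stalkMap z')).mp hiso'
    rw [← hs.2.range_comp]
    exact congrArg Set.range (funext fun a => th_comp Q.j Q.q₂ iX Q.j₂ z' (hjz z') _ a)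
  have hzz : z' = z := by
    refine eq_of_range_th_eq (Q.q₂ ≫ X.hom) Q.j hj z' z ?_ (hjz z') (hjz z) (by rw [← e1, ← e2, hr])
    rw [Scheme.Hom.comp_apply, Scheme.Hom.comp_apply, hξc, hz, hcl]
  have hd := hXd _ hx₀
  have hval'' : ValuationRing (X.left.presheaf.stalk (Q.q₂ z₀)) := by
    rw [← hz, ← hzz]; exact hval'
  have hd1 := ringKrullDim_le_one_of_valuationRing (X.left.presheaf.stalk (Q.q₂ z₀))
  rw [hd] at hd1
  exact absurd hd1 (by decide)

/-- Under the assumption of `quasiFiniteAt` the second projection of the graph is an isomorphism. -/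
theorem isIso_q₂ (hXn : Pi1.IsNormalScheme X.left) (h : ∀ z₀ : Q.G, IsClosed ({z₀} : Set Q.G) → Q.q₂.QuasiFiniteAt z₀) :
    IsIso Q.q₂ := by
  have hc : CompactSpace Q.G := by
    have : CompactSpace X.left := QuasiCompact.compactSpace_of_compactSpace X.hom
    exact QuasiCompact.compactSpace_of_compactSpace Q.q₂
  have h1 : Q.q₂.quasiFiniteLocus = ⊤ := by
    by_contra hne
    have h2 : IsClosed ((Q.q₂.quasiFiniteLocus : Set Q.G)ᶜ) := Q.q₂.quasiFiniteLocus.isOpen.isClosed_compl
    have h3 : ((Q.q₂.quasiFiniteLocus : Set Q.G)ᶜ).Nonempty := by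
      rw [Set.nonempty_compl]
      intro h4
      exact hne (TopologicalSpace.Opens.ext h4)
    obtain ⟨z, hz, hz'⟩ := h2.exists_closed_singleton h3
    exact hz (h z hz')
  have h2 : LocallyQuasiFinite Q.q₂ := (Scheme.Hom.quasiFiniteLocus_eq_top_iff Q.q₂).mp h1
  have h3 : IsFinite Q.q₂ := IsFinite.of_isProper_of_locallyQuasiFinite Q.q₂
  have h4 : IsOpenImmersion (Q.j ≫ Q.q₂) := by rw [Q.j₂]; infer_instance
  have h5 : Nonempty C := inferInstance
  exact Groth.Agent.Ega2.Normal.isIso_of_isOpenImmersion_comp hXn Q.q₂ Q.j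

end Main

/-- Extension of the identification of the generic fibres to a morphism of proper normal models. -/
theorem exists_hom {C : Scheme.{u}} [IsIntegral C] {fC : C ⟶ Spec (CommRingCat.of (FractionRing R))}
    (hdim : topologicalKrullDim C = 1) (X W : Over (Spec (CommRingCat.of R))) [IsIntegral X.left]
    [IsIntegral W.left] (hXn : Pi1.IsNormalScheme X.left) (hWn : Pi1.IsNormalScheme W.left)
    [IsProper X.hom] [Flat X.hom] [IsProper W.hom] [Flat W.hom] (iX : C ⟶ X.left) (iW : C ⟶ W.left)
    (hiX : IsPullback iX fC X.hom (Spec.map (CommRingCat.ofHom (algebraMap R (FractionRing R)))))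
    (hiW : IsPullback iW fC W.hom (Spec.map (CommRingCat.ofHom (algebraMap R (FractionRing R)))))
    (H : ∀ (ξ : W.left) (hξ : iW (genericPoint C) ⤳ ξ), K381.FibComp.IsGen W ξ →
        ∃ (ξ' : X.left) (hξ' : iX (genericPoint C) ⤳ ξ'), X.hom ξ' = closedPoint R ∧
          Set.range (th iX ξ' hξ') = Set.range (th iW ξ hξ)) :
    ∃ φ : X ⟶ W, iX ≫ φ.left = iW := by
  have ho : IsOpenImmersion (Spec.map (CommRingCat.ofHom (algebraMap R (FractionRing R)))) :=
    Groth.Agent.Models.DVRGeneric.isOpenImmersion_generic R (FractionRing R)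
  have ho₁ : IsOpenImmersion iX := MorphismProperty.of_isPullback (P := @IsOpenImmersion) hiX.flip ho
  have ho₂ : IsOpenImmersion iW := MorphismProperty.of_isPullback (P := @IsOpenImmersion) hiW.flip ho
  have hqc : QuasiCompact iW := MorphismProperty.of_isPullback (P := @QuasiCompact) hiW.flip inferInstance
  have w : iW ≫ W.hom = iX ≫ X.hom := by rw [hiX.w, hiW.w]
  obtain ⟨Q⟩ := exists_graph W.hom X.hom iW iX w
  have hiso := isIso_q₂ Q hXn (quasiFiniteAt Q hXn hWn (fun x hx => dim_closed hdim X iX hiX x hx)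
    (fun x hx => dim_closed hdim W iW hiW x hx) H)
  refine ⟨Over.homMk (inv Q.q₂ ≫ Q.q₁) ?_, ?_⟩
  · rw [Category.assoc, Q.w, IsIso.inv_hom_id_assoc]
  · change iX ≫ inv Q.q₂ ≫ Q.q₁ = iW
    have e : iX ≫ inv Q.q₂ = Q.j := by rw [IsIso.comp_inv_eq]; exact Q.j₂.symm
    rw [← Category.assoc, e, Q.j₁]

end K381.ExtMod
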