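import Groth.Agent.Models.K381.DedFlat
import Groth.Agent.Dix.FlatMonoStalk
import Groth.Agent.Ega2.Normal
import Mathlib.AlgebraicGeometry.PullbackCarrier
import Mathlib.AlgebraicGeometry.Morphisms.ClosedImmersion

/-!
# The generic fibre of a scheme over an integral scheme; closures of subschemes of the generic fibre
-/

set_option autoImplicit false
universe u

open AlgebraicGeometry CategoryTheory CategoryTheory.Limits IsLocalRing TopologicalSpace

namespace K381.GenFib

open K381.DedFlat

theorem flat_fromSpecStalk (X : Scheme.{u}) (x : X) : Flat (X.fromSpecStalk x) := by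
  obtain ⟨_, ⟨U, hU, rfl⟩, hx, -⟩ :=
    X.isBasis_affineOpens.exists_subset_of_mem_open (Set.mem_univ x) isOpen_univ
  have h : Flat (Spec.map (X.presheaf.germ U x hx)) := by
    rw [Flat.SpecMap_iff]
    let _ : Algebra Γ(X, U) (X.presheaf.stalk x) := (X.presheaf.germ U x hx).hom.toAlgebra
    have := hU.isLocalization_stalk ⟨x, hx⟩
    exact IsLocalization.flat (X.presheaf.stalk x) (hU.primeIdealOf ⟨x, hx⟩).asIdeal.primeCompl
  rw [← hU.fromSpecStalk_eq_fromSpecStalk hx]
  have : IsOpenImmersion hU.fromSpec := hU.isOpenImmersion_fromSpec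
  have : Flat hU.fromSpec := inferInstance
  exact MorphismProperty.comp_mem @Flat _ _ h this

section

variable {S : Scheme.{u}} [IsIntegral S] {C Y : Scheme.{u}} {f : Y ⟶ S} {i : C ⟶ Y} {g : C ⟶ Spec S.functionField}
  (h : IsPullback i g f (S.fromSpecStalk (genericPoint S)))

include h

theorem flat : Flat i :=
  MorphismProperty.of_isPullback (P := @Flat) h.flip (flat_fromSpecStalk _ _)

theorem isPreimmersion : IsPreimmersion i :=
  MorphismProperty.of_isPullback (P := @IsPreimmersion) h.flip inferInstance

theorem quasiCompact : QuasiCompact i :=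
  MorphismProperty.of_isPullback (P := @QuasiCompact) h.flip (K262.GenExt.quasiCompact_fromSpecStalk S)

theorem isIso_stalkMap (c : C) : IsIso (i.stalkMap c) := by
  have := flat h
  have := isPreimmersion h
  exact Groth.Agent.Dix.FlatMonoStalk.isIso_stalkMap_of_flat_of_mono i c

theorem map_eq (c : C) : f (i c) = genericPoint S := by
  rw [← Scheme.Hom.comp_apply, h.w, Scheme.Hom.comp_apply]
  have h1 : Subsingleton (Spec S.functionField) := Groth.Agent.Ega2.Normal.subsingleton_spec_functionField S
  rw [Subsingleton.elim (g c) (closedPoint S.functionField)]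
  exact Scheme.fromSpecStalk_closedPoint

theorem mem_range_iff (y : Y) : y ∈ Set.range i ↔ f y = genericPoint S := by
  constructor
  · rintro ⟨c, rfl⟩
    exact map_eq h c
  · intro hy
    obtain ⟨c, hc, -⟩ := Scheme.exists_preimage_of_isPullback h y (closedPoint S.functionField)
      (hy.trans (Scheme.fromSpecStalk_closedPoint (x := genericPoint S)).symm)
    exact ⟨c, hc⟩

theorem isReduced [IsReduced Y] : IsReduced C := by
  have : ∀ c : C, _root_.IsReduced (C.presheaf.stalk c) := fun c => by
    have h1 := isIso_stalkMap h c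
    exact isReduced_of_injective (inv (i.stalkMap c)).hom (ConcreteCategory.bijective_of_isIso (inv (i.stalkMap c))).1
  exact isReduced_of_isReduced_stalk C

theorem exists_generic [IsIntegral Y] [IsDominant f] : ∃ c₀ : C, i c₀ = genericPoint Y := by
  have h1 : genericPoint Y ∈ Set.range i := by
    rw [mem_range_iff h]
    exact map_genericPoint f
  exact h1

theorem isIntegral [IsIntegral Y] [IsDominant f] : IsIntegral C := by
  have h1 := isReduced h
  have := isPreimmersion h
  obtain ⟨c₀, hc₀⟩ := exists_generic h
  have h2 : ∀ c : C, c₀ ⤳ c := fun c => by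
    rw [← i.isEmbedding.isInducing.specializes_iff, hc₀]
    exact genericPoint_specializes _
  have h3 : IrreducibleSpace C := by
    rw [irreducibleSpace_def]
    have h4 : (⊤ : Set C) = closure {c₀} := by
      ext c
      simp only [Set.top_eq_univ, Set.mem_univ, true_iff]
      exact (h2 c).mem_closure
    rw [h4]
    exact isIrreducible_singleton.closure
  exact isIntegral_of_irreducibleSpace_of_isReduced _

theorem map_genericPoint_eq [IsIntegral Y] [IsDominant f] [IsIntegral C] :
    i (genericPoint C) = genericPoint Y := by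
  have := isPreimmersion h
  obtain ⟨c₀, hc₀⟩ := exists_generic h
  have h2 : ∀ c : C, c₀ ⤳ c := fun c => by
    rw [← i.isEmbedding.isInducing.specializes_iff, hc₀]
    exact genericPoint_specializes _
  rw [← hc₀, ((h2 (genericPoint C)).antisymm (genericPoint_specializes c₀)).eq]

end

/-- A monomorphism in the middle of a commutative triangle of closed immersions. -/
theorem isClosedImmersion_of_comp {X Y Z : Scheme.{u}} (f : X ⟶ Y) (g : Y ⟶ Z) [IsClosedImmersion (f ≫ g)]
    [IsSeparated g] : IsClosedImmersion f :=
  IsClosedImmersion.of_comp f g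

/-- The closure in `P` of an integral closed subscheme of the generic fibre of `P → S`. -/
theorem exists_closure {S : Scheme.{u}} [IsIntegral S] (hS : ∀ s : S, IsPrincipalIdealRing (S.presheaf.stalk s))
    {C : Scheme.{u}} [IsIntegral C] (g : C ⟶ Spec S.functionField) {P : Scheme.{u}} (p : P ⟶ S)
    (l : C ⟶ pullback p (S.fromSpecStalk (genericPoint S))) [IsClosedImmersion l]
    (hl : l ≫ pullback.snd _ _ = g) :
    ∃ (Y : Scheme.{u}) (j : Y ⟶ P) (i : C ⟶ Y), IsClosedImmersion j ∧ IsIntegral Y ∧ Flat (j ≫ p) ∧
      IsDominant (j ≫ p) ∧ IsPullback i g (j ≫ p) (S.fromSpecStalk (genericPoint S)) ∧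
      i ≫ j = l ≫ pullback.fst _ _ := by
  have hqc0 := K262.GenExt.quasiCompact_fromSpecStalk S
  let j₀ : C ⟶ P := l ≫ pullback.fst p (S.fromSpecStalk (genericPoint S))
  have hqc : QuasiCompact j₀ := inferInstance
  have hw : j₀ ≫ p = g ≫ S.fromSpecStalk (genericPoint S) := by
    change (l ≫ pullback.fst _ _) ≫ p = _
    rw [Category.assoc, pullback.condition, reassoc_of% hl]
  have hint : IsIntegral j₀.image := Groth.Agent.Ega2.Normal.isIntegral_image j₀
  have hcomp : j₀.toImage ≫ (j₀.imageι ≫ p) = g ≫ S.fromSpecStalk (genericPoint S) := by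
    rw [Scheme.Hom.toImage_imageι_assoc, hw]
  have hgd : IsDominant g := by
    constructor
    have h1 : Subsingleton (Spec S.functionField) := Groth.Agent.Ega2.Normal.subsingleton_spec_functionField S
    intro x
    rw [Subsingleton.elim x (g (genericPoint C))]
    exact subset_closure ⟨_, rfl⟩
  have hγd := K262.GenExt.isDominant_fromSpecStalk S
  have hdom : IsDominant (j₀.imageι ≫ p) := by
    have h1 : IsDominant (j₀.toImage ≫ (j₀.imageι ≫ p)) := by rw [hcomp]; infer_instance
    exact IsDominant.of_comp j₀.toImage _
  have hflat : Flat (j₀.imageι ≫ p) := flat_of_isDominant _ hS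
  refine ⟨j₀.image, j₀.imageι, j₀.toImage, inferInstance, hint, hflat, hdom, ?_, j₀.toImage_imageι⟩
  let YK := pullback (j₀.imageι ≫ p) (S.fromSpecStalk (genericPoint S))
  have hpb : IsPullback (pullback.fst _ _) (pullback.snd _ _) (j₀.imageι ≫ p) (S.fromSpecStalk (genericPoint S)) :=
    IsPullback.of_hasPullback _ _
  have hYK : IsIntegral YK := isIntegral hpb
  let m : C ⟶ YK := pullback.lift j₀.toImage g hcomp
  let r : YK ⟶ pullback p (S.fromSpecStalk (genericPoint S)) :=
    pullback.lift (pullback.fst _ _ ≫ j₀.imageι) (pullback.snd _ _) (by rw [Category.assoc, pullback.condition])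
  have hr1 : r ≫ pullback.fst p (S.fromSpecStalk (genericPoint S)) = pullback.fst _ _ ≫ j₀.imageι :=
    pullback.lift_fst _ _ _
  have hr2 : r ≫ pullback.snd p (S.fromSpecStalk (genericPoint S)) = pullback.snd _ _ :=
    pullback.lift_snd _ _ _
  have hmr : m ≫ r = l := by
    apply pullback.hom_ext
    · rw [Category.assoc, hr1, pullback.lift_fst_assoc, Scheme.Hom.toImage_imageι]
    · rw [Category.assoc, hr2, pullback.lift_snd, hl]
  have hr : Mono r := by
    constructor
    intro Z a b hab
    apply pullback.hom_ext
    · rw [← cancel_mono j₀.imageι, Category.assoc, Category.assoc, ← hr1, reassoc_of% hab]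
    · rw [← hr2, reassoc_of% hab]
  have hmc : IsClosedImmersion (m ≫ r) := by rw [hmr]; infer_instance
  have hm : IsClosedImmersion m := IsClosedImmersion.of_comp m r
  have hms : Surjective m := by
    have h1 : IsPreimmersion (pullback.fst (j₀.imageι ≫ p) (S.fromSpecStalk (genericPoint S))) := inferInstance
    have h2 : pullback.fst (j₀.imageι ≫ p) (S.fromSpecStalk (genericPoint S)) (m (genericPoint C)) =
        pullback.fst (j₀.imageι ≫ p) (S.fromSpecStalk (genericPoint S)) (genericPoint YK) := by
      rw [← Scheme.Hom.comp_apply, pullback.lift_fst, map_genericPoint_eq hpb, map_genericPoint]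
    have h3 : m (genericPoint C) = genericPoint YK :=
      (pullback.fst (j₀.imageι ≫ p) (S.fromSpecStalk (genericPoint S))).isEmbedding.injective h2
    constructor
    rw [← Set.range_eq_univ, ← m.isClosedEmbedding.isClosed_range.closure_eq, ← Set.univ_subset_iff,
      ← genericPoint_closure YK, ← h3]
    exact closure_mono (Set.singleton_subset_iff.mpr ⟨_, rfl⟩)
  have hmi : IsIso m := isIso_of_isClosedImmersion_of_surjective m
  exact IsPullback.of_iso_pullback ⟨hcomp⟩ (asIso m) (pullback.lift_fst _ _ _) (pullback.lift_snd _ _ _)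

end K381.GenFib
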