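import Groth.Agent.S4440
import Groth.Agent.Models.K381.GenFib
import Mathlib.AlgebraicGeometry.SpreadingOut

/-!
# Extension of morphisms from the generic point of a regular scheme of dimension one to a proper scheme
-/

set_option autoImplicit false
universe u

open AlgebraicGeometry CategoryTheory CategoryTheory.Limits IsLocalRing TopologicalSpace

namespace K381.PtExt

/-- A morphism defined at the generic point of an integral regular scheme of dimension at most one with values in a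
proper scheme extends. -/
theorem exists_ext {S Y Z : Scheme.{u}} [IsLocallyNoetherian S] (q : Z ⟶ S) (p : Y ⟶ S) [IsProper p] [IsIntegral Z]
    [IsLocallyNoetherian Z] (hreg : ∀ z : Z, IsRegularLocalRing (Z.presheaf.stalk z))
    (hdim : ∀ z : Z, ringKrullDim (Z.presheaf.stalk z) ≤ 1) (x : Spec Z.functionField ⟶ Y)
    (hx : x ≫ p = Z.fromSpecStalk (genericPoint Z) ≫ q) :
    ∃ g : Z ⟶ Y, g ≫ p = q ∧ Z.fromSpecStalk (genericPoint Z) ≫ g = x := by
  obtain ⟨V, hV, g, hg, hg'⟩ := spread_out_of_isGermInjective' q p x hx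
  obtain ⟨U, hVU, g', h1, h2, h3⟩ := Groth.Agent.S4440.result p q (fun z _ => hreg z) V
    (V.isOpen.dense ⟨_, hV⟩) g hg'
  have hU : U = ⊤ := by
    rw [eq_top_iff]
    intro z _
    exact h3 z (hdim z)
  subst hU
  refine ⟨(Scheme.topIso Z).inv ≫ g', ?_, ?_⟩
  · rw [Category.assoc, h1, Iso.inv_comp_eq]
    rfl
  · rw [hg, ← h2]
    have h4 : Z.fromSpecStalk (genericPoint Z) = V.fromSpecStalkOfMem _ hV ≫ V.ι :=
      (V.fromSpecStalkOfMem_ι _ hV).symm
    have h5 : V.ι = Z.homOfLE hVU ≫ (⊤ : Z.Opens).ι := (Z.homOfLE_ι hVU).symm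
    rw [h4, h5]
    simp only [Category.assoc]
    congr 2
    rw [← Category.assoc, ← Scheme.topIso_hom, Iso.hom_inv_id, Category.id_comp]

/-- Uniqueness. -/
theorem eq_of_dominant {S X Y Z : Scheme.{u}} [IsReduced Z] (τ : X ⟶ Z) [IsDominant τ] (p : Y ⟶ S) [IsSeparated p]
    {f g : Z ⟶ Y} (h : f ≫ p = g ≫ p) (h' : τ ≫ f = τ ≫ g) : f = g := by
  exact ext_of_isDominant_of_isSeparated p h τ h'

/-- Extension from the generic fibre. -/
theorem exists_ext_genericFibre {S S' Y Z C : Scheme.{u}} [IsIntegral S] [IsLocallyNoetherian S'] {h : Z ⟶ S}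
    {τ : C ⟶ Z} {e : C ⟶ Spec S.functionField} (hτ : IsPullback τ e h (S.fromSpecStalk (genericPoint S)))
    [IsDominant h] (q : Z ⟶ S') (p : Y ⟶ S') [IsProper p] [IsIntegral Z]
    [IsLocallyNoetherian Z] (hreg : ∀ z : Z, IsRegularLocalRing (Z.presheaf.stalk z))
    (hdim : ∀ z : Z, ringKrullDim (Z.presheaf.stalk z) ≤ 1) (w : C ⟶ Y) (hw : w ≫ p = τ ≫ q) :
    ∃ v : Z ⟶ Y, v ≫ p = q ∧ τ ≫ v = w := by
  have hC : IsIntegral C := K381.GenFib.isIntegral hτ
  have hη : τ (genericPoint C) = genericPoint Z := K381.GenFib.map_genericPoint_eq hτ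
  have key : ∀ y : Z, τ (genericPoint C) = y → ∃ σ : Spec (Z.presheaf.stalk y) ⟶ C,
      σ ≫ τ = Z.fromSpecStalk y ∧ IsDominant σ := by
    rintro _ rfl
    have hiso : IsIso (τ.stalkMap (genericPoint C)) := K381.GenFib.isIso_stalkMap hτ _
    refine ⟨inv (Spec.map (τ.stalkMap (genericPoint C))) ≫ C.fromSpecStalk _, ?_, ?_⟩
    · rw [Category.assoc, IsIso.inv_comp_eq]
      exact (Scheme.SpecMap_stalkMap_fromSpecStalk τ).symm
    · have := K262.GenExt.isDominant_fromSpecStalk C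
      infer_instance
  obtain ⟨σ, hσ, hσd⟩ := key _ hη
  obtain ⟨v, hv, hv'⟩ := exists_ext q p hreg hdim (σ ≫ w) (by rw [Category.assoc, hw, ← hσ, Category.assoc])
  refine ⟨v, hv, eq_of_dominant σ p ?_ ?_⟩
  · rw [Category.assoc, hv, hw]
  · rw [← Category.assoc, hσ, hv']

end K381.PtExt
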