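import Groth.Agent.Models.K381.RegModel
import Groth.Agent.Models.K381.DisjModel
import Groth.Agent.Models.K381.PtExt
import Groth.Agent.TopDim.K284.Basic

/-!
# The regular finite model of a reduced finite scheme over the function field of a Dedekind scheme
-/

set_option autoImplicit false
universe u

open AlgebraicGeometry CategoryTheory CategoryTheory.Limits IsLocalRing TopologicalSpace

namespace K381.ZMod

theorem isClosed_singleton {X : Scheme.{u}} [IsIntegral X] (hX : topologicalKrullDim X ≤ 1) (x : X)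
    (hx : x ≠ genericPoint X) : IsClosed ({x} : Set X) := by
  rw [← closure_subset_iff_isClosed]
  intro w hw
  have hxw : x ⤳ w := specializes_iff_mem_closure.mpr hw
  by_contra hne
  have h1 : genericPoint X ⤳ x := genericPoint_specializes x
  have h2 : ¬ x ⤳ genericPoint X := fun h => hx (h.antisymm h1).eq
  have h3 : ¬ w ⤳ x := fun h => hne (h.antisymm hxw).eq
  let c : X → TopologicalSpace.IrreducibleCloseds X := fun z =>
    ⟨closure {z}, isIrreducible_singleton.closure, isClosed_closure⟩
  have hc : ∀ a b : X, b ⤳ a → ¬ a ⤳ b → c a < c b := by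
    intro a b hab hba
    refine lt_of_le_not_ge ?_ fun h => hba ?_
    · exact hab.closure_subset
    · exact specializes_iff_closure_subset.mpr h
  let q : LTSeries (TopologicalSpace.IrreducibleCloseds X) :=
    { length := 2
      toFun := ![c w, c x, c (genericPoint X)]
      step := by
        intro i
        fin_cases i
        · exact hc _ _ hxw h3
        · exact hc _ _ h1 h2 }
  have h4 : (2 : WithBot ℕ∞) ≤ topologicalKrullDim X := Order.LTSeries.length_le_krullDim q
  exact absurd (h4.trans hX) (by decide)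

/-- Closed sets not containing the generic point are finite. -/
theorem finite_of_isClosed {X : Scheme.{u}} [IsIntegral X] [IsNoetherian X] (hX : topologicalKrullDim X ≤ 1)
    {A : Set X} (hA : IsClosed A) (hη : genericPoint X ∉ A) : A.Finite := by
  obtain ⟨T, hT, h1, h2, rfl⟩ := NoetherianSpace.exists_finite_set_isClosed_irreducible hA
  refine hT.sUnion fun t ht => ?_
  obtain ⟨x, hx⟩ := QuasiSober.sober (h2 t ht) (h1 t ht)
  have hxt : x ∈ t := hx.mem
  have hne : x ≠ genericPoint X := by
    rintro rfl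
    exact hη ⟨t, ht, hxt⟩
  have h3 : t = {x} := by
    rw [← hx.def, (isClosed_singleton hX x hne).closure_eq]
  rw [h3]
  exact Set.finite_singleton x

/-- A proper dominant morphism from an integral scheme of dimension at most one with finite generic fibre is finite. -/
theorem isFinite_of_dim_le_one {M S : Scheme.{u}} [IsIntegral M] [IsNoetherian M] [IsIntegral S] (f : M ⟶ S)
    [IsProper f] [IsDominant f] (hM : topologicalKrullDim M ≤ 1) (hgen : (f ⁻¹' {genericPoint S}).Finite) :
    IsFinite f := by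
  have h1 : LocallyQuasiFinite f := by
    apply LocallyQuasiFinite.of_finite_preimage_singleton
    intro s
    by_cases hs : s = genericPoint S
    · rw [hs]; exact hgen
    · have h2 : IsClosed (f ⁻¹' closure {s}) := isClosed_closure.preimage f.continuous
      refine (finite_of_isClosed hM h2 ?_).subset (Set.preimage_mono subset_closure)
      intro h3
      have h4 : f (genericPoint M) ∈ closure {s} := h3
      rw [K381.DedFlat.map_genericPoint f] at h4
      exact hs ((specializes_iff_mem_closure.mpr h4).antisymm (genericPoint_specializes s)).eq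
  exact IsFinite.of_isProper_of_locallyQuasiFinite f

/-- The local rings of a reduced locally Artinian scheme are fields. -/
theorem isField_stalk {C : Scheme.{u}} [IsReduced C] [IsLocallyArtinian C] (c : C) : IsField (C.presheaf.stalk c) := by
  obtain ⟨W, hW, hc, -⟩ := exists_isAffineOpen_mem_and_subset (X := C) (TopologicalSpace.Opens.mem_top c)
  have h1 : IsArtinianRing Γ(C, W) := IsLocallyArtinian.isArtinianRing_presheaf_obj ⟨_, hW⟩
  let _ : Algebra Γ(C, W) (C.presheaf.stalk c) := (C.presheaf.germ W c hc).hom.toAlgebra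
  have h2 := hW.isLocalization_stalk ⟨c, hc⟩
  have h3 : IsArtinianRing (C.presheaf.stalk c) :=
    (IsArtinianRing.localization_surjective (hW.primeIdealOf ⟨c, hc⟩).asIdeal.primeCompl
      (C.presheaf.stalk c)).isArtinianRing
  exact IsArtinianRing.isField_of_isReduced_of_isLocalRing _

theorem isLocallyArtinian_of_isFinite {K : CommRingCat.{u}} [IsArtinianRing K] {C : Scheme.{u}} (e : C ⟶ Spec K)
    [IsFinite e] : IsArtinianScheme C :=
  have := IsLocallyArtinian.of_locallyQuasiFinite e
  have : CompactSpace C := QuasiCompact.compactSpace_of_compactSpace e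
  {}

theorem isDominant {S C Y : Scheme.{u}} [IsIntegral S] {f : Y ⟶ S} {i : C ⟶ Y} {g : C ⟶ Spec S.functionField}
    (h : IsPullback i g f (S.fromSpecStalk (genericPoint S))) [Nonempty C] : IsDominant f := by
  constructor
  obtain ⟨c⟩ := ‹Nonempty C›
  rw [DenseRange, dense_iff_closure_eq, ← Set.univ_subset_iff, ← genericPoint_closure S]
  exact closure_mono (Set.singleton_subset_iff.mpr ⟨_, K381.GenFib.map_eq h c⟩)

theorem isDominant_of_flat {S C Y : Scheme.{u}} [IsIntegral S] {f : Y ⟶ S} {i : C ⟶ Y} {g : C ⟶ Spec S.functionField}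
    (h : IsPullback i g f (S.fromSpecStalk (genericPoint S))) [Flat f] : IsDominant i := by
  have h1 := K262.GenExt.schDom_fromSpecStalk S
  have h2 := K262.GenExt.quasiCompact_fromSpecStalk S
  have h3 : QuasiCompact i := K381.GenFib.quasiCompact h
  have h4 : IsSchemeTheoreticallyDominant i := IsSchemeTheoreticallyDominant.of_isPullback h.flip
  infer_instance

/-- Finite disjoint unions of models, with the compatibility. -/
theorem exists_disjUnion {S T C : Scheme.{u}} (γ : T ⟶ S) (g : C ⟶ T) {ι : Type u} [Finite ι] (Z : ι → C.Opens)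
    (hcov : ⨆ i, (Z i) = ⊤) (hdisj : ∀ i j, i ≠ j → Disjoint (Z i) (Z j)) (M : ι → Scheme.{u}) (f : ∀ j, M j ⟶ S)
    (i : ∀ j, (Z j : Scheme.{u}) ⟶ M j) (h : ∀ j, IsPullback (i j) ((Z j).ι ≫ g) (f j) γ) :
    ∃ i' : C ⟶ ∐ M, IsPullback i' g (Sigma.desc f) γ ∧ (∀ j, (Z j).ι ≫ i' = i j ≫ Sigma.ι M j) ∧
      ∀ {Y : Scheme.{u}} (a b : C ⟶ Y), (∀ j, (Z j).ι ≫ a = (Z j).ι ≫ b) → a = b := by
  obtain ⟨hcof⟩ := nonempty_isColimit_cofanMk_of (fun j => (Z j).ι) (by simpa using hcov)
    (by intro a b hab; simpa [Function.onFun] using hdisj a b hab)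
  let i' : C ⟶ ∐ M := Cofan.IsColimit.desc hcof (fun j => i j ≫ Sigma.ι M j)
  have hi' : ∀ j, (Z j).ι ≫ i' = i j ≫ Sigma.ι M j := fun j => Cofan.IsColimit.fac hcof _ j
  have h1 : ∀ j, IsPullback (Z j).ι (i j) i' (Sigma.ι M j) := fun j => by
    have h2 := FinitaryExtensive.isVanKampen_finiteCoproducts (coproductIsCoproduct M)
    have h3 := (h2 (Cofan.mk C (fun j => (Z j).ι)) (Discrete.natTrans fun j ↦ i j.as) i'
      (by ext ⟨j⟩; simpa using (hi' j).symm) (NatTrans.Equifibered.of_discrete _)).1 ⟨hcof⟩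
    exact h3 ⟨j⟩
  refine ⟨i', Groth.Agent.CalgA.TwoGlue.isPullback_of_cover ?_ (sigmaOpenCover M) (fun j => (Z j : Scheme.{u}))
    (fun j => (Z j).ι) i h1 (fun j => ?_), hi', fun a b hab => Cofan.IsColimit.hom_ext hcof _ _ hab⟩
  · refine Cofan.IsColimit.hom_ext hcof _ _ fun j => ?_
    change (Z j).ι ≫ i' ≫ _ = (Z j).ι ≫ g ≫ γ
    rw [reassoc_of% (hi' j), Sigma.ι_desc, (h j).w, Category.assoc]
  · change IsPullback (i j) ((Z j).ι ≫ g) (Sigma.ι M j ≫ Sigma.desc f) γ
    rw [Sigma.ι_desc]
    exact h j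

theorem isFinite_sigmaDesc {S : Scheme.{u}} {ι : Type u} [Finite ι] {M : ι → Scheme.{u}} (f : ∀ j, M j ⟶ S)
    (h : ∀ j, IsFinite (f j)) : IsFinite (Sigma.desc f) := by
  have h1 : Sigma.desc f = Limits.Sigma.map f ≫ Sigma.desc (fun _ : ι ↦ 𝟙 S) := by
    refine Sigma.hom_ext _ _ fun i ↦ ?_
    simp
  have h2 : IsFinite (Limits.Sigma.map f) :=
    Groth.Agent.Ega2.SigmaMap.sigmaMap_of_isZariskiLocalAtTarget (@IsFinite) f h
  have h3 : IsFinite (Sigma.desc (fun _ : ι ↦ 𝟙 S)) := Groth.Agent.Sga1.SigmaFinite.isFinite_sigmaDesc _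
  rw [h1]
  infer_instance

/-- `Z` is the regular finite model over `S` of the finite reduced `K`-scheme `C`, with the extension property with
respect to proper schemes. -/
structure IsZ {S C Z : Scheme.{u}} [IsIntegral S] (e : C ⟶ Spec S.functionField) (h : Z ⟶ S) (τ : C ⟶ Z) : Prop where
  finite : IsFinite h
  flat : Flat h
  reduced : IsReduced Z
  regular : ∀ z : Z, IsRegularLocalRing (Z.presheaf.stalk z)
  dim : ∀ z : Z, ringKrullDim (Z.presheaf.stalk z) ≤ 1
  isPullback : IsPullback τ e h (S.fromSpecStalk (genericPoint S))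
  dominant : IsDominant τ
  ext : ∀ {S' Y : Scheme.{u}} [IsLocallyNoetherian S'] (q : Z ⟶ S') (p : Y ⟶ S') [IsProper p] (w : C ⟶ Y),
    w ≫ p = τ ≫ q → ∃ v : Z ⟶ Y, v ≫ p = q ∧ τ ≫ v = w

section

variable {S : Scheme.{u}} [IsIntegral S] [IsNoetherian S]
  (hreg : ∀ s : S, IsRegularLocalRing (S.presheaf.stalk s)) (hdimS : topologicalKrullDim S ≤ 1)
  (hexc : K381.ExcSch.IsExc S)

include hreg hdimS hexc

/-- The integral case. -/
theorem exists_int {C : Scheme.{u}} [IsIntegral C] (e : C ⟶ Spec S.functionField) [IsFinite e] :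
    ∃ (Z : Scheme.{u}) (h : Z ⟶ S) (τ : C ⟶ Z), IsFinite h ∧ Flat h ∧ IsIntegral Z ∧
      (∀ z : Z, IsRegularLocalRing (Z.presheaf.stalk z)) ∧ (∀ z : Z, ringKrullDim (Z.presheaf.stalk z) ≤ 1) ∧
      IsPullback τ e h (S.fromSpecStalk (genericPoint S)) := by
  have hF : IsArtinianRing S.functionField := inferInstance
  have hA : IsArtinianScheme C := isLocallyArtinian_of_isFinite e
  have hCreg : ∀ c : C, IsRegularLocalRing (C.presheaf.stalk c) := fun c => by
    let _ := (isField_stalk c).toField
    infer_instance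
  have hCd : topologicalKrullDim C ≤ 0 := topologicalKrullDim_zero_of_discreteTopology C
  obtain ⟨M, f, i, h1, h2, h3, h4, h5⟩ :=
    K381.RegModel.exists_model_integral hreg hdimS hexc e hCreg (hCd.trans (by norm_num))
  have hdom : IsDominant f := isDominant h5
  have hMd : topologicalKrullDim M ≤ 1 := by
    refine (K381.DimGen.topologicalKrullDim_le h5).trans ?_
    exact (add_le_add hdimS hCd).trans (by norm_num)
  have hMlN : IsLocallyNoetherian M := LocallyOfFiniteType.isLocallyNoetherian f
  have hMc : CompactSpace M := QuasiCompact.compactSpace_of_compactSpace f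
  have hMN : IsNoetherian M := {}
  refine ⟨M, f, i, isFinite_of_dim_le_one f hMd ?_, h2, h3, h4, fun z =>
    (K381.DedFlat.ringKrullDim_stalk_le M z).trans hMd, h5⟩
  have h6 : f ⁻¹' {genericPoint S} = Set.range i := by
    ext y
    exact (K381.GenFib.mem_range_iff h5 y).symm
  rw [h6]
  exact Set.finite_range i

/-- The regular finite model of a reduced finite scheme over the function field, with its extension property. -/
theorem exists_Z {C : Scheme.{u}} [IsReduced C] (e : C ⟶ Spec S.functionField) [IsFinite e] :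
    ∃ (Z : Scheme.{u}) (h : Z ⟶ S) (τ : C ⟶ Z), IsZ e h τ := by
  have hF : IsArtinianRing S.functionField := inferInstance
  have hA : IsArtinianScheme C := isLocallyArtinian_of_isFinite e
  have hfield : ∀ c : C, IsField (C.presheaf.stalk c) := isField_stalk
  obtain ⟨ι, hι, U, h1, h2, h3, h4, h5⟩ := K381.DisjModel.exists_decomp C (fun c => (hfield c).isDomain)
  have key : ∀ j : ι, ∃ (Z : Scheme.{u}) (h : Z ⟶ S) (τ : (U j : Scheme.{u}) ⟶ Z), IsFinite h ∧ Flat h ∧ IsIntegral Z ∧
      (∀ z : Z, IsRegularLocalRing (Z.presheaf.stalk z)) ∧ (∀ z : Z, ringKrullDim (Z.presheaf.stalk z) ≤ 1) ∧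
      IsPullback τ ((U j).ι ≫ e) h (S.fromSpecStalk (genericPoint S)) := fun j => by
    have := h2 j
    have := h3 j
    exact exists_int hreg hdimS hexc ((U j).ι ≫ e)
  choose M f i k1 k2 k3 k4 k5 k6 using key
  obtain ⟨i', hi', hi'', hext⟩ := exists_disjUnion _ e U h4 h5 M f i k6
  have hfl : Flat (Limits.Sigma.desc f) := IsZariskiLocalAtSource.sigmaDesc (P := @Flat) k2
  refine ⟨∐ M, Limits.Sigma.desc f, i', isFinite_sigmaDesc f k1, hfl, ?_, fun m => ?_, fun m => ?_, hi',
    isDominant_of_flat hi', ?_⟩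
  · have := fun i => (k3 i)
    have : ∀ i, IsReduced ((sigmaOpenCover M).X i) := fun i => inferInstanceAs (IsReduced (M i))
    exact IsReduced.of_openCover _ (sigmaOpenCover M)
  · obtain ⟨j, m', rfl⟩ : ∃ (j : ι) (m' : M j), Limits.Sigma.ι M j m' = m :=
      ⟨(sigmaOpenCover M).idx m, (sigmaOpenCover M).covers m⟩
    have := k4 j m'
    exact IsRegularLocalRing.of_ringEquiv
      (asIso ((Limits.Sigma.ι M j).stalkMap m')).symm.commRingCatIsoToRingEquiv
  · obtain ⟨j, m', rfl⟩ : ∃ (j : ι) (m' : M j), Limits.Sigma.ι M j m' = m :=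
      ⟨(sigmaOpenCover M).idx m, (sigmaOpenCover M).covers m⟩
    rw [ringKrullDim_eq_of_ringEquiv (asIso ((Limits.Sigma.ι M j).stalkMap m')).commRingCatIsoToRingEquiv]
    exact k5 j m'
  · intro S' Y _ q p _ w hw
    have hv : ∀ j, ∃ v : M j ⟶ Y, v ≫ p = Limits.Sigma.ι M j ≫ q ∧ i j ≫ v = (U j).ι ≫ w := fun j => by
      have := k3 j
      have := h2 j
      have hd : IsDominant (f j) := isDominant (k6 j)
      have hlN : IsLocallyNoetherian (M j) := LocallyOfFiniteType.isLocallyNoetherian (f j)
      exact K381.PtExt.exists_ext_genericFibre (k6 j) _ p (k4 j) (k5 j) _ (by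
        rw [Category.assoc, hw, ← Category.assoc, hi'' j, Category.assoc])
    choose v hv hv' using hv
    refine ⟨Limits.Sigma.desc v, Limits.Sigma.hom_ext _ _ fun j => ?_, hext _ _ fun j => ?_⟩
    · rw [Sigma.ι_desc_assoc, hv]
    · rw [← Category.assoc, hi'' j, Category.assoc, Sigma.ι_desc, hv']

end

end K381.ZMod
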