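import Groth.Agent.Models.K381.SecFib
import Groth.Agent.Models.K381.ExtMod
import Groth.Agent.Models.K381.GenFib
import Groth.Agent.Models.K381.ZMod
import Groth.Agent.PerfB.H0Fibre

/-!
# Fibres of regular models over closed points of a Dedekind scheme
-/

set_option autoImplicit false
universe u

open AlgebraicGeometry CategoryTheory CategoryTheory.Limits IsLocalRing TopologicalSpace

namespace K381.LocBC

open Groth.Agent

/-- The spectrum of the fraction field and the generic stalk. -/
theorem exists_iso (R : CommRingCat.{u}) [IsDomain R] (K : Type u) [Field K] [Algebra R K] [IsFractionRing R K] :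
    ∃ ψ : Spec (Spec R).functionField ⟶ Spec (CommRingCat.of K), IsIso ψ ∧
      (Spec R).fromSpecStalk (genericPoint (Spec R)) =
        ψ ≫ Spec.map (CommRingCat.ofHom (algebraMap R K)) := by
  let ηR : Spec R := genericPoint (Spec R)
  let L := (Spec R).functionField
  let e : L ≃ₐ[R] K := IsLocalization.algEquiv (nonZeroDivisors R) L K
  let ψ : Spec L ⟶ Spec (CommRingCat.of K) := Spec.map (CommRingCat.ofHom e.symm.toRingEquiv.toRingHom)
  have hiso : IsIso ψ := by
    have : IsIso (CommRingCat.ofHom e.symm.toRingEquiv.toRingHom) :=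
      (ConcreteCategory.isIso_iff_bijective _).mpr e.symm.bijective
    exact inferInstanceAs (IsIso (Spec.map (CommRingCat.ofHom e.symm.toRingEquiv.toRingHom)))
  refine ⟨ψ, hiso, ?_⟩
  refine (Spec.fromSpecStalk_eq' _ ηR).trans ?_
  change _ = Spec.map (CommRingCat.ofHom e.symm.toRingEquiv.toRingHom) ≫
    Spec.map (CommRingCat.ofHom (algebraMap R K))
  rw [← Spec.map_comp]
  congr 1
  apply CommRingCat.hom_ext
  apply RingHom.ext
  intro r
  exact (e.symm.commutes r).symm

theorem isIso_appTop_of_isPullback {X S T C : Scheme.{u}} {f : X ⟶ S} {g : C ⟶ T} {i : C ⟶ X} {γ : T ⟶ S}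
    (h : IsPullback i g f γ) (hg : IsIso g.appTop) : IsIso (pullback.snd f γ).appTop := by
  have h1 : pullback.snd f γ = h.isoPullback.inv ≫ g := by simp
  rw [h1, Scheme.Hom.comp_appTop]
  have h2 : IsIso h.isoPullback.inv.appTop := inferInstanceAs (IsIso (h.isoPullback.inv.app ⊤))
  infer_instance

theorem isIso_appTop_of_isPullback' {X S T C : Scheme.{u}} {f : X ⟶ S} {g : C ⟶ T} {i : C ⟶ X} {γ : T ⟶ S}
    (h : IsPullback i g f γ) (hg : IsIso (pullback.snd f γ).appTop) : IsIso g.appTop := by
  have h1 : g = h.isoPullback.hom ≫ pullback.snd f γ := by simp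
  rw [h1, Scheme.Hom.comp_appTop]
  have h2 : IsIso h.isoPullback.hom.appTop := inferInstanceAs (IsIso (h.isoPullback.hom.app ⊤))
  infer_instance

theorem h0_generic {R : CommRingCat.{u}} [IsDomain R] (K : Type u) [Field K] [Algebra R K] [IsFractionRing R K]
    {X C : Scheme.{u}} {f : X ⟶ Spec R} {i : C ⟶ X} {g : C ⟶ Spec (CommRingCat.of K)}
    (h : IsPullback i g f (Spec.map (CommRingCat.ofHom (algebraMap R K)))) (hg : IsIso g.appTop) :
    Function.Bijective (f.fiberToSpecResidueField (genericPoint (Spec R))).appTop := by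
  obtain ⟨ψ, hψ, hst⟩ := exists_iso R K
  let r : Spec ((Spec R).residueField (genericPoint (Spec R))) ⟶ Spec (Spec R).functionField :=
    Spec.map ((Spec R).residue (genericPoint (Spec R)))
  have hr : IsIso r := by
    have h1 : Function.Bijective ((Spec R).residue (genericPoint (Spec R))).hom := by
      refine ⟨?_, IsLocalRing.residue_surjective⟩
      have : Function.Injective (((Spec R).residue (genericPoint (Spec R))).hom :
        (Spec R).functionField →+* (Spec R).residueField (genericPoint (Spec R))) := RingHom.injective _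
      exact this
    have : IsIso ((Spec R).residue (genericPoint (Spec R))) := (ConcreteCategory.isIso_iff_bijective _).mpr h1
    exact inferInstanceAs (IsIso (Spec.map ((Spec R).residue (genericPoint (Spec R)))))
  have h2 : (Spec R).fromSpecResidueField (genericPoint (Spec R)) = (r ≫ ψ) ≫
      Spec.map (CommRingCat.ofHom (algebraMap R K)) := by
    rw [Category.assoc, ← hst]
    rfl
  have h3 := PerfB.H0Fibre.isIso_appTop_snd_comp f (Spec.map (CommRingCat.ofHom (algebraMap R K))) (r ≫ ψ)
    (isIso_appTop_of_isPullback h hg)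
  rw [← h2] at h3
  exact (ConcreteCategory.isIso_iff_bijective _).mp h3

section

variable {S : Scheme.{u}} [IsIntegral S] (s : S) {X : Scheme.{u}} (f : X ⟶ S)

omit [IsIntegral S] in
theorem flat_fst : Flat (pullback.fst f (S.fromSpecStalk s)) := by
  have := K381.GenFib.flat_fromSpecStalk S s
  infer_instance

omit [IsIntegral S] in
theorem isIso_stalkMap_fst (x : ↥(pullback f (S.fromSpecStalk s))) :
    IsIso ((pullback.fst f (S.fromSpecStalk s)).stalkMap x) := by
  have := flat_fst s f
  exact Groth.Agent.Dix.FlatMonoStalk.isIso_stalkMap_of_flat_of_mono _ x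

theorem isIntegral_pullback [IsIntegral X] [IsDominant f] : IsIntegral (pullback f (S.fromSpecStalk s)) := by
  let q := pullback.fst f (S.fromSpecStalk s)
  have hpre : IsPreimmersion q := inferInstance
  have h1 : IsReduced (pullback f (S.fromSpecStalk s)) := by
    have : ∀ c : ↥(pullback f (S.fromSpecStalk s)), _root_.IsReduced ((pullback f (S.fromSpecStalk s)).presheaf.stalk c) := fun c => by
      have h1 := isIso_stalkMap_fst s f c
      exact isReduced_of_injective (inv (q.stalkMap c)).hom (ConcreteCategory.bijective_of_isIso (inv (q.stalkMap c))).1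
    exact isReduced_of_isReduced_stalk _
  obtain ⟨c₀, hc₀⟩ : ∃ c₀, q c₀ = genericPoint X := by
    have h2 : f (genericPoint X) = genericPoint S := K381.DedFlat.map_genericPoint f
    have h3 : genericPoint S ∈ Set.range (S.fromSpecStalk s) := by
      rw [Scheme.range_fromSpecStalk]
      exact genericPoint_specializes s
    obtain ⟨t, ht⟩ := h3
    obtain ⟨c, hc, -⟩ := Scheme.exists_preimage_of_isPullback (IsPullback.of_hasPullback f (S.fromSpecStalk s))
      (genericPoint X) t (h2.trans ht.symm)
    exact ⟨c, hc⟩
  have h2 : ∀ c : ↥(pullback f (S.fromSpecStalk s)), c₀ ⤳ c := fun c => by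
    rw [← q.isEmbedding.isInducing.specializes_iff, hc₀]
    exact genericPoint_specializes _
  have h3 : IrreducibleSpace ↥(pullback f (S.fromSpecStalk s)) := by
    rw [irreducibleSpace_def]
    have h4 : (⊤ : Set ↥(pullback f (S.fromSpecStalk s))) = closure {c₀} := by
      ext c
      simp only [Set.top_eq_univ, Set.mem_univ, true_iff]
      exact (h2 c).mem_closure
    rw [h4]
    exact isIrreducible_singleton.closure
  exact isIntegral_of_irreducibleSpace_of_isReduced _

theorem topologicalKrullDim_eq {X : Scheme.{u}} [CompactSpace X] [Nonempty X] (n : WithBot ℕ∞)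
    (h : ∀ x : X, IsClosed ({x} : Set X) → ringKrullDim (X.presheaf.stalk x) = n) : topologicalKrullDim X = n := by
  rw [K381.DedFlat.topologicalKrullDim_eq_iSup_stalk]
  have key : ∀ x : X, ∃ y : X, IsClosed ({y} : Set X) ∧ x ⤳ y := by
    intro x
    obtain ⟨y, hy, hy'⟩ := IsClosed.exists_closed_singleton (S := closure {x}) isClosed_closure ⟨x, subset_closure rfl⟩
    exact ⟨y, hy', specializes_iff_mem_closure.mpr hy⟩
  apply le_antisymm
  · refine iSup_le fun x => ?_
    obtain ⟨y, hy, hxy⟩ := key x
    rw [← h y hy, ringKrullDim_stalk_eq_coheight, ringKrullDim_stalk_eq_coheight]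
    exact WithBot.coe_le_coe.mpr (Order.coheight_anti (show y ≤ x from hxy))
  · obtain ⟨y, hy, -⟩ := key (Classical.arbitrary X)
    rw [← h y hy]
    exact le_iSup (fun y : X => ringKrullDim (X.presheaf.stalk y)) y

theorem local_case (R : CommRingCat.{u}) [IsDomain R] [IsDiscreteValuationRing R] (K : Type u) [Field K]
    [Algebra R K] [IsFractionRing R K] {X' C : Scheme.{u}} (f' : X' ⟶ Spec R) [IsProper f'] [Flat f'] [IsIntegral X']
    (hreg' : ∀ x : X', IsRegularLocalRing (X'.presheaf.stalk x)) [IsIntegral C] (hdimC : topologicalKrullDim C = 1)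
    {g : C ⟶ Spec (CommRingCat.of K)} {i' : C ⟶ X'}
    (hi' : IsPullback i' g f' (Spec.map (CommRingCat.ofHom (algebraMap R K)))) (hg : IsIso g.appTop)
    (σ : Spec R ⟶ X') (hσ : σ ≫ f' = 𝟙 _) :
    IsIso (pullback.snd f' (Spec.map (CommRingCat.ofHom (IsLocalRing.residue R)))).appTop := by
  -- the dimension
  have hdim : topologicalKrullDim X' = 2 := by
    let e : FractionRing R ≃ₐ[R] K := IsLocalization.algEquiv (nonZeroDivisors R) (FractionRing R) K
    let χ : Spec (CommRingCat.of K) ⟶ Spec (CommRingCat.of (FractionRing R)) :=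
      Spec.map (CommRingCat.ofHom e.toRingEquiv.toRingHom)
    have hχ : IsIso χ := by
      have : IsIso (CommRingCat.ofHom e.toRingEquiv.toRingHom) :=
        (ConcreteCategory.isIso_iff_bijective _).mpr e.bijective
      exact inferInstanceAs (IsIso (Spec.map (CommRingCat.ofHom e.toRingEquiv.toRingHom)))
    have hχ' : χ ≫ Spec.map (CommRingCat.ofHom (algebraMap R (FractionRing R))) =
        Spec.map (CommRingCat.ofHom (algebraMap R K)) := by
      change Spec.map (CommRingCat.ofHom e.toRingEquiv.toRingHom) ≫ _ = _
      rw [← Spec.map_comp]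
      congr 1
      apply CommRingCat.hom_ext
      apply RingHom.ext
      intro r
      exact e.commutes r
    have hC : IsPullback i' (g ≫ χ) f' (Spec.map (CommRingCat.ofHom (algebraMap R (FractionRing R)))) :=
      IsPullback.of_iso hi' (Iso.refl _) (Iso.refl _) (asIso χ) (Iso.refl _) (by simp) (by simp) (by simp)
        (by simp only [Iso.refl_hom, Category.comp_id, asIso_hom]; exact hχ'.symm)
    have hcomp : CompactSpace X' := QuasiCompact.compactSpace_of_compactSpace f'
    have hX1 : IsIntegral (Over.mk f').left := inferInstanceAs (IsIntegral X')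
    have hX2 : IsProper (Over.mk f').hom := inferInstanceAs (IsProper f')
    have hX3 : Flat (Over.mk f').hom := inferInstanceAs (Flat f')
    exact topologicalKrullDim_eq 2 fun x hx =>
      K381.ExtMod.dim_closed (R := R) hdimC (Over.mk f') i' hC x hx
  have h0 := h0_generic (R := R) K (f := f') (i := i') (g := g) hi' hg
  have h1 := K381.SecFib.bijective_of_section R f' hreg' hdim h0 σ hσ
  exact (ConcreteCategory.isIso_iff_bijective _).mpr h1

/-- The fibre of a regular model with a section over a closed point. -/
theorem isIso_fibre [IsDomain (S.presheaf.stalk s)] (hs : IsDiscreteValuationRing (S.presheaf.stalk s))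
    [IsProper f] [Flat f] [IsIntegral X]
    (hreg : ∀ x : X, IsRegularLocalRing (X.presheaf.stalk x)) {C : Scheme.{u}} [IsIntegral C]
    (hdimC : topologicalKrullDim C = 1) {g : C ⟶ Spec S.functionField} {i : C ⟶ X}
    (h : IsPullback i g f (S.fromSpecStalk (genericPoint S))) (hg : IsIso g.appTop)
    (σ : S ⟶ X) (hσ : σ ≫ f = 𝟙 _) : IsIso (pullback.snd f (S.fromSpecResidueField s)).appTop := by
  let R : CommRingCat.{u} := S.presheaf.stalk s
  let f' : pullback f (S.fromSpecStalk s) ⟶ Spec R := pullback.snd f (S.fromSpecStalk s)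
  let q := pullback.fst f (S.fromSpecStalk s)
  have hfd : IsDominant f := K381.ZMod.isDominant h
  have hint : IsIntegral (pullback f (S.fromSpecStalk s)) := isIntegral_pullback s f
  have hpr : IsProper f' := inferInstanceAs (IsProper (pullback.snd f (S.fromSpecStalk s)))
  have hfl : Flat f' := inferInstanceAs (Flat (pullback.snd f (S.fromSpecStalk s)))
  have hreg' : ∀ x : ↥(pullback f (S.fromSpecStalk s)),
      IsRegularLocalRing ((pullback f (S.fromSpecStalk s)).presheaf.stalk x) := fun x => by
    have h1 := isIso_stalkMap_fst s f x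
    have h2 := hreg (q x)
    exact IsRegularLocalRing.of_ringEquiv (asIso (q.stalkMap x)).commRingCatIsoToRingEquiv
  -- the generic fibre of `f'`
  let sp : Spec S.functionField ⟶ Spec R := Spec.map (S.presheaf.stalkSpecializes (genericPoint_specializes s))
  have hsp : sp ≫ S.fromSpecStalk s = S.fromSpecStalk (genericPoint S) :=
    Scheme.SpecMap_stalkSpecializes_fromSpecStalk _
  let i' : C ⟶ pullback f (S.fromSpecStalk s) := pullback.lift i (g ≫ sp) (by rw [h.w, Category.assoc, hsp])
  have hi' : IsPullback i' g f' sp := by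
    refine IsPullback.of_right ?_ ?_ (IsPullback.of_hasPullback f (S.fromSpecStalk s))
    · rw [hsp, pullback.lift_fst]
      exact h
    · exact pullback.lift_snd _ _ _
  have hRd : IsDomain R := inferInstanceAs (IsDomain (S.presheaf.stalk s))
  have hRD : IsDiscreteValuationRing R := hs
  let _ : Algebra R S.functionField := inferInstanceAs (Algebra (S.presheaf.stalk s) S.functionField)
  have hfr : IsFractionRing R S.functionField :=
    inferInstanceAs (IsFractionRing (S.presheaf.stalk s) S.functionField)
  have hσ' : (S.fromSpecStalk s ≫ σ) ≫ f = 𝟙 _ ≫ S.fromSpecStalk s := by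
    rw [Category.assoc, hσ, Category.comp_id, Category.id_comp]
  have h2 := local_case R S.functionField f' hreg' hdimC hi' hg
    (pullback.lift (S.fromSpecStalk s ≫ σ) (𝟙 _) hσ') (pullback.lift_snd _ _ _)
  have h3 : pullback.snd f (S.fromSpecResidueField s) =
      (pullbackLeftPullbackSndIso f (S.fromSpecStalk s) (Spec.map (S.residue s))).inv ≫ pullback.snd _ _ := by
    rw [pullbackLeftPullbackSndIso_inv_snd_snd]
    rfl
  rw [h3, Scheme.Hom.comp_appTop]
  have h4 : IsIso (pullbackLeftPullbackSndIso f (S.fromSpecStalk s) (Spec.map (S.residue s))).inv.appTop :=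
    inferInstanceAs (IsIso ((pullbackLeftPullbackSndIso f (S.fromSpecStalk s) (Spec.map (S.residue s))).inv.app ⊤))
  have h5 : IsIso (pullback.snd (pullback.snd f (S.fromSpecStalk s)) (Spec.map (S.residue s))).appTop := h2
  exact IsIso.comp_isIso' h5 h4

end

end K381.LocBC
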