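import Groth.Agent.S0980
import Groth.Agent.Sga3C.Affinization

/-!
# Universally trivial direct image of the structure sheaf from the fibres
-/

set_option autoImplicit false
universe u

open AlgebraicGeometry CategoryTheory CategoryTheory.Limits TopologicalSpace

namespace K381.UnivH0

open Groth.Agent

theorem isIso_snd_of_pullback_snd {X S T T' : Scheme.{u}} (f : X ⟶ S) (γ : T ⟶ S) (γ' : T' ⟶ T)
    (h : IsIso (pullback.snd (pullback.snd f γ) γ').appTop) : IsIso (pullback.snd f (γ' ≫ γ)).appTop := by
  have h3 : pullback.snd f (γ' ≫ γ) = (pullbackLeftPullbackSndIso f γ γ').inv ≫ pullback.snd _ _ := by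
    rw [pullbackLeftPullbackSndIso_inv_snd_snd]
  rw [h3, Scheme.Hom.comp_appTop]
  have h4 : IsIso (pullbackLeftPullbackSndIso f γ γ').inv.appTop :=
    inferInstanceAs (IsIso ((pullbackLeftPullbackSndIso f γ γ').inv.app ⊤))
  exact IsIso.comp_isIso' h h4

theorem isIso_pullback_snd_of_snd {X S T T' : Scheme.{u}} (f : X ⟶ S) (γ : T ⟶ S) (γ' : T' ⟶ T)
    (h : IsIso (pullback.snd f (γ' ≫ γ)).appTop) : IsIso (pullback.snd (pullback.snd f γ) γ').appTop := by
  have h3 : pullback.snd (pullback.snd f γ) γ' = (pullbackLeftPullbackSndIso f γ γ').hom ≫ pullback.snd _ _ := by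
    rw [pullbackLeftPullbackSndIso_hom_snd]
  rw [h3, Scheme.Hom.comp_appTop]
  have h4 : IsIso (pullbackLeftPullbackSndIso f γ γ').hom.appTop :=
    inferInstanceAs (IsIso ((pullbackLeftPullbackSndIso f γ γ').hom.app ⊤))
  exact IsIso.comp_isIso' h h4

/-- Base change of `Γ(N) = k` along a field extension. -/
theorem isIso_appTop_snd {k : Type u} [Field k] {K : CommRingCat.{u}} (a : Spec K ⟶ Spec (CommRingCat.of k))
    {N : Scheme.{u}} (f : N ⟶ Spec (CommRingCat.of k)) [QuasiCompact f] [QuasiSeparated f]
    (hN : IsIso f.appTop) : IsIso (pullback.snd f a).appTop := by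
  have hc : CompactSpace N := QuasiCompact.compactSpace_of_compactSpace f
  have hqs : QuasiSeparatedSpace N := by
    have : QuasiSeparated (f ≫ terminal.from _) := inferInstance
    rw [Subsingleton.elim (f ≫ terminal.from _) (terminal.from N)] at this
    exact (quasiSeparatedSpace_iff_quasiSeparated N).2 this
  have H : IsPullback (pullback.fst f a) (pullback.snd f a) f a := IsPullback.of_hasPullback _ _
  have h1 := isIso_pushoutSection_of_isCompact_of_flat_right_of_ringHomFlat (US := ⊤) (UT := ⊤) (UX := ⊤) (UY := ⊤) H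
    (by simp) (by simp) (by simp) (isAffineOpen_top _) CompactSpace.isCompact_univ isQuasiSeparated_univ
    CompactSpace.isCompact_univ isQuasiSeparated_univ (Sga3C.Affinization.flat_of_field k _)
  have h2 := (isIso_pushoutSection_iff ..).mp h1
  have e : ∀ {A B : Scheme.{u}} (f : A ⟶ B) (h : (⊤ : A.Opens) ≤ f ⁻¹ᵁ ⊤), f.appLE ⊤ ⊤ h = f.appTop :=
    fun f _ => Scheme.Hom.appLE_eq_app f
  simp only [e] at h2
  exact h2.isIso_inr_of_isIso

/-- From the fibres to all base changes. -/
theorem isIso_of_fibres {P S : Scheme.{u}} (p : P ⟶ S) [IsProper p] [Flat p] [LocallyOfFinitePresentation p]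
    (h : ∀ s : S, IsIso (pullback.snd p (S.fromSpecResidueField s)).appTop) {A : CommRingCat.{u}} (a : Spec A ⟶ S) :
    IsIso (pullback.snd p a).appTop := by
  refine S0980.result (pullback.snd p a) (fun x => ?_) ⊤
  change IsIso (pullback.snd (pullback.snd p a) ((Spec A).fromSpecResidueField x)).appTop
  apply isIso_pullback_snd_of_snd
  rw [← Scheme.Hom.SpecMap_residueFieldMap_fromSpecResidueField]
  apply isIso_snd_of_pullback_snd
  exact isIso_appTop_snd (k := S.residueField (a x)) (Spec.map (a.residueFieldMap x))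
    (pullback.snd p (S.fromSpecResidueField (a x))) (h (a x))

end K381.UnivH0
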