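import Groth.Agent.Models.K381.SumGeom
import Groth.Agent.Models.K381.Comps
import Groth.Agent.Models.K381.FibPinch
import Groth.Agent.Models.K381.UnivH0
import Groth.Agent.Models.K381.LocBC

/-!
# Connectedness of fibres of the pinched model; points of a regular base of dimension one
-/

set_option autoImplicit false
universe u

open AlgebraicGeometry CategoryTheory CategoryTheory.Limits IsLocalRing TopologicalSpace
open K381.ZMod K381.ZPts

namespace K381.Conn

/-- A locally constant function on the components of the normalization of a connected space compatible with the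
identifications is constant. -/
theorem const_of_connected {X Y : Type u} [TopologicalSpace X] [TopologicalSpace Y] [ConnectedSpace Y] (ν : X → Y)
    (hν : Function.Surjective ν) (hc : IsClosedMap ν) {J : Type u} [Finite J] (U : J → Set X)
    (hU : ∀ k, IsClosed (U k)) (hne : ∀ k, (U k).Nonempty) (hcov : ⋃ k, U k = Set.univ) {A : Type u} (c : J → A)
    (h : ∀ k l y y', y ∈ U k → y' ∈ U l → ν y = ν y' → c k = c l) (k l : J) : c k = c l := by
  by_contra hkl
  let P : Set Y := ⋃ m ∈ {m | c m = c k}, ν '' (U m)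
  let Q : Set Y := ⋃ m ∈ {m | c m ≠ c k}, ν '' (U m)
  have hP : IsClosed P := (Set.toFinite _).isClosed_biUnion fun m _ => hc _ (hU m)
  have hQ : IsClosed Q := (Set.toFinite _).isClosed_biUnion fun m _ => hc _ (hU m)
  have hPQ : P ∪ Q = Set.univ := by
    rw [Set.eq_univ_iff_forall]
    intro y
    obtain ⟨x, rfl⟩ := hν y
    have hx : x ∈ ⋃ k, U k := by rw [hcov]; trivial
    obtain ⟨m, hm⟩ := Set.mem_iUnion.mp hx
    by_cases h1 : c m = c k
    · exact Or.inl (Set.mem_biUnion h1 ⟨x, hm, rfl⟩)
    · exact Or.inr (Set.mem_biUnion h1 ⟨x, hm, rfl⟩)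
  have hd : P ∩ Q = ∅ := by
    rw [Set.eq_empty_iff_forall_notMem]
    rintro y ⟨h1, h2⟩
    obtain ⟨m, hm, x, hx, rfl⟩ := Set.mem_iUnion₂.mp h1
    obtain ⟨m', hm', x', hx', h3⟩ := Set.mem_iUnion₂.mp h2
    exact hm' ((h m' m x' x hx' hx h3).trans hm)
  have hPo : IsClopen P := by
    refine ⟨hP, ?_⟩
    have : P = Qᶜ := by
      ext y
      constructor
      · intro h1 h2
        exact Set.eq_empty_iff_forall_notMem.mp hd y ⟨h1, h2⟩
      · intro h1
        rcases (Set.eq_univ_iff_forall.mp hPQ y) with h2 | h2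
        · exact h2
        · exact (h1 h2).elim
    rw [this]
    exact hQ.isOpen_compl
  rcases isClopen_iff.mp hPo with h1 | h1
  · obtain ⟨x, hx⟩ := hne k
    have : ν x ∈ P := Set.mem_biUnion (rfl : c k = c k) ⟨x, hx, rfl⟩
    rw [h1] at this
    exact this
  · obtain ⟨x, hx⟩ := hne l
    have h2 : ν x ∈ Q := Set.mem_biUnion (Ne.symm hkl : c l ≠ c k) ⟨x, hx, rfl⟩
    have h3 : ν x ∈ P := by rw [h1]; trivial
    exact Set.eq_empty_iff_forall_notMem.mp hd _ ⟨h3, h2⟩

/-- Lifting of specializations. -/
theorem exists_spec {S Z T : Scheme.{u}} [IsIntegral S] (t : T ⟶ S) [IsFinite t] (ξ : Z ⟶ T) [IsFinite ξ] (y₀ : T)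
    (hy₀ : t y₀ = genericPoint S) (s : S) : ∃ t₀ : T, t t₀ = s ∧ ∀ z : Z, ξ z = y₀ → ∃ z₀, z ⤳ z₀ ∧ ξ z₀ = t₀ := by
  have h1 : t y₀ ⤳ s := by rw [hy₀]; exact genericPoint_specializes s
  obtain ⟨t₀, h2, h3⟩ := t.isClosedMap.specializingMap h1
  refine ⟨t₀, h3, fun z hz => ?_⟩
  have h4 : ξ z ⤳ t₀ := by rw [hz]; exact h2
  exact ξ.isClosedMap.specializingMap h4

section

variable {S : Scheme.{u}} [IsIntegral S] (hreg : ∀ s : S, IsRegularLocalRing (S.presheaf.stalk s))
  (hdim : ∀ s : S, ringKrullDim (S.presheaf.stalk s) ≤ 1)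

include hreg hdim

theorem isDVR (s : S) (hs : s ≠ genericPoint S) : IsDiscreteValuationRing (S.presheaf.stalk s) := by
  have h2 := hreg s
  have h3 := K381.DedFlat.isPrincipalIdealRing_of_isRegularLocalRing _ (hdim s)
  have h4 : ¬ IsField (S.presheaf.stalk s) := fun h4 => hs (by
    exact (K381.ResMain.eq_of_isField (genericPoint_specializes s) h4).symm)
  exact ((IsDiscreteValuationRing.iff_pid_with_one_nonzero_prime _).mpr ⟨h3,
    ⟨maximalIdeal _, ⟨fun h5 => h4 (IsLocalRing.isField_iff_maximalIdeal_eq.mpr h5), inferInstance⟩, fun P hP =>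
      IsLocalRing.eq_maximalIdeal (Ideal.IsPrime.isMaximal hP.2 hP.1)⟩⟩)

end

/-- The fibre over the generic point. -/
theorem isIso_generic {S P C : Scheme.{u}} [IsIntegral S] {p : P ⟶ S} {i : C ⟶ P} {g : C ⟶ Spec S.functionField}
    (h : IsPullback i g p (S.fromSpecStalk (genericPoint S))) (hg : IsIso g.appTop) :
    IsIso (pullback.snd p (S.fromSpecResidueField (genericPoint S))).appTop := by
  let r : Spec (S.residueField (genericPoint S)) ⟶ Spec S.functionField :=
    Spec.map (S.residue (genericPoint S))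
  have hr : IsIso r := by
    have h1 : Function.Bijective (S.residue (genericPoint S)).hom := by
      refine ⟨?_, IsLocalRing.residue_surjective⟩
      have : Function.Injective ((S.residue (genericPoint S)).hom :
        S.functionField →+* S.residueField (genericPoint S)) := RingHom.injective _
      exact this
    have : IsIso (S.residue (genericPoint S)) := (ConcreteCategory.isIso_iff_bijective _).mpr h1
    exact inferInstanceAs (IsIso (Spec.map (S.residue (genericPoint S))))
  have h2 : S.fromSpecResidueField (genericPoint S) = r ≫ S.fromSpecStalk (genericPoint S) := rfl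
  rw [h2]
  exact Groth.Agent.PerfB.H0Fibre.isIso_appTop_snd_comp p (S.fromSpecStalk (genericPoint S)) r
    (K381.LocBC.isIso_appTop_of_isPullback h hg)

end K381.Conn
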