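import Groth.Agent.Models.K381.P1Clos
import Groth.Agent.Dix.InterSurf
import Groth.Agent.Flat2C.BlowExist

/-!
# Regular models containing a regular finite model as a closed subscheme
-/

set_option autoImplicit false
universe u

open AlgebraicGeometry CategoryTheory CategoryTheory.Limits IsLocalRing TopologicalSpace

namespace K381.Core

open K381.AFin

variable {S : Scheme.{u}} [IsIntegral S] [IsNoetherian S]
  (hreg : ∀ s : S, IsRegularLocalRing (S.presheaf.stalk s)) (hdimS : topologicalKrullDim S ≤ 1)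
  (hexc : K381.ExcSch.IsExc S)

include hreg hdimS hexc

/-- The regular model `X` of the curve `C`, containing the regular finite model `Z` of the finite closed subscheme `ZK`
of `C` as a closed subscheme, together with a morphism `ρ : X ⟶ Y` for which the composite `Z ⟶ Y` is a closed
immersion and such that the inverse image of the ideal of a given finite set of points of `Z` outside of the generic
fibre is invertible. -/
theorem exists_core {C : Scheme.{u}} [IsIntegral C]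
    {g : C ⟶ Spec S.functionField} [IsProper g] (hC : ∀ c : C, IsRegularLocalRing (C.presheaf.stalk c))
    (hdimC : topologicalKrullDim C ≤ 1) {ZK Z : Scheme.{u}} {j : ZK ⟶ C} [IsClosedImmersion j] [Finite ZK]
    {h : Z ⟶ S} {τ : ZK ⟶ Z} (hZ : K381.ZMod.IsZ (j ≫ g) h τ) (F : Set Z)
    (hFc : IsClosed F) (hFη : ∀ t ∈ F, h t ≠ genericPoint S) :
    ∃ (X : Scheme.{u}) (f : X ⟶ S) (i : C ⟶ X) (ι : Z ⟶ X), IsProper f ∧ Flat f ∧ IsIntegral X ∧
      (∀ x : X, IsRegularLocalRing (X.presheaf.stalk x)) ∧ IsPullback i g f (S.fromSpecStalk (genericPoint S)) ∧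
      RelAF f ∧ IsClosedImmersion ι ∧ ι ≫ f = h ∧ j ≫ i = τ ≫ ι ∧
      ∃ (Y : Scheme.{u}) (ρ : X ⟶ Y) (hc : IsClosed ((ι ≫ ρ) '' F)), IsClosedImmersion (ι ≫ ρ) ∧
        BlowUp.IsEffCartierIdeal ((Scheme.IdealSheafData.vanishingIdeal ⟨(ι ≫ ρ) '' F, hc⟩).comap ρ) ∧
        ∀ c : C, ρ (i c) ∉ (ι ≫ ρ) '' F := by
  have hS := K381.DedFlat.isPrincipalIdealRing_stalk hreg hdimS
  have hred := hZ.reduced
  have hdom := hZ.dominant
  obtain ⟨P, p, l, v, h1, h2, h3, h4, h5, h6, h7⟩ := K381.P1Clos.exists_closed hC hdimC hZ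
  obtain ⟨Y, jY, i₁, h8, h9, h10, h11, h12, h13⟩ := K381.GenFib.exists_closure hS g p l h4
  -- `Z` in `Y`
  obtain ⟨v₁, hv₁, hv₁'⟩ := hZ.ext h (jY ≫ p) (j ≫ i₁) (by
    rw [Category.assoc, h12.w, ← Category.assoc, hZ.isPullback.w])
  have hv₁j : v₁ ≫ jY = v := K381.PtExt.eq_of_dominant τ p (by rw [Category.assoc, hv₁, h6]) (by
    rw [← Category.assoc, hv₁', ← h7, ← h13, Category.assoc])
  have hv₁c : IsClosedImmersion v₁ := by
    have : IsClosedImmersion (v₁ ≫ jY) := by rw [hv₁j]; exact h5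
    exact IsClosedImmersion.of_comp v₁ jY
  -- the blow-up
  have hYlN : IsLocallyNoetherian Y := LocallyOfFiniteType.isLocallyNoetherian (jY ≫ p)
  have hc₁ : IsClosed (v₁ '' F) := v₁.isClosedEmbedding.isClosedMap _ hFc
  let J : Y.IdealSheafData := Scheme.IdealSheafData.vanishingIdeal ⟨v₁ '' F, hc₁⟩
  have hJ : ∀ y, y ∈ J.support ↔ y ∈ v₁ '' F := fun y => by
    have := Scheme.IdealSheafData.coe_support_vanishingIdeal (X := Y) (⟨v₁ '' F, hc₁⟩ : Closeds Y)
    exact Set.ext_iff.mp this y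
  have hi₁ : ∀ c, i₁ c ∉ J.support := fun c hc => by
    obtain ⟨t, ht, ht'⟩ := (hJ _).mp hc
    apply hFη t ht
    rw [← hv₁, Scheme.Hom.comp_apply, ht', K381.GenFib.map_eq h12 c]
  obtain ⟨Y₂, b, hb⟩ := Groth.Agent.Flat2C.BlowExist.exists_isBlowUp (𝓘 := J)
  obtain ⟨h14, h15, h16, h17, i₂, h18, h19⟩ := K381.ResModel.blowUp_model hS h12 hb hi₁
  -- the resolution
  let l₂ : C ⟶ pullback (b ≫ jY ≫ p) (S.fromSpecStalk (genericPoint S)) := h18.isoPullback.hom
  obtain ⟨M, ν, i₃, h20, h21, h22, h23, h24, h25, X, 𝓘, c, i, h26, h27, h28, h29, h30, h31, h32, h33⟩ :=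
    K381.RegModel.exists_model_of_closedImmersion hreg hdimS hexc g hC hdimC (b ≫ jY ≫ p) l₂
      h18.isoPullback_hom_snd
  have hMlN : IsLocallyNoetherian M := LocallyOfFiniteType.isLocallyNoetherian (ν ≫ b ≫ jY ≫ p)
  obtain ⟨ι, hι, hι'⟩ := hZ.ext h (c ≫ ν ≫ b ≫ jY ≫ p) (j ≫ i) (by
    rw [Category.assoc, h32.w, ← Category.assoc, hZ.isPullback.w])
  let ρ : X ⟶ Y := c ≫ ν ≫ b
  have hiρ : i ≫ ρ = i₁ := by
    simp only [ρ]
    rw [reassoc_of% h33, reassoc_of% h25]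
    have h34 : l₂ ≫ pullback.fst _ _ = i₂ := h18.isoPullback_hom_fst
    rw [reassoc_of% h34, h19]
  have hιρ : ι ≫ ρ = v₁ := K381.PtExt.eq_of_dominant τ (jY ≫ p) (by
      rw [hv₁, ← hι]
      simp only [ρ, Category.assoc]) (by
    rw [← Category.assoc, hι', hv₁', Category.assoc, hiρ])
  have hfac : c ≫ ν ≫ b ≫ jY ≫ p = ρ ≫ jY ≫ p := by simp only [ρ, Category.assoc]
  have hρp : IsProper ρ := inferInstance
  have hιc : IsClosedImmersion ι := by
    have : IsClosedImmersion (ι ≫ ρ) := by rw [hιρ]; exact hv₁c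
    exact IsClosedImmersion.of_comp ι ρ
  refine ⟨X, c ≫ ν ≫ b ≫ jY ≫ p, i, ι, inferInstance, h29, h27, h31, h32, ?_, hιc, hι, hι'.symm, Y, ρ, ?_, ?_, ?_, ?_⟩
  · exact (RelAF.of_isBlowUp h26).comp ((RelAF.of_isAffineHom ν).comp ((RelAF.of_isBlowUp hb).comp
      ((RelAF.of_isAffineHom jY).comp h2)))
  · rw [hιρ]; exact hc₁
  · rw [hιρ]; exact hv₁c
  · have h34 : (Scheme.IdealSheafData.vanishingIdeal (X := Y) ⟨(ι ≫ ρ) '' F, by rw [hιρ]; exact hc₁⟩) = J := by
      simp only [hιρ]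
      rfl
    rw [h34]
    have h35 : BlowUp.IsEffCartierIdeal ((J.comap b).comap (c ≫ ν)) := by
      refine Groth.Agent.Dix.InterSurf.isEff_comap_of_generic (c ≫ ν) hb.1 ?_
      rw [Scheme.IdealSheafData.support_comap]
      intro h36
      have h37 : ρ (genericPoint X) ∈ J.support := h36
      obtain ⟨c₀, hc₀⟩ := K381.GenFib.exists_generic h32
      rw [← hc₀, ← Scheme.Hom.comp_apply, hiρ] at h37
      exact hi₁ c₀ h37
    rw [← Scheme.IdealSheafData.comap_comp] at h35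
    simpa only [Category.assoc] using h35
  · intro c₀ hc₀
    rw [hιρ, ← Scheme.Hom.comp_apply, hiρ] at hc₀
    exact hi₁ c₀ ((hJ _).mpr hc₀)

end K381.Core
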