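import Groth.Agent.Models.NodeNodal
import Groth.Agent.Models.NodeStep
import Groth.Agent.S7889
import Groth.Agent.CurvesC.RegNormal
import Groth.Agent.Ega43.NormalOpen
import Groth.Agent.SemiFact.K793.Basic
import Groth.Agent.SemiFact.K793.Chart

/-!
# The finite map `D[u,v]/(uv - t^n) → D[u,v]/(uv - t)`, `u ↦ u^n`, `v ↦ v^n`

It is injective and integral; the source is normal, so that the map on spectra is universally open.
-/

set_option autoImplicit false
universe u

open CategoryTheory CategoryTheory.Limits AlgebraicGeometry IsLocalRing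

namespace K381.CoverAlg

open Groth.Agent.Models.NodeRing Groth.Agent.Models.NodeBlow Groth.Agent.Models.NodeStep

section Ring

variable {D : Type u} [CommRing D] {t a : D} {n : ℕ}

/-- `u ↦ u^n`, `v ↦ v^n`. -/
noncomputable def pw (h : a = t ^ n) : W D a →+* W D t :=
  lift (algebraMap D _) (uu D t ^ n) (vv D t ^ n) (by rw [← mul_pow, uu_mul_vv, ← map_pow, h])

@[simp] theorem pw_algebraMap (h : a = t ^ n) (d : D) : pw h (algebraMap D _ d) = algebraMap D _ d := by
  simp [pw]

@[simp] theorem pw_uu (h : a = t ^ n) : pw h (uu D a) = uu D t ^ n := by simp [pw]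

@[simp] theorem pw_vv (h : a = t ^ n) : pw h (vv D a) = vv D t ^ n := by simp [pw]

theorem pw_comp (h : a = t ^ n) : (pw h).comp (algebraMap D (W D a)) = algebraMap D (W D t) := by
  ext d; simp

theorem pw_aeval (h : a = t ^ n) (p : Polynomial D) :
    pw h (Polynomial.aeval (uu D a) p) = Polynomial.aeval (uu D t) (Polynomial.expand D n p) := by
  rw [Polynomial.expand_aeval]
  induction p using Polynomial.induction_on' with
  | add p q hp hq => rw [map_add, map_add, hp, hq, map_add]
  | monomial m d => simp [Polynomial.aeval_monomial]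

theorem pw_isIntegral (h : a = t ^ n) (hn : n ≠ 0) : (pw h).IsIntegral := by
  let _ := (pw h).toAlgebra
  intro x
  change IsIntegral (W D a) x
  induction x using induction with
  | hC d =>
    rw [← pw_algebraMap h d]
    exact isIntegral_algebraMap
  | hadd x y hx hy => exact hx.add hy
  | hu x hx =>
    refine hx.mul (IsIntegral.of_pow (Nat.pos_of_ne_zero hn) ?_)
    rw [← pw_uu h]
    exact isIntegral_algebraMap
  | hv x hx =>
    refine hx.mul (IsIntegral.of_pow (Nat.pos_of_ne_zero hn) ?_)
    rw [← pw_vv h]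
    exact isIntegral_algebraMap

theorem pw_finite (h : a = t ^ n) (hn : n ≠ 0) : (pw h).Finite := by
  apply RingHom.IsIntegral.to_finite (pw_isIntegral h hn)
  apply RingHom.FiniteType.of_comp_finiteType (f := algebraMap D (W D a))
  rw [pw_comp, RingHom.finiteType_algebraMap]
  infer_instance

theorem pw_injective [IsDomain D] [UniqueFactorizationMonoid D] (h : a = t ^ n) (hn : n ≠ 0) (ht : t ≠ 0) :
    Function.Injective (pw h) := by
  have ha : a ≠ 0 := by rw [h]; exact pow_ne_zero n ht
  have hdom := isDomain D a ha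
  rw [injective_iff_map_eq_zero]
  intro w hw
  obtain ⟨m, p, hp⟩ := exists_mul_pow_eq D a w
  have h1 : pw h (Polynomial.aeval (uu D a) p) = 0 := by rw [← hp, map_mul, hw, zero_mul]
  rw [pw_aeval] at h1
  have h2 := congrArg (toS D t) h1
  rw [toS_aeval, map_zero] at h2
  have h3 : Polynomial.expand D n p = 0 :=
    (IsLocalization.to_map_eq_zero_iff (Localization.Away (Polynomial.X : Polynomial D))
      (powers_le_nonZeroDivisors_of_noZeroDivisors Polynomial.X_ne_zero)).1 h2
  have h4 : p = 0 := (Polynomial.expand_eq_zero (Nat.pos_of_ne_zero hn)).1 h3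
  rw [h4, map_zero] at hp
  exact (mul_eq_zero.1 hp).resolve_right (pow_ne_zero m (uu_ne_zero ha))

end Ring

section Dvr

variable {D : Type u} [CommRing D] [IsDomain D] [IsDiscreteValuationRing D] {t a : D} {n : ℕ}

/-- `D[u,v]/(uv - t^n)` is normal. -/
theorem stalk_normal (ht : Irreducible t) (h : a = t ^ n) (x : Spec (CommRingCat.of (W D a))) :
    IsDomain ((Spec (CommRingCat.of (W D a))).presheaf.stalk x) ∧
      IsIntegrallyClosed ((Spec (CommRingCat.of (W D a))).presheaf.stalk x) := by
  refine Groth.Agent.S7889.result (str D a) (Groth.Agent.Models.NodeNodal.isNodalFamily D a) (fun y hy => ?_) x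
  have hD : IsRegularRing D := inferInstance
  have hu : uu D a ∉ y.asIdeal := by
    intro hu
    have h1 : algebraMap D (W D a) a ∈ y.asIdeal := by
      rw [← uu_mul_vv]
      exact Ideal.mul_mem_right _ _ hu
    have h2 : a ∈ ((str D a).base y).asIdeal := h1
    rw [hy, Ideal.mem_bot, h] at h2
    exact ht.ne_zero (eq_zero_of_pow_eq_zero h2)
  have hr : IsRegularLocalRing ((Spec (CommRingCat.of (W D a))).presheaf.stalk y) :=
    (stalk_isRegular_iff y).2 (isRegular_of_uu_notMem D a _ hu)
  exact ⟨Groth.Agent.CalgA.RegBasic.isDomain _, Groth.Agent.CurvesC.RegNormal.isIntegrallyClosed _⟩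

theorem isIntegrallyClosed_W (ht : Irreducible t) (h : a = t ^ n) : IsIntegrallyClosed (W D a) := by
  have hdom : IsDomain (W D a) := isDomain D a (by rw [h]; exact pow_ne_zero n ht.ne_zero)
  refine IsIntegrallyClosed.of_localization_maximal fun p _ hp => ?_
  have hp' : p.IsPrime := hp.isPrime
  let x : Spec (CommRingCat.of (W D a)) := ⟨p, hp'⟩
  have h1 := (stalk_normal ht h x).2
  exact IsIntegrallyClosed.of_equiv (Spec.stalkIso (CommRingCat.of (W D a)) x).commRingCatIsoToRingEquiv

theorem universallyOpen_pw (ht : Irreducible t) (h : a = t ^ n) (hn : n ≠ 0) :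
    UniversallyOpen (Spec.map (CommRingCat.ofHom (pw h))) := by
  have h1 : IsDomain (W D a) := isDomain D a (by rw [h]; exact pow_ne_zero n ht.ne_zero)
  have h2 : IsDomain (W D t) := isDomain D t ht.ne_zero
  have h3 := isIntegrallyClosed_W ht h
  let _ := (pw h).toAlgebra
  have h4 : FaithfulSMul (W D a) (W D t) :=
    (faithfulSMul_iff_algebraMap_injective _ _).2 (pw_injective h hn ht.ne_zero)
  have h5 : Algebra.IsIntegral (W D a) (W D t) := ⟨pw_isIntegral h hn⟩
  exact Groth.Agent.Ega43.NormalOpen.universallyOpen_of_isIntegral (R := W D a) (S := W D t)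

omit [IsDomain D] [IsDiscreteValuationRing D] in
theorem isFinite_pw (h : a = t ^ n) (hn : n ≠ 0) : IsFinite (Spec.map (CommRingCat.ofHom (pw h))) :=
  (IsFinite.SpecMap_iff _).2 (pw_finite h hn)

/-- The origin of `Spec D[u,v]/(uv - t)`. -/
noncomputable def o (ht : Irreducible t) : Spec (CommRingCat.of (W D t)) :=
  ⟨orig t t, K793.Chart.orig_isPrime ht (dvd_refl t)⟩

omit [IsDomain D] [IsDiscreteValuationRing D] in
theorem orig_eq : orig t t = Ideal.span {uu D t, vv D t} := by
  apply le_antisymm
  · rw [orig, Ideal.span_le]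
    rintro x (rfl | rfl | rfl)
    · exact Ideal.subset_span (by simp)
    · exact Ideal.subset_span (by simp)
    · rw [← uu_mul_vv]
      exact Ideal.mul_mem_right _ _ (Ideal.subset_span (by simp))
  · refine Ideal.span_mono ?_
    rintro x (rfl | rfl)
    · simp
    · simp

/-- The image of the origin. -/
theorem map_o (ht : Irreducible t) (h : a = t ^ n) (hn : n ≠ 0) (y : Spec (CommRingCat.of (W D a)))
    (hu : uu D a ∈ y.asIdeal) (hv : vv D a ∈ y.asIdeal) (hy : algebraMap D (W D a) t ∈ y.asIdeal) :
    Spec.map (CommRingCat.ofHom (pw h)) (o ht) = y := by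
  have hp : (orig t t).IsPrime := K793.Chart.orig_isPrime ht (dvd_refl t)
  have hp' : ((orig t t).comap (pw h)).IsPrime := hp.comap _
  apply PrimeSpectrum.ext
  have h1 := y.isPrime
  rw [eq_span_of_mem D t ht y.asIdeal hu hv hy]
  change (orig t t).comap (pw h) = _
  rw [← eq_span_of_mem D t ht ((orig t t).comap (pw h))]
  · rw [Ideal.mem_comap, pw_uu]
    exact Ideal.pow_mem_of_mem _ (Ideal.subset_span (by simp)) n (Nat.pos_of_ne_zero hn)
  · rw [Ideal.mem_comap, pw_vv]
    exact Ideal.pow_mem_of_mem _ (Ideal.subset_span (by simp)) n (Nat.pos_of_ne_zero hn)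
  · rw [Ideal.mem_comap, pw_algebraMap]
    exact Ideal.subset_span (by simp)

theorem isMaximal_orig (ht : Irreducible t) : (orig t t).IsMaximal := by
  have hp : (orig t t).IsPrime := K793.Chart.orig_isPrime ht (dvd_refl t)
  obtain ⟨m, hm, hle⟩ := Ideal.exists_le_maximal (orig t t) hp.ne_top
  have hmp := hm.isPrime
  have h1 : m = orig t t := eq_span_of_mem D t ht m (hle (Ideal.subset_span (by simp)))
    (hle (Ideal.subset_span (by simp))) (hle (Ideal.subset_span (by simp)))
  rwa [← h1]

theorem isClosed_o (ht : Irreducible t) : IsClosed ({o ht} : Set (Spec (CommRingCat.of (W D t)))) :=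
  (PrimeSpectrum.isClosed_singleton_iff_isMaximal (R := W D t) (o ht)).2 (isMaximal_orig ht)

theorem str_o (ht : Irreducible t) : str D t (o ht) = (closedPoint D : PrimeSpectrum D) := by
  rw [K793.Basic.eq_closedPoint_iff _ ht]
  change algebraMap D (W D t) t ∈ orig t t
  exact Ideal.subset_span (by simp)

end Dvr

end K381.CoverAlg
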