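import Groth.Agent.Models.K381.GenFib
import Groth.Agent.CycB.RelDim2
import Groth.Agent.S9685

/-!
# The dimension of a scheme over an integral scheme in terms of its generic fibre
-/

set_option autoImplicit false
universe u

open AlgebraicGeometry CategoryTheory CategoryTheory.Limits IsLocalRing TopologicalSpace

namespace K381.DimGen

open Groth.Agent.CycB.RelDim

variable {S : Scheme.{u}} [IsIntegral S] {C Y : Scheme.{u}} {f : Y ⟶ S} {i : C ⟶ Y} {g : C ⟶ Spec S.functionField}
  (h : IsPullback i g f (S.fromSpecStalk (genericPoint S)))

include h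

theorem rtd_eq (c : C) : rtd f (i c) = rtd g c := by
  have := K381.GenFib.isPreimmersion h
  have h1 : rtd (i ≫ f) c = rtd (g ≫ S.fromSpecStalk (genericPoint S)) c := by rw [h.w]
  rw [rtd_comp, rtd_comp, rtd_eq_zero_of_isPreimmersion i, rtd_eq_zero_of_isPreimmersion (S.fromSpecStalk _),
    add_zero, zero_add] at h1
  exact h1

theorem topologicalKrullDim_le [IsIntegral Y] [IsDominant f] [LocallyOfFiniteType f] [IsLocallyNoetherian S] :
    topologicalKrullDim Y ≤ topologicalKrullDim S + topologicalKrullDim C := by
  have hC : IsIntegral C := K381.GenFib.isIntegral h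
  have hg : LocallyOfFiniteType g := MorphismProperty.of_isPullback (P := @LocallyOfFiniteType) h inferInstance
  obtain ⟨n, hn⟩ := Cardinal.lt_aleph0.mp (rtd_lt_aleph0 g (genericPoint C))
  have hsub : Subsingleton (Spec S.functionField) := Groth.Agent.Ega2.Normal.subsingleton_spec_functionField S
  have hgd : IsDominant g := by
    constructor
    intro x
    rw [Subsingleton.elim x (g (genericPoint C))]
    exact subset_closure ⟨_, rfl⟩
  have hgc : IsClosedMap g := by
    intro Z _
    have h1 : (g '' Z).Subsingleton := fun a _ b _ => Subsingleton.elim a b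
    rcases h1.eq_empty_or_singleton with h2 | ⟨a, h2⟩
    · rw [h2]; exact isClosed_empty
    · rw [h2]; exact isClosed_singleton
  have h1 : topologicalKrullDim C = topologicalKrullDim (Spec S.functionField) + n :=
    (Groth.Agent.S9685.result g n hn).2 hgc
  have h2 : topologicalKrullDim (Spec S.functionField) = 0 := by
    have h3 : topologicalKrullDim (PrimeSpectrum S.functionField) = ringKrullDim S.functionField :=
      PrimeSpectrum.topologicalKrullDim_eq_ringKrullDim _
    exact h3.trans (ringKrullDim_eq_zero_of_field _)
  rw [h2, zero_add] at h1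
  rw [h1]
  refine (Groth.Agent.S9685.result f n ?_).1
  have h4 : rtd f (genericPoint Y) = n := by
    rw [← K381.GenFib.map_genericPoint_eq h, rtd_eq h, hn]
  exact h4

end K381.DimGen
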