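import Groth.Agent.Resolve.K377.BlowCodim2
import Groth.Agent.Resolve.K375.NagSch
import Groth.Agent.S2651
import Groth.Agent.S2654

/-!
# Locally excellent schemes; resolution of normal excellent schemes of dimension at most two by one blow-up
-/

set_option autoImplicit false
universe u
open CategoryTheory CategoryTheory.Limits AlgebraicGeometry IsLocalRing TopologicalSpace

namespace K381.ExcSch

open Groth.Agent.Models.RMBlow Groth.Agent.Models.RMOpen

/-- Every point has an affine open neighbourhood with excellent coordinate ring. -/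
def IsExc (X : Scheme.{u}) : Prop := ∀ x : X, ∃ U : X.affineOpens, x ∈ U.1 ∧ EGA4.IsExcellent Γ(X, U.1)

theorem IsExc.of_forall {X : Scheme.{u}} (h : ∀ U : X.affineOpens, EGA4.IsExcellent Γ(X, U)) : IsExc X := by
  intro x
  obtain ⟨U, hU, hxU, -⟩ := exists_isAffineOpen_mem_and_subset (X := X) (x := x) (U := ⊤) trivial
  exact ⟨⟨U, hU⟩, hxU, h ⟨U, hU⟩⟩

theorem IsExc.of_locallyOfFiniteType {X Y : Scheme.{u}} (f : Y ⟶ X) [LocallyOfFiniteType f] (hX : IsExc X) :
    IsExc Y := by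
  intro y
  obtain ⟨V, hyV, hV⟩ := hX (f y)
  obtain ⟨_, ⟨W, hW, rfl⟩, hyW, hWV⟩ :=
    Y.isBasis_affineOpens.exists_subset_of_mem_open (show y ∈ f ⁻¹ᵁ V.1 from hyV) (f ⁻¹ᵁ V.1).2
  refine ⟨⟨W, hW⟩, hyW, ?_⟩
  have h1 := f.finiteType_appLE V.2 hW hWV
  algebraize [(f.appLE V.1 W hWV).hom]
  exact Groth.Agent.S2651.result Γ(X, V.1) hV Γ(Y, W)

theorem isQuasiExcellent {A : Type u} [CommRing A] (h : EGA4.IsExcellent A) : EGA4.IsQuasiExcellent A :=
  ⟨h.1, h.2.2.1, h.2.2.2⟩

theorem IsExc.isNag {X : Scheme.{u}} (h : IsExc X) : K375.NagSch.IsNag X := by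
  refine K375.NagSch.isNag_of_cover fun x => ?_
  obtain ⟨U, hxU, hU⟩ := h x
  exact ⟨U, hxU, Groth.Agent.S2654.result _ (isQuasiExcellent hU)⟩

theorem IsExc.isOpen_regular {X : Scheme.{u}} (h : IsExc X) :
    IsOpen {x : X | IsRegularLocalRing (X.presheaf.stalk x)} := by
  rw [isOpen_iff_forall_mem_open]
  intro x hx
  obtain ⟨⟨U, hU⟩, hxU, hexc⟩ := h x
  have ho := isOpen_reg_of_isJ2 hexc.2.2.2 (𝟙 (Spec (CommRingCat.of Γ(X, U))))
  have hiff : ∀ q : Spec (CommRingCat.of Γ(X, U)), IsRegularLocalRing (X.presheaf.stalk (hU.fromSpec q)) ↔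
      IsRegularLocalRing ((Spec (CommRingCat.of Γ(X, U))).presheaf.stalk q) := fun q =>
    stalk_openImmersion_iff hU.fromSpec q
  refine ⟨hU.fromSpec '' {q | IsRegularLocalRing ((Spec (CommRingCat.of Γ(X, U))).presheaf.stalk q)}, ?_,
    hU.fromSpec.isOpenEmbedding.isOpenMap _ ho, ?_⟩
  · rintro _ ⟨q, hq, rfl⟩
    exact (hiff q).2 hq
  · have h2 : x ∈ Set.range hU.fromSpec := by
      rw [hU.range_fromSpec]
      exact hxU
    obtain ⟨q, rfl⟩ := h2
    exact ⟨q, (hiff q).1 hx, rfl⟩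

/-- The local rings of dimension two of a normal locally excellent scheme are resolvable. -/
theorem IsExc.resolvable_stalk {X : Scheme.{u}} (h : IsExc X) (x : X)
    (hnor : IsDomain (X.presheaf.stalk x) ∧ IsIntegrallyClosed (X.presheaf.stalk x))
    (hdim : ringKrullDim (X.presheaf.stalk x) = 2) : Resolvable (X.presheaf.stalk x) := by
  obtain ⟨⟨U, hU⟩, hxU, hexc⟩ := h x
  have hGU := hexc.2.2.1
  have hN : IsNoetherianRing Γ(X, U) := hGU.1
  let alg1 : Algebra Γ(X, U) (X.presheaf.stalk x) := (X.presheaf.germ U x hxU).hom.toAlgebra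
  have hloc : IsLocalization.AtPrime (X.presheaf.stalk x) (hU.primeIdealOf ⟨x, hxU⟩).asIdeal :=
    hU.isLocalization_stalk ⟨x, hxU⟩
  let p := (hU.primeIdealOf ⟨x, hxU⟩).asIdeal
  let e : X.presheaf.stalk x ≃+* Localization.AtPrime p :=
    (IsLocalization.algEquiv p.primeCompl (X.presheaf.stalk x) (Localization.AtPrime p)).toRingEquiv
  have hNx : IsNoetherianRing (X.presheaf.stalk x) :=
    IsLocalization.isNoetherianRing p.primeCompl _ hN
  have h1 : IsDomain (Localization.AtPrime p) := by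
    have := hnor.1
    exact MulEquiv.isDomain (X.presheaf.stalk x) e.symm.toMulEquiv
  have h2 : IsIntegrallyClosed (Localization.AtPrime p) := by
    have := hnor.2
    have := hnor.1
    exact IsIntegrallyClosed.of_equiv e
  have h3 : ringKrullDim (Localization.AtPrime p) = 2 := by
    rw [← ringKrullDim_eq_of_ringEquiv e, hdim]
  exact K377.ResQE.resolvable_of_ringEquiv e (K377.ResQE.resolvable_of_isRegularHom _ h3 (hGU.2 p))

/-- A normal Noetherian locally excellent scheme of dimension at most two has an ideal sheaf supported in the singular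
locus whose blow-up is regular. -/
theorem IsExc.exists_ideal {X : Scheme.{u}} [IsNoetherian X] (h : IsExc X) (hn : Pi1.IsNormalScheme X)
    (hd : ∀ x : X, ringKrullDim (X.presheaf.stalk x) ≤ 2) :
    ∃ 𝓘 : X.IdealSheafData, (∀ x ∈ 𝓘.support, ¬ IsRegularLocalRing (X.presheaf.stalk x)) ∧
      ∀ (X' : Scheme.{u}) (b : X' ⟶ X), BlowUp.IsBlowUp b 𝓘 →
        (∀ U : X.Opens, (∀ x : X, x ∈ U → IsRegularLocalRing (X.presheaf.stalk x)) → IsIso (b ∣_ U)) ∧
        ∀ x' : X', IsRegularLocalRing (X'.presheaf.stalk x') := by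
  obtain ⟨𝓘, h1, h2⟩ := K377.BlowCodim2.main hn (fun x hx => h.resolvable_stalk x (hn x) hx) h.isOpen_regular
  refine ⟨𝓘, fun x hx => ?_, fun X' b hb => ⟨(h2 X' b hb).1, fun x' => (h2 X' b hb).2 x' (hd _)⟩⟩
  have h3 : closure {x : X | ¬ IsRegularLocalRing (X.presheaf.stalk x) ∧ ringKrullDim (X.presheaf.stalk x) = 2} ⊆
      {x : X | ¬ IsRegularLocalRing (X.presheaf.stalk x)} :=
    closure_minimal (fun x hx => hx.1) h.isOpen_regular.isClosed_compl
  exact h3 (h1 hx)

end K381.ExcSch
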