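import Groth.Agent.AbVar.K515.Coc
import Groth.Agent.BlowUp.K484.CocIdeal
import Groth.Agent.Smoothlim.LineSec

/-!
# Cartier cocycles: auxiliary lemmas
-/

set_option autoImplicit false
universe u

open AlgebraicGeometry CategoryTheory CategoryTheory.Limits TopologicalSpace Opposite IsLocalRing
open Groth.Agent.Dix.Center Groth.Agent.Grpsch.GrowthFF Groth.Agent.Fdesc.LocGen
  Groth.Agent.Lefpen.H725.CocDef Groth.Agent.Lefpen.H521.CartierCoc Groth.Agent.Grpsch.PicGrp
open K515.FF K515.Coc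

namespace K381.PicAux

variable {X Y : Scheme.{u}} [AlgebraicGeometry.IsIntegral X] [AlgebraicGeometry.IsIntegral Y]

/-- A rational generator of an invertible module near a finite set of points of an affine open. -/
theorem exists_semilocal {L : Pic X} {α : X → X.functionField} (h : IsCoc L α) {V : X.Opens} (hV : IsAffineOpen V)
    (F : Set X) (hF : F.Finite) (hFV : F ⊆ V) : ∃ e : X.functionField, e ≠ 0 ∧ ∀ x ∈ F, UnitAt x (α x / e) := by
  obtain ⟨N, hN, -, h0, U, hxU, s, hs, hcoc⟩ := h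
  rcases F.eq_empty_or_nonempty with rfl | ⟨x₀, hx₀⟩
  · exact ⟨1, one_ne_zero, fun x hx => absurd hx (Set.notMem_empty x)⟩
  obtain ⟨m, hm⟩ := Groth.Agent.Smoothlim.LineSec.exists_genAt_finite hN hV F hF hFV
  have key : ∀ x ∈ F, ∃ (W : X.Opens) (hWU : W ≤ U x) (hWV : W ≤ V) (a : Γ(X, W)), x ∈ W ∧ IsUnit a ∧
      IsGen (res N hWV m) ∧ res N hWU (s x) = a • res N hWV m := by
    intro x hx
    obtain ⟨W, hWV, hxW, hg⟩ := hm x hx
    have hg' : IsGen (res N hWV m) := hg
    have h1 : IsGen (res N (inf_le_right : U x ⊓ W ≤ W) (res N hWV m)) := hg'.res _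
    have h2 : IsGen (res N (inf_le_left : U x ⊓ W ≤ U x) (s x)) := (hs x).res _
    rw [res_res] at h1
    obtain ⟨a, ha, ha'⟩ := h1.exists_unit h2
    exact ⟨U x ⊓ W, inf_le_left, inf_le_right.trans hWV, a, ⟨hxU x, hxW⟩, ha, h1, ha'⟩
  choose! W hWU hWV a hxW ha hg hsa using key
  have hη : ∀ x (hx : x ∈ F), genericPoint X ∈ W x := fun x hx => gen_mem (hxW x hx)
  have hne : ∀ x (hx : x ∈ F), ff (W x) (hη x hx) (a x) ≠ 0 := fun x hx h =>
    ((ha x hx).map (ff (W x) (hη x hx))).ne_zero h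
  have heq : ∀ x (hx : x ∈ F), α x / ff (W x) (hη x hx) (a x) = α x₀ / ff (W x₀) (hη x₀ hx₀) (a x₀) := by
    intro x hx
    obtain ⟨g, hgη, h1, h2⟩ := hcoc x x₀
    have hO : W x ⊓ W x₀ ≤ U x ⊓ U x₀ := inf_le_inf (hWU x hx) (hWU x₀ hx₀)
    have h3 := congrArg (res N hO) h1
    have h4 := congrArg (res N (inf_le_left : W x ⊓ W x₀ ≤ W x)) (hsa x hx)
    have h5 := congrArg (res N (inf_le_right : W x ⊓ W x₀ ≤ W x₀)) (hsa x₀ hx₀)
    simp only [res_smul, res_res] at h3 h4 h5
    have h6 : IsGen (res N (inf_le_left : W x ⊓ W x₀ ≤ W x) (res N (hWV x hx) m)) := (hg x hx).res _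
    rw [res_res] at h6
    have h7 : ores (inf_le_left : W x ⊓ W x₀ ≤ W x) (a x) =
        ores hO g * ores (inf_le_right : W x ⊓ W x₀ ≤ W x₀) (a x₀) := by
      apply h6.ext
      rw [mul_smul, ← h4, ← h5, h3]
    have h8 := congrArg (ff (W x ⊓ W x₀) ⟨hη x hx, hη x₀ hx₀⟩) h7
    rw [map_mul, ff_ores, ff_ores, ff_ores] at h8
    have h9 : ff (U x ⊓ U x₀) hgη g ≠ 0 := by
      intro h
      apply hne x hx
      rw [h8, h, zero_mul]
    rw [h8, h2, mul_div_mul_left _ _ h9]
  refine ⟨α x₀ / ff (W x₀) (hη x₀ hx₀) (a x₀), div_ne_zero (h0 _) (hne _ hx₀), fun x hx => ?_⟩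
  rw [← heq x hx, div_div_cancel₀ (h0 x)]
  exact ⟨W x, hxW x hx, hη x hx, a x, ha x hx, rfl⟩

/-- Pullback of rational functions along a morphism inducing an isomorphism at the generic point. -/
theorem fm_bijective (f : X ⟶ Y) (hη : f (genericPoint X) = genericPoint Y) [IsIso (f.stalkMap (genericPoint X))] :
    Function.Bijective (fm f hη) := by
  have h1 : Function.Bijective (Y.presheaf.stalkSpecializes (specializes_of_eq hη)) := by
    have h2 : ∀ (y : Y) (h : y = genericPoint Y), Function.Bijective (Y.presheaf.stalkSpecializes (specializes_of_eq h)) := by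
      rintro _ rfl
      have h3 : Y.presheaf.stalkSpecializes (specializes_of_eq (rfl : genericPoint Y = genericPoint Y)) = 𝟙 _ :=
        Y.presheaf.stalkSpecializes_refl _
      rw [h3]
      exact Function.bijective_id
    exact h2 _ hη
  have h2 : Function.Bijective (f.stalkMap (genericPoint X)) := ConcreteCategory.bijective_of_isIso _
  exact h2.comp h1

theorem unitAt_fm_iff (f : X ⟶ Y) (hη : f (genericPoint X) = genericPoint Y) (p : X) [IsIso (f.stalkMap p)]
    {φ : Y.functionField} : UnitAt p (fm f hη φ) ↔ UnitAt (f p) φ := by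
  have h1 : ∀ ψ : Y.functionField, fm f hη ψ ∈ O X p → ψ ∈ O Y (f p) := by
    rintro ψ ⟨c, hc⟩
    obtain ⟨d, rfl⟩ := (ConcreteCategory.bijective_of_isIso (f.stalkMap p)).2 c
    refine ⟨d, (fm f hη).injective ?_⟩
    rw [fm_toK]
    exact hc
  constructor
  · intro h
    rw [unitAt_iff] at h ⊢
    refine ⟨fun h0 => h.1 (by rw [h0, map_zero]), h1 _ h.2.1, h1 _ ?_⟩
    rw [map_inv₀]
    exact h.2.2
  · exact fm_unitAt f hη

end K381.PicAux
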