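import Groth.Agent.Models.K381.Pinch
import Groth.Agent.Models.K381.PicAux

/-!
# Ferrand squares away from the pinched part; line bundles on pinchings
-/

set_option autoImplicit false
universe u

open AlgebraicGeometry CategoryTheory CategoryTheory.Limits TopologicalSpace Opposite IsLocalRing
open Groth.Agent.Dix.Center Groth.Agent.Grpsch.GrowthFF Groth.Agent.Fdesc.LocGen
  Groth.Agent.Lefpen.H725.CocDef Groth.Agent.Lefpen.H521.CartierCoc Groth.Agent.Grpsch.PicGrp
open K515.FF K515.Coc K838.Ferr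

namespace K381.FerrIso

variable {X Y Z W : Scheme.{u}} {i : Z ⟶ X} {j : Z ⟶ Y} {a : X ⟶ W} {b : Y ⟶ W}

theorem subsingleton_of_eq_bot {X : Scheme.{u}} {V : X.Opens} (h : V = ⊥) : Subsingleton Γ(X, V) := by
  subst h
  infer_instance

/-- Off the image of `Y` the map `a` is an isomorphism. -/
theorem isIso_restrict (h : IsFerr i j a b) (O : W.Opens) (hO : ∀ y : Y, b y ∉ O) : IsIso (a ∣_ O) := by
  have := h.affine_left
  have key : ∀ O' : W.Opens, O' ≤ O → IsAffineOpen O' → IsIso (a ∣_ O') := by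
    intro O' hle hO'
    rw [isIso_morphismRestrict_iff_isIso_app a hO']
    have hb : b ⁻¹ᵁ O' = ⊥ := by
      ext y
      simp only [Opens.coe_bot, Set.mem_empty_iff_false, iff_false]
      exact fun hy => hO y (hle hy)
    have hs1 : Subsingleton Γ(Y, b ⁻¹ᵁ O') := subsingleton_of_eq_bot hb
    have hs2 : Subsingleton Γ(Z, i ⁻¹ᵁ a ⁻¹ᵁ O') := subsingleton_of_eq_bot (by
      rw [preimage_eq h.w, hb]
      rfl)
    obtain ⟨h1, h2⟩ := (secSq_iff h.w O').mp (h.sec O')
    rw [ConcreteCategory.isIso_iff_bijective]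
    refine ⟨fun r r' hr => h2 r r' hr (Subsingleton.elim _ _), fun s => ?_⟩
    obtain ⟨r, hr, -⟩ := h1 s 0 (Subsingleton.elim _ _)
    exact ⟨r, hr⟩
  have h3 : ∀ x : O, ∃ O' : W.Opens, x.1 ∈ O' ∧ O' ≤ O ∧ IsAffineOpen O' := by
    intro x
    obtain ⟨O', hO', h1, h2⟩ := exists_isAffineOpen_mem_and_subset (X := W) x.2
    exact ⟨O', h1, h2, hO'⟩
  choose O' hx hle hO' using h3
  refine (IsZariskiLocalAtTarget.iff_of_iSup_eq_top (P := MorphismProperty.isomorphisms Scheme)
      (fun x : O => O.ι ⁻¹ᵁ (O' x)) ?_).mpr ?_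
  · rw [eq_top_iff]
    intro x _
    exact Opens.mem_iSup.mpr ⟨x, hx x⟩
  · intro x
    have h4 := key (O' x) (hle x) (hO' x)
    change IsIso ((a ∣_ O) ∣_ (O.ι ⁻¹ᵁ (O' x)))
    have h5 := morphismRestrictRestrict a O (O.ι ⁻¹ᵁ (O' x))
    refine (MorphismProperty.arrow_mk_iso_iff (MorphismProperty.isomorphisms Scheme.{u}) h5).mpr ?_
    have h6 : O.ι ''ᵁ (O.ι ⁻¹ᵁ (O' x)) = O' x := by
      rw [Scheme.Hom.image_preimage_eq_opensRange_inf, Scheme.Opens.opensRange_ι]
      exact inf_eq_right.mpr (hle x)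
    rw [h6]
    exact h4

theorem isIso_stalkMap_of_restrict {X Y : Scheme.{u}} (f : X ⟶ Y) (V : Y.Opens) [IsIso (f ∣_ V)] (x : X)
    (hx : f x ∈ V) : IsIso (f.stalkMap x) := by
  have h0 : IsOpenImmersion (f ∣_ V) := inferInstance
  have h1 : IsIso ((f ∣_ V).stalkMap ⟨x, hx⟩) := inferInstance
  have h2 := (MorphismProperty.arrow_mk_iso_iff (MorphismProperty.isomorphisms CommRingCat.{u})
    (morphismRestrictStalkMap f V ⟨x, hx⟩)).1 h1
  exact h2

theorem eq_of_restrict {X Y : Scheme.{u}} (f : X ⟶ Y) (V : Y.Opens) [IsIso (f ∣_ V)] (x x' : X)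
    (hx : f x ∈ V) (h : f x = f x') : x = x' := by
  have h1 : Function.Injective (f ∣_ V) := (f ∣_ V).homeomorph.injective
  have h2 : (⟨x, hx⟩ : (f ⁻¹ᵁ V : X.Opens)) = ⟨x', by change f x' ∈ V; rwa [← h]⟩ := by
    apply h1
    apply Subtype.ext
    rw [morphismRestrict_base_coe, morphismRestrict_base_coe]
    exact h
  exact congrArg Subtype.val h2

theorem exists_of_restrict {X Y : Scheme.{u}} (f : X ⟶ Y) (V : Y.Opens) [IsIso (f ∣_ V)] (y : Y)
    (hy : y ∈ V) : ∃ x, f x = y := by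
  have h1 : Function.Surjective (f ∣_ V) := (f ∣_ V).homeomorph.surjective
  obtain ⟨x, hx⟩ := h1 ⟨y, hy⟩
  refine ⟨x.1, ?_⟩
  rw [← morphismRestrict_base_coe, hx]

section

variable (h : IsFerr i j a b) [IsClosedImmersion b]

include h

theorem isIso_stalkMap (x : X) (hx : a x ∉ Set.range b) : IsIso (a.stalkMap x) := by
  let O : W.Opens := ⟨(Set.range b)ᶜ, b.isClosedEmbedding.isClosed_range.isOpen_compl⟩
  have := isIso_restrict h O (fun y hy => hy ⟨y, rfl⟩)
  exact isIso_stalkMap_of_restrict a O x hx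

theorem eq_of_eq (x x' : X) (hx : a x ∉ Set.range b) (hxx' : a x = a x') : x = x' := by
  let O : W.Opens := ⟨(Set.range b)ᶜ, b.isClosedEmbedding.isClosed_range.isOpen_compl⟩
  have := isIso_restrict h O (fun y hy => hy ⟨y, rfl⟩)
  exact eq_of_restrict a O x x' hx hxx'

omit [IsClosedImmersion b] in
theorem isIntegral [IsIntegral X] [IsReduced Y] (ha : Function.Surjective a) : IsIntegral W := by
  have h1 : ∀ U : W.Opens, _root_.IsReduced Γ(W, U) := by
    intro U
    refine ⟨fun r hr => ?_⟩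
    obtain ⟨-, h2⟩ := (secSq_iff h.w U).mp (h.sec U)
    refine h2 r 0 ?_ ?_
    · rw [map_zero]
      exact (hr.map (a.app U).hom).eq_zero
    · rw [map_zero]
      exact (hr.map (b.app U).hom).eq_zero
  have : IsReduced W := ⟨h1⟩
  have : Nonempty W := ⟨a (genericPoint X)⟩
  have h3 : IrreducibleSpace W := by
    rw [irreducibleSpace_def]
    have := (IrreducibleSpace.isIrreducible_univ X).image a a.continuous.continuousOn
    rwa [Set.image_univ, ha.range_eq] at this
  exact isIntegral_of_irreducibleSpace_of_isReduced _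

omit [IsClosedImmersion b] in
theorem surjective_left [Surjective j] (hs : ∀ w : W, (∃ x, a x = w) ∨ ∃ y, b y = w) :
    Function.Surjective a := by
  intro w
  rcases hs w with ⟨x, hx⟩ | ⟨y, hy⟩
  · exact ⟨x, hx⟩
  · obtain ⟨z, hz⟩ := j.surjective y
    refine ⟨i z, ?_⟩
    rw [← hy, ← hz, ← Scheme.Hom.comp_apply, h.w]
    rfl

end

end K381.FerrIso
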