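import Groth.Agent.Models.K381.FerrIso

/-!
# Line bundles on pinchings by means of Cartier cocycles
-/

set_option autoImplicit false
universe u

open AlgebraicGeometry CategoryTheory CategoryTheory.Limits TopologicalSpace Opposite IsLocalRing
open Groth.Agent.Dix.Center Groth.Agent.Grpsch.GrowthFF Groth.Agent.Fdesc.LocGen
  Groth.Agent.Lefpen.H725.CocDef Groth.Agent.Lefpen.H521.CartierCoc Groth.Agent.Grpsch.PicGrp
open K515.FF K515.Coc K838.Ferr K381.PicAux

namespace K381.FerrPic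

variable {X Y Z W : Scheme.{u}} [AlgebraicGeometry.IsIntegral X] [AlgebraicGeometry.IsIntegral W]
  {i : Z ⟶ X} {j : Z ⟶ Y} {a : X ⟶ W} {b : Y ⟶ W}

/-- the unit locus of a rational function relative to a coherent family is open -/
theorem isOpen_unitAt {β : X → X.functionField} (h0 : ∀ x, β x ≠ 0)
    (hβ : ∀ x, ∃ U : X.Opens, x ∈ U ∧ ∀ y ∈ U, UnitAt y (β x / β y)) (g : X.functionField) :
    IsOpen {x | UnitAt x (g / β x)} := by
  rw [isOpen_iff_forall_mem_open]
  intro x hx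
  obtain ⟨U, hxU, hU⟩ := hβ x
  obtain ⟨V, hxV, hV⟩ := unitAt_nhds hx
  refine ⟨(U ⊓ V : X.Opens), fun y hy => ?_, (U ⊓ V).isOpen, ⟨hxU, hxV⟩⟩
  have h1 := unitAt_mul (hV y hy.2) (hU y hy.1)
  rw [div_mul_div_cancel₀ (h0 x)] at h1
  exact h1

theorem isOpen_unitAt' (g : X.functionField) : IsOpen {x | UnitAt x g} := by
  have h := isOpen_unitAt (X := X) (β := fun _ => 1) (fun _ => one_ne_zero)
    (fun x => ⟨⊤, trivial, fun y _ => by rw [div_one]; exact unitAt_one y⟩) g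
  simpa using h

variable (h : IsFerr i j a b) (hpb : IsPullback i j a b) [IsClosedImmersion b] [IsFinite a]
  (hη : a (genericPoint X) = genericPoint W) (ha : Function.Surjective a)
  (hbη : genericPoint W ∉ Set.range b)

include h hpb hη ha hbη

omit hpb ha [IsFinite a] in
theorem bijective_fm : Function.Bijective (fm a hη) := by
  have h1 : IsIso (a.stalkMap (genericPoint X)) :=
    FerrIso.isIso_stalkMap h _ (by rw [hη]; exact hbη)
  exact fm_bijective a hη

/-- Line bundles on the pinching. -/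
theorem exists_coc {β : X → X.functionField} (h0 : ∀ x, β x ≠ 0)
    (hβ : ∀ x, ∃ U : X.Opens, x ∈ U ∧ ∀ y ∈ U, UnitAt y (β x / β y)) {g : X.functionField} (hg : g ≠ 0)
    (hgZ : ∀ z, UnitAt (i z) (g / β (i z))) :
    ∃ (L : W.Modules) (γ : W → W.functionField), PicF.IsInvertible L ∧ HasCoc L γ ∧
      (∀ w ∈ Set.range b, fm a hη (γ w) = g) ∧ (∀ x, a x ∉ Set.range b → fm a hη (γ (a x)) = β x) := by
  classical
  obtain ⟨g', hg'⟩ := (bijective_fm h hη hbη).2 g
  have h1 : ∀ w : W, ∃ c : W.functionField, (w ∈ Set.range b → c = g') ∧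
      (w ∉ Set.range b → ∀ x, a x = w → fm a hη c = β x) := by
    intro w
    by_cases hw : w ∈ Set.range b
    · exact ⟨g', fun _ => rfl, fun h => absurd hw h⟩
    · obtain ⟨x, hx⟩ := ha w
      obtain ⟨c, hc⟩ := (bijective_fm h hη hbη).2 (β x)
      refine ⟨c, fun h => absurd h hw, fun _ x' hx' => ?_⟩
      rw [hc, FerrIso.eq_of_eq h x x' (by rw [hx]; exact hw) (hx.trans hx'.symm)]
  choose γ hγ1 hγ2 using h1
  have hγ0 : ∀ w, γ w ≠ 0 := by
    intro w hw
    by_cases hwb : w ∈ Set.range b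
    · rw [hγ1 w hwb] at hw
      rw [hw, map_zero] at hg'
      exact hg hg'.symm
    · obtain ⟨x, hx⟩ := ha w
      have := hγ2 w hwb x hx
      rw [hw, map_zero] at this
      exact h0 x this.symm
  -- transfer of units off `b`
  have hoff : ∀ x, a x ∉ Set.range b → ∀ φ : W.functionField, UnitAt x (fm a hη φ) → UnitAt (a x) φ := by
    intro x hx φ hφ
    have := FerrIso.isIso_stalkMap h x hx
    exact (unitAt_fm_iff a hη x).mp hφ
  have hopen : ∀ O : X.Opens, ∃ O' : W.Opens, ∀ w : W, w ∈ O' ↔ ∀ x, a x = w → x ∈ O := by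
    intro O
    refine ⟨⟨(a '' (O : Set X)ᶜ)ᶜ, (a.isClosedMap _ O.isOpen.isClosed_compl).isOpen_compl⟩, fun w => ?_⟩
    change w ∉ a '' (O : Set X)ᶜ ↔ _
    constructor
    · intro hw x hx
      by_contra hxO
      exact hw ⟨x, hxO, hx⟩
    · rintro hw ⟨x, hx, hxw⟩
      exact hx (hw x hxw)
  obtain ⟨L, hL, hLγ⟩ := exists_of_loc γ hγ0 (by
    intro w
    by_cases hw : w ∈ Set.range b
    · obtain ⟨O', hO'⟩ := hopen ⟨_, isOpen_unitAt h0 hβ g⟩
      refine ⟨O', ?_, fun w' hw' => ?_⟩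
      · rw [hO']
        rintro x hx
        obtain ⟨y, hy⟩ := hw
        obtain ⟨z, hz, -⟩ := Scheme.exists_preimage_of_isPullback hpb x y (hx.trans hy.symm)
        rw [← hz]
        exact hgZ z
      · rw [hγ1 w hw]
        by_cases hwb' : w' ∈ Set.range b
        · rw [hγ1 w' hwb', div_self (by rw [← hγ1 w hw]; exact hγ0 w)]
          exact unitAt_one _
        · obtain ⟨x, rfl⟩ := ha w'
          apply hoff x hwb'
          rw [map_div₀, hg', hγ2 _ hwb' x rfl]
          exact (hO' _).mp hw' x rfl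
    · obtain ⟨x, rfl⟩ := ha w
      obtain ⟨U, hxU, hU⟩ := hβ x
      obtain ⟨O', hO'⟩ := hopen U
      refine ⟨O' ⊓ ⟨(Set.range b)ᶜ, b.isClosedEmbedding.isClosed_range.isOpen_compl⟩, ⟨?_, hw⟩, ?_⟩
      · refine (hO' _).mpr fun x' hx' => ?_
        rw [← FerrIso.eq_of_eq h x x' hw hx'.symm]
        exact hxU
      · rintro w' ⟨hw1, hw2⟩
        obtain ⟨x', rfl⟩ := ha w'
        apply hoff x' hw2
        rw [map_div₀, hγ2 _ hw x rfl, hγ2 _ hw2 x' rfl]
        exact hU x' ((hO' _).mp hw1 x' rfl))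
  refine ⟨L, γ, hL, hLγ, fun w hw => ?_, fun x hx => hγ2 _ hx x rfl⟩
  rw [hγ1 w hw, hg']

omit ha hbη [IsClosedImmersion b] in
/-- A rational function restricting to `1` on the pinched part is a unit on the pinching. -/
theorem unitAt_of_one {g' : W.functionField} {w : W} (hw : w ∈ Set.range b) {U₀ : W.Opens} (hwU : w ∈ U₀)
    (h1 : ∀ z, a (i z) ∈ U₀ → ∃ c : X.presheaf.stalk (i z), toK X (i z) c = fm a hη g' ∧ i.stalkMap z c = 1) :
    UnitAt w g' := by
  have hZ : ∀ z, a (i z) ∈ U₀ → UnitAt (i z) (fm a hη g') := by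
    intro z hz
    obtain ⟨c, hc, hc1⟩ := h1 z hz
    have hcu : IsUnit c := by
      have : IsUnit (i.stalkMap z c) := by rw [hc1]; exact isUnit_one
      exact isUnit_of_map_unit (i.stalkMap z).hom c this
    obtain ⟨u, rfl⟩ := hcu
    rw [← hc, unitAt_iff]
    refine ⟨((u.isUnit).map (toK X (i z))).ne_zero, toK_mem_O _, ?_⟩
    refine ⟨((u⁻¹ : (X.presheaf.stalk (i z))ˣ) : X.presheaf.stalk (i z)), ?_⟩
    refine eq_inv_of_mul_eq_one_left ?_
    rw [← map_mul, Units.inv_mul, map_one]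
  let A : Set X := {x | UnitAt x (fm a hη g')}ᶜ
  have hA : IsClosed A := (isOpen_unitAt' _).isClosed_compl
  let U : W.Opens := U₀ ⊓ ⟨(a '' A)ᶜ, (a.isClosedMap _ hA).isOpen_compl⟩
  have hwU' : w ∈ U := by
    refine ⟨hwU, ?_⟩
    rintro ⟨x, hx, hxw⟩
    obtain ⟨y, hy⟩ := hw
    obtain ⟨z, hz, -⟩ := Scheme.exists_preimage_of_isPullback hpb x y (hxw.trans hy.symm)
    apply hx
    rw [← hz]
    refine hZ z ?_
    rw [hz, hxw]
    exact hwU
  have hηU : genericPoint W ∈ U := gen_mem hwU'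
  have hηU' : genericPoint X ∈ a ⁻¹ᵁ U := by
    change a (genericPoint X) ∈ U
    rw [hη]; exact hηU
  have hU : ∀ x ∈ a ⁻¹ᵁ U, UnitAt x (fm a hη g') := by
    intro x hx
    by_contra hn
    exact hx.2 ⟨x, hn, rfl⟩
  -- sections on `X`
  have key : ∀ φ : W.functionField, (∀ x ∈ a ⁻¹ᵁ U, UnitAt x (fm a hη φ)) →
      (∀ z, a (i z) ∈ U₀ → ∃ c : X.presheaf.stalk (i z), toK X (i z) c = fm a hη φ ∧ i.stalkMap z c = 1) →
      ∃ r : Γ(W, U), b.app U r = 1 ∧ ff U hηU r = φ := by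
    intro φ hφ hφ1
    obtain ⟨s, -, hs⟩ := exists_of_unitAt hηU' hφ
    have h2 : i.app (a ⁻¹ᵁ U) s = 1 := by
      apply TopCat.Presheaf.section_ext Z.sheaf
      intro z hz
      have hz' : i z ∈ a ⁻¹ᵁ U := hz
      obtain ⟨c, hc, hc1⟩ := hφ1 z hz'.1
      change Z.presheaf.germ _ z hz _ = Z.presheaf.germ _ z hz _
      rw [map_one, ← i.germ_stalkMap_apply (a ⁻¹ᵁ U) z hz' s]
      have h3 : X.presheaf.germ (a ⁻¹ᵁ U) (i z) hz' s = c := by
        apply toK_injective X (i z)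
        rw [hc, ← hs]
        exact toK_germ hz' s _
      rw [h3, hc1]
    obtain ⟨h3, -⟩ := (secSq_iff h.w U).mp (h.sec U)
    obtain ⟨r, hr1, hr2⟩ := h3 s 1 (by rw [h2, map_one])
    refine ⟨r, hr2, (fm a hη).injective ?_⟩
    rw [fm_germ a hη U hηU hηU' r, hr1, hs]
  obtain ⟨r, hr1, hr2⟩ := key g' hU h1
  obtain ⟨r', hr1', hr2'⟩ := key g'⁻¹ (fun x hx => by rw [map_inv₀]; exact unitAt_inv (hU x hx)) (by
    intro z hz
    obtain ⟨c, hc, hc1⟩ := h1 z hz
    have hcu : IsUnit c := by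
      have : IsUnit (i.stalkMap z c) := by rw [hc1]; exact isUnit_one
      exact isUnit_of_map_unit (i.stalkMap z).hom c this
    obtain ⟨u, rfl⟩ := hcu
    refine ⟨((u⁻¹ : (X.presheaf.stalk (i z))ˣ) : X.presheaf.stalk (i z)), ?_, ?_⟩
    · rw [map_inv₀, ← hc]
      refine eq_inv_of_mul_eq_one_left ?_
      rw [← map_mul, Units.inv_mul, map_one]
    · have h3 : i.stalkMap z (((u⁻¹ : (X.presheaf.stalk (i z))ˣ) : X.presheaf.stalk (i z))) * i.stalkMap z u = 1 := by
        rw [← map_mul, Units.inv_mul, map_one]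
      rw [hc1, mul_one] at h3
      exact h3)
  refine ⟨U, hwU', hηU, r, IsUnit.of_mul_eq_one r' (ff_injective U hηU ?_), hr2⟩
  rw [map_mul, hr2, hr2', map_one, mul_inv_cancel₀]
  intro h0
  rw [h0, map_zero] at hU
  exact unitAt_ne_zero (hU _ hηU') rfl

end K381.FerrPic
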