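import Groth.Agent.Pinch.K838.Ferr

/-!
# Global functions on a pinching over a field
-/

set_option autoImplicit false
universe u

open AlgebraicGeometry CategoryTheory CategoryTheory.Limits TopologicalSpace Opposite
open K838.Ferr

namespace K381.FibGlue

variable {κ : CommRingCat.{u}} {P X T Z : Scheme.{u}} {ι : Z ⟶ X} {ξ : Z ⟶ T} {a : X ⟶ P} {b : T ⟶ P}

theorem notMem_basicOpen {O : X.Opens} {s : Γ(P, ⊤)}
    (hs : X.presheaf.map (homOfLE (le_top : O ≤ ⊤)).op (a.appTop s) = 0) (x : X) (hx : x ∈ O) :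
    a x ∉ P.basicOpen s := by
  intro h
  have h1 : x ∈ a ⁻¹ᵁ P.basicOpen s := h
  rw [Scheme.preimage_basicOpen] at h1
  have h2 : x ∈ X.basicOpen (X.presheaf.map (homOfLE (le_top : O ≤ ⊤)).op (a.appTop s)) := by
    rw [Scheme.basicOpen_res]
    exact ⟨hx, h1⟩
  rw [hs, Scheme.basicOpen_zero] at h2
  exact h2

theorem notMem_basicOpen_sub {s t : Γ(P, ⊤)} (w : P) (hs : w ∉ P.basicOpen s) (ht : w ∉ P.basicOpen t) :
    w ∉ P.basicOpen (s - t) := by
  rw [Scheme.mem_basicOpen_top] at hs ht ⊢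
  rw [map_sub]
  intro h
  have h1 : P.presheaf.germ ⊤ w trivial s ∈ IsLocalRing.maximalIdeal (P.presheaf.stalk w) := hs
  have h2 : P.presheaf.germ ⊤ w trivial t ∈ IsLocalRing.maximalIdeal (P.presheaf.stalk w) := ht
  exact (Submodule.sub_mem _ h1 h2) h

theorem isIso_appTop (hF : IsFerr ι ξ a b) (p : P ⟶ Spec κ) (hκ : IsField κ) [Nonempty P] {idx : Type*} [Nonempty idx]
    (O : idx → X.Opens) (hO : ⨆ k, O k = ⊤)
    (hX : ∀ k (x : Γ(X, ⊤)), ∃ c : Γ(Spec κ, ⊤), X.presheaf.map (homOfLE (le_top : O k ≤ ⊤)).op x =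
      X.presheaf.map (homOfLE (le_top : O k ≤ ⊤)).op (a.appTop (p.appTop c)))
    (hinj : Function.Injective ξ.appTop)
    (hconn : ∀ c : idx → Γ(Spec κ, ⊤), (∀ k l z z', ι z ∈ O k → ι z' ∈ O l → ξ z = ξ z' → c k = c l) →
      ∀ k l, c k = c l) : IsIso p.appTop := by
  have hA : IsField Γ(Spec κ, ⊤) :=
    (Scheme.ΓSpecIso κ).commRingCatIsoToRingEquiv.toMulEquiv.isField hκ
  have hunit : ∀ c : Γ(Spec κ, ⊤), c ≠ 0 → IsUnit c := fun c hc => by
    obtain ⟨d, hd⟩ := hA.mul_inv_cancel hc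
    exact IsUnit.of_mul_eq_one d hd
  rw [ConcreteCategory.isIso_iff_bijective]
  constructor
  · let _ := hA.toField
    have : Nonempty (⊤ : P.Opens) := ⟨⟨Classical.arbitrary P, trivial⟩⟩
    have : Nontrivial Γ(P, ⊤) := inferInstance
    exact p.appTop.hom.injective
  · intro σ
    choose c hc using fun k => hX k (a.appTop σ)
    have hc' : ∀ k, X.presheaf.map (homOfLE (le_top : O k ≤ ⊤)).op (a.appTop (σ - p.appTop (c k))) = 0 := by
      intro k
      rw [map_sub, map_sub, hc, sub_self]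
    have h1 : ∀ k l, c k = c l := hconn c (by
      intro k l z z' hz hz' hzz'
      by_contra hne
      have h2 : a (ι z') = a (ι z) := by
        rw [← Scheme.Hom.comp_apply, ← Scheme.Hom.comp_apply, hF.w, Scheme.Hom.comp_apply, Scheme.Hom.comp_apply, hzz']
      have h3 := notMem_basicOpen (hc' k) (ι z) hz
      have h4 := notMem_basicOpen (hc' l) (ι z') hz'
      rw [h2] at h4
      have h5 := notMem_basicOpen_sub _ h3 h4
      apply h5
      rw [sub_sub_sub_cancel_left, ← map_sub]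
      have h6 : IsUnit (p.appTop (c l - c k)) := (hunit _ (sub_ne_zero.mpr (Ne.symm hne))).map p.appTop.hom
      rw [Scheme.basicOpen_of_isUnit _ h6]
      trivial)
    obtain ⟨k₀⟩ := ‹Nonempty idx›
    refine ⟨c k₀, ?_⟩
    have h2 : a.appTop (σ - p.appTop (c k₀)) = 0 := by
      apply X.sheaf.eq_of_locally_eq' O ⊤ (fun k => homOfLE le_top) (by rw [hO])
      intro k
      have h3 := hc' k
      rw [h1 k k₀] at h3
      exact h3.trans (map_zero (X.presheaf.map (homOfLE (le_top : O k ≤ ⊤)).op).hom).symm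
    have h3 : b.appTop (σ - p.appTop (c k₀)) = 0 := by
      apply hinj
      rw [map_zero]
      have h4 : (b.appTop ≫ ξ.appTop) (σ - p.appTop (c k₀)) = (a.appTop ≫ ι.appTop) (σ - p.appTop (c k₀)) := by
        rw [← Scheme.Hom.comp_appTop, ← Scheme.Hom.comp_appTop, hF.w]
      rw [CommRingCat.comp_apply, CommRingCat.comp_apply, h2, map_zero] at h4
      exact h4
    obtain ⟨-, h4⟩ := (secSq_iff hF.w ⊤).mp (hF.sec ⊤)
    have h5 : σ - p.appTop (c k₀) = 0 := h4 _ _ (by rw [map_zero]; exact h2) (by rw [map_zero]; exact h3)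
    exact (sub_eq_zero.mp h5).symm

/-- The same with a family of open immersions covering `X`. -/
theorem isIso_appTop' (hF : IsFerr ι ξ a b) (p : P ⟶ Spec κ) (hκ : IsField κ) [Nonempty P] {idx : Type*}
    [Nonempty idx] {X' : idx → Scheme.{u}} (m : ∀ k, X' k ⟶ X) [∀ k, IsOpenImmersion (m k)]
    (hm : ∀ x : X, ∃ k x', m k x' = x) (hX : ∀ k, Function.Surjective (m k ≫ a ≫ p).appTop)
    (hinj : Function.Injective ξ.appTop)
    (hconn : ∀ c : idx → Γ(Spec κ, ⊤), (∀ k l z z', ι z ∈ Set.range (m k) → ι z' ∈ Set.range (m l) → ξ z = ξ z' →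
      c k = c l) → ∀ k l, c k = c l) : IsIso p.appTop := by
  refine isIso_appTop hF p hκ (fun k => (m k).opensRange) ?_ (fun k x => ?_) hinj hconn
  · rw [eq_top_iff]
    intro x _
    obtain ⟨k, x', rfl⟩ := hm x
    exact Opens.mem_iSup.mpr ⟨k, ⟨x', rfl⟩⟩
  · obtain ⟨c, hc⟩ := hX k ((m k).appTop x)
    refine ⟨c, ?_⟩
    have h1 : IsIso ((m k).app (m k).opensRange) := (m k).isIso_app _ le_rfl
    apply (ConcreteCategory.bijective_of_isIso ((m k).app (m k).opensRange)).1
    have h2 : ∀ y : Γ(X, ⊤), (m k).app (m k).opensRange (X.presheaf.map (homOfLE (le_top : (m k).opensRange ≤ ⊤)).op y) =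
        (X' k).presheaf.map (homOfLE le_top).op ((m k).appTop y) := by
      intro y
      have := (m k).naturality (homOfLE (le_top : (m k).opensRange ≤ ⊤)).op
      exact DFunLike.congr_fun (congrArg CommRingCat.Hom.hom this) y
    rw [h2, h2, ← hc]
    congr 1

end K381.FibGlue
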