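import Groth.Agent.Ega2.Normal
import Mathlib.RingTheory.IntegralClosure.GoingDown
import Mathlib.AlgebraicGeometry.Morphisms.Finite
import Mathlib.AlgebraicGeometry.Morphisms.Integral

/-!
# Integral surjective morphisms onto normal integral schemes

`generalizingMap_of_isIntegralHom`: going down for integral surjective morphisms of integral schemes
with normal target.
`eq_of_specializes`: no specializations in the fibres of an integral morphism.
-/

set_option autoImplicit false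
universe u
open CategoryTheory CategoryTheory.Limits AlgebraicGeometry

namespace K381.FinGen

/-- Points of a fibre of an integral morphism do not specialize to each other. -/
theorem eq_of_specializes {X Y : Scheme.{u}} (f : X ⟶ Y) [IsIntegralHom f] {x x' : X}
    (h : x' ⤳ x) (hf : f x' = f x) : x' = x := by
  obtain ⟨_, ⟨V, hV, rfl⟩, hyV, -⟩ :=
    Y.isBasis_affineOpens.exists_subset_of_mem_open (Set.mem_univ (f x)) isOpen_univ
  have hW : IsAffineOpen (f ⁻¹ᵁ V) := hV.preimage f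
  have hxW : x ∈ f ⁻¹ᵁ V := hyV
  have hx'W : x' ∈ f ⁻¹ᵁ V := h.mem_open (f ⁻¹ᵁ V).isOpen hxW
  obtain ⟨q, hq⟩ : ∃ q, hW.fromSpec q = x := by
    have : x ∈ Set.range hW.fromSpec := by rw [hW.range_fromSpec]; exact hxW
    exact this
  obtain ⟨q', hq'⟩ : ∃ q, hW.fromSpec q = x' := by
    have : x' ∈ Set.range hW.fromSpec := by rw [hW.range_fromSpec]; exact hx'W
    exact this
  have hcomp : ∀ z, hV.fromSpec (Spec.map (f.appLE V (f ⁻¹ᵁ V) le_rfl) z) = f (hW.fromSpec z) := by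
    intro z
    rw [← Scheme.Hom.comp_apply, ← Scheme.Hom.comp_apply]
    exact congrArg (fun g => g z) (hV.SpecMap_appLE_fromSpec f hW le_rfl)
  have hsp : q' ⤳ q := by
    rw [← hW.fromSpec.isOpenEmbedding.isInducing.specializes_iff, hq, hq']
    exact h
  have he : Spec.map (f.appLE V (f ⁻¹ᵁ V) le_rfl) q' = Spec.map (f.appLE V (f ⁻¹ᵁ V) le_rfl) q := by
    apply hV.fromSpec.isOpenEmbedding.injective
    rw [hcomp, hcomp, hq, hq', hf]
  have hint : (f.appLE V (f ⁻¹ᵁ V) le_rfl).hom.IsIntegral := by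
    rw [← Scheme.Hom.app_eq_appLE]
    exact f.isIntegral_app V hV
  have hle : q'.asIdeal ≤ q.asIdeal := (PrimeSpectrum.le_iff_specializes _ _).mpr hsp
  have hcom : q'.asIdeal.comap (f.appLE V (f ⁻¹ᵁ V) le_rfl).hom =
      q.asIdeal.comap (f.appLE V (f ⁻¹ᵁ V) le_rfl).hom := congrArg PrimeSpectrum.asIdeal he
  have : q' = q := by
    apply PrimeSpectrum.ext
    by_contra hne
    algebraize [(f.appLE V (f ⁻¹ᵁ V) le_rfl).hom]
    exact (Ideal.IsIntegral.comap_lt_comap (A := Γ(X, f ⁻¹ᵁ V)) (lt_of_le_of_ne hle hne)).ne hcom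
  rw [← hq, ← hq', this]

/-- Going down for integral surjective morphisms of integral schemes with normal target. -/
theorem generalizingMap_of_isIntegralHom {X Y : Scheme.{u}} [IsIntegral X] [IsIntegral Y]
    (hY : Pi1.IsNormalScheme Y) (f : X ⟶ Y) [IsIntegralHom f] [IsDominant f] :
    GeneralizingMap f.base := by
  intro x y hy
  obtain ⟨_, ⟨V, hV, rfl⟩, hyV, -⟩ :=
    Y.isBasis_affineOpens.exists_subset_of_mem_open (Set.mem_univ (f x)) isOpen_univ
  have hW : IsAffineOpen (f ⁻¹ᵁ V) := hV.preimage f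
  have hxW : x ∈ f ⁻¹ᵁ V := hyV
  have hyV' : y ∈ V := Specializes.mem_open hy V.isOpen hyV
  obtain ⟨q, hq⟩ : ∃ q, hW.fromSpec q = x := by
    have : x ∈ Set.range hW.fromSpec := by rw [hW.range_fromSpec]; exact hxW
    exact this
  obtain ⟨p, hp⟩ : ∃ q, hV.fromSpec q = y := by
    have : y ∈ Set.range hV.fromSpec := by rw [hV.range_fromSpec]; exact hyV'
    exact this
  have hcomp : ∀ z, hV.fromSpec (Spec.map (f.appLE V (f ⁻¹ᵁ V) le_rfl) z) = f (hW.fromSpec z) := by
    intro z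
    rw [← Scheme.Hom.comp_apply, ← Scheme.Hom.comp_apply]
    exact congrArg (fun g => g z) (hV.SpecMap_appLE_fromSpec f hW le_rfl)
  have hsp : p ⤳ Spec.map (f.appLE V (f ⁻¹ᵁ V) le_rfl) q := by
    rw [← hV.fromSpec.isOpenEmbedding.isInducing.specializes_iff, hcomp, hp, hq]
    exact hy
  have hle : p.asIdeal ≤ q.asIdeal.comap (f.appLE V (f ⁻¹ᵁ V) le_rfl).hom :=
    (PrimeSpectrum.le_iff_specializes _ _).mpr hsp
  have hint : (f.appLE V (f ⁻¹ᵁ V) le_rfl).hom.IsIntegral := by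
    rw [← Scheme.Hom.app_eq_appLE]
    exact f.isIntegral_app V hV
  have : Nonempty (V : Y.Opens) := ⟨⟨y, hyV'⟩⟩
  have : Nonempty (f ⁻¹ᵁ V : X.Opens) := ⟨⟨x, hxW⟩⟩
  have : IsSchemeTheoreticallyDominant f := IsSchemeTheoreticallyDominant.of_isDominant f
  have hinj : Function.Injective (f.appLE V (f ⁻¹ᵁ V) le_rfl).hom := by
    rw [← Scheme.Hom.app_eq_appLE]
    exact f.app_injective V
  have := Groth.Agent.Ega2.Normal.isIntegrallyClosed_of_isAffineOpen hY hV ‹_›
  algebraize [(f.appLE V (f ⁻¹ᵁ V) le_rfl).hom]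
  have : FaithfulSMul Γ(Y, V) Γ(X, f ⁻¹ᵁ V) := (faithfulSMul_iff_algebraMap_injective _ _).mpr hinj
  obtain ⟨P, hP, hPp, hPo⟩ := Ideal.exists_ideal_le_liesOver_of_le (R := Γ(Y, V)) (S := Γ(X, f ⁻¹ᵁ V))
    (p := p.asIdeal) (q := q.asIdeal.under Γ(Y, V)) q.asIdeal hle
  let P' : PrimeSpectrum Γ(X, f ⁻¹ᵁ V) := ⟨P, hPp⟩
  refine ⟨hW.fromSpec P', ?_, ?_⟩
  · rw [← hq]
    have : P' ⤳ q := (PrimeSpectrum.le_iff_specializes _ _).mp hP
    exact this.map hW.fromSpec.continuous
  · refine (hcomp P').symm.trans ?_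
    rw [← hp]
    congr 1
    exact PrimeSpectrum.ext hPo.over.symm

end K381.FinGen
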