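import Mathlib.RingTheory.LocalRing.Length
import Mathlib.RingTheory.OrderOfVanishing.Basic
import Mathlib.RingTheory.DiscreteValuationRing.Basic
import Mathlib.LinearAlgebra.Dimension.Localization
import Mathlib.LinearAlgebra.FreeModule.PID
import Mathlib.FieldTheory.IsAlgClosed.Basic
import Mathlib.RingTheory.LocalRing.ResidueField.Instances
import Mathlib.RingTheory.TensorProduct.Quotient

/-!
# The order of the uniformizer on a finite local domain over a discrete valuation ring
-/

set_option autoImplicit false
universe u v

open IsLocalRing

namespace K381.FinLen

open TensorProduct in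
theorem length_quotient (R : Type u) [CommRing R] [IsLocalRing R] (B : Type v) [AddCommGroup B]
    [Module R B] [Module.Finite R B] [Module.Free R B] :
    Module.length R (B ⧸ (maximalIdeal R • (⊤ : Submodule R B))) = Module.finrank R B := by
  rw [← (TensorProduct.quotTensorEquivQuotSMul B (maximalIdeal R)).length_eq]
  change Module.length R (ResidueField R ⊗[R] B) = _
  rw [Module.length_eq_of_surjective (R := ResidueField R) (S := R) (M := ResidueField R ⊗[R] B)
      Ideal.Quotient.mk_surjective,
    Module.length_eq_finrank, Module.finrank_baseChange]

/-- The rank of a finite local domain over a discrete valuation ring with algebraically closed residue field is the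
order of the uniformizer. -/
theorem ord_eq_finrank (R : Type u) [CommRing R] [IsDomain R] [IsDiscreteValuationRing R]
    (hk : IsAlgClosed (ResidueField R)) (B : Type u) [CommRing B] [IsDomain B] [IsLocalRing B] [Algebra R B]
    [Module.Finite R B] [IsLocalHom (algebraMap R B)] (hinj : Function.Injective (algebraMap R B)) (t : R)
    (ht : Irreducible t) :
    Ring.ord B (algebraMap R B t) = Module.finrank R B := by
  have hfs : FaithfulSMul R B := (faithfulSMul_iff_algebraMap_injective R B).mpr hinj
  have htf : Module.IsTorsionFree R B := inferInstance
  have hfree : Module.Free R B := inferInstance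
  rw [← length_quotient R B, Ring.ord]
  have h1 : Module.length (ResidueField R) (ResidueField B) = 1 := by
    have h2 : Module.Finite (ResidueField R) (ResidueField B) := inferInstance
    have h3 : Function.Bijective (algebraMap (ResidueField R) (ResidueField B)) :=
      IsAlgClosed.algebraMap_bijective_of_isIntegral
    rw [Module.length_eq_finrank,
      ← (LinearEquiv.ofBijective (Algebra.linearMap (ResidueField R) (ResidueField B)) h3).finrank_eq,
      Module.finrank_self]
    rfl
  have h2 := IsLocalRing.length_restrictScalars R B (B ⧸ Ideal.span {algebraMap R B t})
  rw [h1, mul_one] at h2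
  rw [← h2]
  refine LinearEquiv.length_eq ?_
  have h4 : (maximalIdeal R • (⊤ : Submodule R B)) =
      (Ideal.span {algebraMap R B t}).restrictScalars R := by
    rw [ht.maximalIdeal_eq]
    ext b
    rw [Submodule.restrictScalars_mem, Ideal.mem_span_singleton', Submodule.ideal_span_singleton_smul,
      Submodule.mem_smul_pointwise_iff_exists]
    constructor
    · rintro ⟨c, -, rfl⟩
      exact ⟨c, by rw [Algebra.smul_def, mul_comm]⟩
    · rintro ⟨c, rfl⟩
      exact ⟨c, trivial, by rw [Algebra.smul_def, mul_comm]⟩
  exact (Submodule.quotEquivOfEq _ _ h4.symm)

end K381.FinLen
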