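import Groth.Agent.Models.K381.GenFib
import Groth.Agent.Resolve.K375.NagSch
import Groth.Agent.S2351

/-!
# Normal models: the normalization of a scheme over a Dedekind scheme with normal generic fibre
-/

set_option autoImplicit false
universe u

open AlgebraicGeometry CategoryTheory CategoryTheory.Limits IsLocalRing TopologicalSpace

namespace K381.NormModel

/-- The normalization of an integral Nagata scheme `Y` over `S` with normal generic fibre has the same generic
fibre. -/
theorem exists_normalization {S : Scheme.{u}} [IsIntegral S] (hS : ∀ s : S, IsPrincipalIdealRing (S.presheaf.stalk s))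
    {C Y : Scheme.{u}} [IsIntegral Y] (hY : K375.NagSch.IsNag Y) {f : Y ⟶ S} [IsDominant f] {i : C ⟶ Y}
    {g : C ⟶ Spec S.functionField} (h : IsPullback i g f (S.fromSpecStalk (genericPoint S)))
    (hC : Pi1.IsNormalScheme C) :
    ∃ (M : Scheme.{u}) (ν : M ⟶ Y) (i' : C ⟶ M), IsFinite ν ∧ IsIntegral M ∧ Pi1.IsNormalScheme M ∧
      Flat (ν ≫ f) ∧ IsDominant (ν ≫ f) ∧ IsPullback i' g (ν ≫ f) (S.fromSpecStalk (genericPoint S)) ∧
      i' ≫ ν = i := by
  have hCi : IsIntegral C := K381.GenFib.isIntegral h
  have hqc : QuasiCompact (Y.fromSpecStalk (genericPoint Y)) := K262.GenExt.quasiCompact_fromSpecStalk Y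
  let ν := Curv2.normalizationι Y
  have hfin : IsFinite ν := K375.NagSch.isFinite_normalizationι Y hY
  obtain ⟨hMi, hMn, hsurj, -⟩ := Groth.Agent.S2351.result Y
  have hνd : IsDominant ν := ⟨by
    have : Surjective ν := hsurj
    exact ν.surjective.denseRange⟩
  have hdom : IsDominant (ν ≫ f) := inferInstance
  have hflat : Flat (ν ≫ f) := K381.DedFlat.flat_of_isDominant _ hS
  let MC := pullback ν i
  have h1 : IsPullback (pullback.fst ν i) (pullback.snd ν i ≫ g) (ν ≫ f) (S.fromSpecStalk (genericPoint S)) :=
    ((IsPullback.of_hasPullback ν i).flip.paste_horiz h.flip).flip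
  have hMCi : IsIntegral MC := K381.GenFib.isIntegral h1
  have : IsIntegralHom (pullback.snd ν i) := inferInstance
  -- the section over the generic point
  let t₀ : Spec (Y.presheaf.stalk (genericPoint Y)) ⟶ Curv2.normalization Y :=
    (Y.fromSpecStalk (genericPoint Y)).toNormalization
  have ht₀ : t₀ ≫ ν = Y.fromSpecStalk (genericPoint Y) :=
    (Y.fromSpecStalk (genericPoint Y)).toNormalization_fromNormalization
  have hgen := K381.GenFib.map_genericPoint_eq h
  have hsp : genericPoint Y ⤳ i (genericPoint C) := by rw [hgen]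
  let t₁ : Spec C.functionField ⟶ Spec (Y.presheaf.stalk (genericPoint Y)) :=
    Spec.map ((Y.presheaf.stalkCongr (.of_eq hgen.symm)).hom ≫ i.stalkMap (genericPoint C))
  have ht₁ : t₁ ≫ Y.fromSpecStalk (genericPoint Y) = C.fromSpecStalk (genericPoint C) ≫ i := by
    change Spec.map _ ≫ _ = _
    rw [Spec.map_comp, Category.assoc, ← Scheme.SpecMap_stalkMap_fromSpecStalk]
    congr 1
    exact Scheme.SpecMap_stalkSpecializes_fromSpecStalk (show i (genericPoint C) ⤳ genericPoint Y by rw [hgen])
  let t : Spec C.functionField ⟶ MC := pullback.lift (t₁ ≫ t₀) (C.fromSpecStalk (genericPoint C))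
    (by rw [Category.assoc, ht₀, ht₁])
  have hiso : IsIso (pullback.snd ν i) :=
    Groth.Agent.Ega2.Normal.isIso_of_functionField_section hC (pullback.snd ν i) t (pullback.lift_snd _ _ _)
  refine ⟨Curv2.normalization Y, ν, inv (pullback.snd ν i) ≫ pullback.fst ν i, hfin, hMi, hMn, hflat, hdom, ?_, ?_⟩
  · refine IsPullback.of_iso h1 (asIso (pullback.snd ν i)) (Iso.refl _) (Iso.refl _) (Iso.refl _) ?_ ?_ ?_ ?_
    · simp
    · simp
    · simp
    · simp
  · rw [Category.assoc, pullback.condition, IsIso.inv_hom_id_assoc]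

end K381.NormModel
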