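import Groth.Agent.Lefpen.H370.OrdQuadConv
import Groth.Agent.Sga7.H591.GeoFib
import Groth.Agent.CurvesB.NodeSch2
import Groth.Agent.CurvSt.K333.NodeCount
import Groth.Agent.Picfga.CurveRelDim
import Groth.Prelude.Def_ModelsSS

/-!
# The nodes of a nodal family are ordinary quadratic points

* `isOrdQuadPt_of_isNode`: a node (`Curv2.IsNode`) of a scheme over a field is an ordinary quadratic point of dimension
  one (`VanCyc.IsOrdQuadPt`).
* `main`: the special fibre of a proper nodal family over a local ring is smooth of relative dimension one outside a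
  finite set of closed points which are ordinary quadratic points of dimension one.
* `smooth_generic`: the generic fibre of a model of a smooth proper curve is smooth of relative dimension one.
-/

set_option autoImplicit false
universe u
open CategoryTheory CategoryTheory.Limits AlgebraicGeometry TensorProduct IsLocalRing

namespace Groth.Agent.Models.K381.OrdQuad

section Series

variable (k : Type u) [Field k]

theorem coeff_xy (d : Fin 2 →₀ ℕ) : MvPowerSeries.coeff d (MvPowerSeries.X 0 * MvPowerSeries.X 1 : MvPowerSeries (Fin 2) k) =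
    if d = Finsupp.single 0 1 + Finsupp.single 1 1 then 1 else 0 := by
  have h : (MvPowerSeries.X 0 * MvPowerSeries.X 1 : MvPowerSeries (Fin 2) k) =
      MvPowerSeries.monomial (Finsupp.single 0 1 + Finsupp.single 1 1) 1 := by
    rw [MvPowerSeries.X, MvPowerSeries.X, MvPowerSeries.monomial_mul_monomial, one_mul]
  rw [h, MvPowerSeries.coeff_monomial]

/-- `x y` is an ordinary quadratic series. -/
theorem ordQuadSeries : VanCyc.OrdQuadSeries (MvPowerSeries.X 0 * MvPowerSeries.X 1 : MvPowerSeries (Fin (1 + 1)) k) := by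
  refine ⟨⟨?_, fun i => ?_⟩, fun v h1 h2 => ?_⟩
  · simp
  · have := coeff_xy k (Finsupp.single i 1)
    refine this.trans (if_neg ?_)
    intro h
    have h0 := DFunLike.congr_fun h 0
    have h1 := DFunLike.congr_fun h 1
    fin_cases i <;> simp at h0 h1
  · have h01 : VanCyc.quadPart (MvPowerSeries.X 0 * MvPowerSeries.X 1 : MvPowerSeries (Fin (1 + 1)) k) 0 1 = 1 := by
      unfold VanCyc.quadPart
      rw [if_neg (by decide), if_pos (by decide)]
      exact (coeff_xy k _).trans (if_pos rfl)
    have e0 := congrFun h2 0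
    have e1 := congrFun h2 1
    have h00 : VanCyc.quadPart (MvPowerSeries.X 0 * MvPowerSeries.X 1 : MvPowerSeries (Fin (1 + 1)) k) 0 0 = 0 := by
      unfold VanCyc.quadPart
      rw [if_pos rfl]
      refine (coeff_xy k _).trans (if_neg fun h => ?_)
      have := DFunLike.congr_fun h 1
      simp at this
    have h11 : VanCyc.quadPart (MvPowerSeries.X 0 * MvPowerSeries.X 1 : MvPowerSeries (Fin (1 + 1)) k) 1 1 = 0 := by
      unfold VanCyc.quadPart
      rw [if_pos rfl]
      refine (coeff_xy k _).trans (if_neg fun h => ?_)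
      have := DFunLike.congr_fun h 0
      simp at this
    rw [Matrix.mulVec, dotProduct, Fin.sum_univ_two] at e0 e1
    simp only [VanCyc.polarMatrix, h00, h11, h01, Pi.zero_apply, if_true, mul_zero, zero_mul, zero_add, add_zero,
      show ((0 : Fin (1 + 1)) = 1) = False by simp, show ((1 : Fin (1 + 1)) = 0) = False by simp,
      show ((0 : Fin (1 + 1)) < 1) = True by simp, show ((1 : Fin (1 + 1)) < 0) = False by simp, if_false, one_mul] at e0 e1
    funext i
    fin_cases i
    · exact e1
    · exact e0

variable {k}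

theorem isOrdQuadSing_of_isOrdDoublePt {O : Type u} [CommRing O] [IsLocalRing O] [Algebra k O]
    (h : Curv2.IsOrdDoublePt k O) : VanCyc.IsOrdQuadSing k O 1 := by
  obtain ⟨e, he⟩ := h
  refine ⟨_, ordQuadSeries k, ⟨AlgEquiv.ofRingEquiv (f := e) fun c => ?_⟩⟩
  rw [IsScalarTower.algebraMap_apply k O (AdicCompletion (maximalIdeal O) O), he]
  rfl

end Series

section Node

open Groth.Agent.VarietyA.StalkBC

/-- The local ring of `Y_K` at the point attached to a prime of `O_{Y,y} ⊗ K`, as an algebra over `K`. -/
theorem stalkEquiv_stalkRingHom {k : Type u} [Field k] {Y : Scheme.{u}} (q : Y ⟶ Spec (CommRingCat.of k)) (K : Type u)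
    [Field K] [Algebra k K] (y : Y) [Algebra k (Y.presheaf.stalk y)]
    (h : algebraMap k (Y.presheaf.stalk y) = stalkRingHom q y)
    (m : Spec (CommRingCat.of (Y.presheaf.stalk y ⊗[k] K))) (c : K) :
    stalkEquiv q K y h m (stalkRingHom (pullback.snd q (Spec.map (CommRingCat.ofHom (algebraMap k K))))
      (specTensorTo q K y h m) c) =
      algebraMap (Y.presheaf.stalk y ⊗[k] K) (Localization.AtPrime m.asIdeal) (1 ⊗ₜ c) := by
  have h1 : (stalkEquiv q K y h m).toRingHom =
      (Spec.stalkIso (CommRingCat.of (Y.presheaf.stalk y ⊗[k] K)) m).hom.hom.comp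
        ((specTensorTo q K y h).stalkMap m).hom := rfl
  have h2 : (stalkEquiv q K y h m).toRingHom.comp
      (stalkRingHom (pullback.snd q (Spec.map (CommRingCat.ofHom (algebraMap k K)))) (specTensorTo q K y h m)) =
      (algebraMap (Y.presheaf.stalk y ⊗[k] K) (Localization.AtPrime m.asIdeal)).comp
        (inr (R := k) K y).hom := by
    rw [h1, RingHom.comp_assoc, stalkRingHom_comp,
      stalkRingHom_congr (specTensorTo q K y h ≫ pullback.snd _ _) (specTensorTo_snd q K y h) m, stalkRingHom_Spec]
  exact RingHom.congr_fun h2 c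

/-- **A node is an ordinary quadratic point of dimension one.** -/
theorem isOrdQuadPt_of_isNode {k : Type u} [Field k] {Y : Scheme.{u}} (q : Y ⟶ Spec (CommRingCat.of k))
    [LocallyOfFiniteType q] (y : Y) (hy : @Curv2.IsNode k _ Y ⟨q⟩ y) :
    VanCyc.IsOrdQuadPt (VanCyc.resHom q y) 1 := by
  let iY : Y.Over (Spec (CommRingCat.of k)) := ⟨q⟩
  have hft : LocallyOfFiniteType (Y ↘ Spec (CommRingCat.of k)) := ‹LocallyOfFiniteType q›
  let K := AlgebraicClosure k
  let iA : Algebra k (Y.presheaf.stalk y) := (VanCyc.resHom q y).toAlgebra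
  have hA : algebraMap k (Y.presheaf.stalk y) = stalkRingHom q y := rfl
  intro M hM
  -- the corresponding ideal of `O ⊗ K`
  let ε : (Y.presheaf.stalk y ⊗[k] K) ≃+* (K ⊗[k] Y.presheaf.stalk y) :=
    (Algebra.TensorProduct.comm k (Y.presheaf.stalk y) K).toRingEquiv
  let M' : Ideal (Y.presheaf.stalk y ⊗[k] K) := M.comap ε.toRingHom
  have hM' : M'.IsMaximal := Ideal.comap_isMaximal_of_surjective _ ε.surjective
  let m : Spec (CommRingCat.of (Y.presheaf.stalk y ⊗[k] K)) := ⟨M', hM'.isPrime⟩
  have hm : m.asIdeal.comap (Algebra.TensorProduct.includeLeftRingHom (R := k)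
      (A := Y.presheaf.stalk y) (B := K)) = IsLocalRing.maximalIdeal _ := by
    have : Algebra.IsIntegral (Y.presheaf.stalk y) (Y.presheaf.stalk y ⊗[k] K) := inferInstance
    have : (M'.comap (algebraMap (Y.presheaf.stalk y) (Y.presheaf.stalk y ⊗[k] K))).IsMaximal :=
      Ideal.isMaximal_comap_of_isIntegral_of_isMaximal M'
    exact IsLocalRing.eq_maximalIdeal this
  have h1 := fst_specTensorTo_apply q K y hA m hm
  have h2 := Groth.Agent.CurvesB.NodeSch2.isOrdDoublePt_of_isNode k y hy (specTensorTo q K y hA m) h1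
  let i3 : Algebra K ((pullback q (Spec.map (CommRingCat.ofHom (algebraMap k K)))).presheaf.stalk
      (specTensorTo q K y hA m)) :=
    (stalkRingHom (pullback.snd q (Spec.map (CommRingCat.ofHom (algebraMap k K)))) (specTensorTo q K y hA m)).toAlgebra
  have h3 : VanCyc.IsOrdQuadSing K ((pullback q (Spec.map (CommRingCat.ofHom (algebraMap k K)))).presheaf.stalk
      (specTensorTo q K y hA m)) 1 := isOrdQuadSing_of_isOrdDoublePt h2
  -- the localizations
  let e : Localization.AtPrime M' ≃+* Localization.AtPrime M :=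
    IsLocalization.ringEquivOfRingEquiv (M := M'.primeCompl) (T := M.primeCompl) (Localization.AtPrime M')
      (Localization.AtPrime M) ε (by
        ext x
        constructor
        · rintro ⟨z, hz, rfl⟩
          exact hz
        · intro hx
          exact ⟨ε.symm x, fun h => hx (by simpa [M'] using h), ε.apply_symm_apply x⟩)
  refine Groth.Agent.Lefpen.H370.OrdQuadConv.isOrdQuadSing_of_semilinear (RingEquiv.refl K)
    ((stalkEquiv q K y hA m).trans e) (fun c => ?_) h3
  have h4 := stalkEquiv_stalkRingHom q K y hA m c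
  change e (stalkEquiv q K y hA m (stalkRingHom _ _ c)) = _
  rw [h4]
  change e (algebraMap (Y.presheaf.stalk y ⊗[k] K) (Localization.AtPrime M') (1 ⊗ₜ c)) = _
  rw [IsLocalization.ringEquivOfRingEquiv_eq]
  rfl

end Node

section Main

/-- **The special fibre of a proper nodal family**: smooth of relative dimension one outside a finite set of closed
points which are ordinary quadratic points of dimension one. -/
theorem main {R : Type u} [CommRing R] [IsLocalRing R] {X : Scheme.{u}} (p : X ⟶ Spec (CommRingCat.of R)) [IsProper p]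
    (hp : Curv2.IsNodalFamily p) :
    ∃ (Sing : Finset ↥(VanCyc.spFib R p)) (U : (VanCyc.spFib R p).Opens),
      (∀ x ∈ Sing, IsClosed ({x} : Set ↥(VanCyc.spFib R p))) ∧
      (∀ x ∈ Sing, VanCyc.IsOrdQuadPt (VanCyc.resHom (VanCyc.spStr R p) x) 1) ∧ (∀ x, x ∉ Sing → x ∈ U) ∧
      SmoothOfRelativeDimension 1 (U.ι ≫ VanCyc.spStr R p) := by
  let q := VanCyc.spStr R p
  have hq : Curv2.IsNodalFamily q :=
    Groth.Agent.Sga7.H591.GeoFib.isNodalFamily_of_isPullback p hp q (VanCyc.icl R p) (VanCyc.toSk R)
      (IsPullback.of_hasPullback _ _)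
  have hqp : IsProper q := inferInstanceAs (IsProper (pullback.snd p (VanCyc.toSk R)))
  have hlfp : LocallyOfFinitePresentation q := hq.2.1
  obtain ⟨h1, -⟩ := K333.NodeCount.finite_singι hq
  have hfin : (Set.range (K333.NodeCount.singι q)).Finite := by
    have h2 : Finite ↥(K333.NodeCount.sing q) := by
      have h3 := (K333.NodeCount.singι q ≫ q).finite_preimage_singleton
        (default : ↥(Spec (CommRingCat.of (IsLocalRing.ResidueField R))))
      have h4 : (K333.NodeCount.singι q ≫ q) ⁻¹'
          {(default : ↥(Spec (CommRingCat.of (IsLocalRing.ResidueField R))))} = Set.univ :=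
        Set.eq_univ_of_forall fun x => Subsingleton.elim (α := PrimeSpectrum (IsLocalRing.ResidueField R)) _ _
      rw [h4] at h3
      exact Set.finite_univ_iff.1 h3
    exact Set.finite_range _
  refine ⟨hfin.toFinset, q.smoothLocus, fun x hx => ?_, fun x hx => ?_, fun x hx => ?_, ?_⟩
  · obtain ⟨z, rfl⟩ := hfin.mem_toFinset.1 hx
    exact K333.NodeCount.isClosed_apply q (K333.NodeCount.singι q) z
  · have h2 := hfin.mem_toFinset.1 hx
    exact isOrdQuadPt_of_isNode q x
      ((K333.NodeCount.isNode_iff hq (IsPullback.of_horiz_isIso ⟨by simp⟩ : IsPullback (𝟙 _) q q (𝟙 _)) x).2 h2)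
  · have h2 : x ∉ Set.range (K333.NodeCount.singι q) := fun h => hx (hfin.mem_toFinset.2 h)
    rw [K333.NodeCount.range_singι hq] at h2
    push Not at h2
    obtain ⟨U, hxU, hU⟩ := h2
    exact Groth.Agent.VarietyA.SmoothLocusSch.le_smoothLocus q U hxU
  · exact Groth.Agent.Sga7.H591.GeoFib.smoothRel q hq

/-- The generic fibre of a model of a smooth proper curve. -/
theorem smooth_generic {R : Type u} [CommRing R] [IsDomain R] [IsDiscreteValuationRing R] {X C : Scheme.{u}}
    {p : X ⟶ Spec (CommRingCat.of R)} {f : C ⟶ Spec (CommRingCat.of (FractionRing R))}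
    (hC : Curve.IsSmoothProperCurve (FractionRing R) C f) {g : C ⟶ X}
    (sq : IsPullback g f p (Spec.map (CommRingCat.ofHom (algebraMap R (FractionRing R))))) :
    SmoothOfRelativeDimension 1 (VanCyc.fibStr R p (FractionRing R)) := by
  have h1 : SmoothOfRelativeDimension 1 f := by
    obtain ⟨h1, h2, h3, h4⟩ := hC
    exact Groth.Agent.Picfga.CurveRelDim.smoothOfRelativeDimension_of_topologicalKrullDim_eq (FractionRing R) C f 1
      (by simpa using h4)
  have h2 : sq.isoPullback.inv ≫ f = VanCyc.fibStr R p (FractionRing R) := by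
    rw [Iso.inv_comp_eq]
    exact sq.isoPullback_hom_snd.symm
  rw [← h2]
  exact (inferInstance : SmoothOfRelativeDimension (0 + 1) (sq.isoPullback.inv ≫ f))

end Main

end Groth.Agent.Models.K381.OrdQuad
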