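import Groth.Agent.Models.K381.P1Emb

/-!
# The regular finite model is a closed subscheme of a suitable proper model
-/

set_option autoImplicit false
universe u

open AlgebraicGeometry CategoryTheory CategoryTheory.Limits IsLocalRing TopologicalSpace

namespace K381.P1Clos

open K381.P1Pt K381.AFin K381.P1Emb

/-- A function on an open `V` of `Z` which comes from a morphism `Z ⟶ Y ⟶ P¹` on a dense subscheme. -/
theorem pt_res {ZK Z : Scheme.{u}} [IsReduced Z] (τ : ZK ⟶ Z) [IsDominant τ] (V : Z.Opens) (hV : (⊤ : ZK.Opens) ≤ τ ⁻¹ᵁ V)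
    (z : Γ(Z, V)) (r : Z ⟶ PZ.{u}) (hr : τ ≫ r = pt (τ.appLE V ⊤ hV z)) :
    V.ι ≫ r = pt (V.topIso.inv z) := by
  let τ' : ZK ⟶ V := IsOpenImmersion.lift V.ι τ (by
    rintro _ ⟨x, rfl⟩
    have : τ x ∈ V := hV (show x ∈ (⊤ : ZK.Opens) from trivial)
    simpa using this)
  have hτ' : τ' ≫ V.ι = τ := IsOpenImmersion.lift_fac _ _ _
  have hd : IsDominant τ' := by
    have : IsDominant (τ' ≫ V.ι) := by rw [hτ']; infer_instance
    exact IsDominant.of_comp_of_isOpenImmersion _ V.ι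
  refine K381.PtExt.eq_of_dominant τ' (CohB1.ProjSpace.toSpec 1 (ULift.{u} ℤ)) (specULiftZIsTerminal.hom_ext _ _) ?_
  rw [← Category.assoc, hτ', hr, comp_pt]
  congr 1
  have h1 : τ.appLE V ⊤ hV = V.topIso.inv ≫ τ'.appTop := by
    simp only [← hτ']
    rw [← Scheme.Hom.appLE_comp_appLE τ' V.ι V ⊤ ⊤ (by simp) (by simp), Scheme.Opens.ι_appLE]
    congr 1
    exact Scheme.Hom.appLE_eq_app _
  rw [h1]
  rfl

theorem app_topIso {S Z W : Scheme.{u}} (h : Z ⟶ S) (U : S.Opens) (f : W ⟶ (h ⁻¹ᵁ U : Scheme.{u}))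
    (k : W ⟶ S) (hk : f ≫ (h ⁻¹ᵁ U).ι ≫ h = k) (hW : (⊤ : W.Opens) ≤ k ⁻¹ᵁ U) :
    h.app U ≫ (h ⁻¹ᵁ U).topIso.inv ≫ f.appTop = k.appLE U ⊤ hW := by
  subst hk
  have h1 : (h ⁻¹ᵁ U).topIso.inv = (h ⁻¹ᵁ U).ι.appLE (h ⁻¹ᵁ U) ⊤ (by simp) := by
    rw [Scheme.Opens.ι_appLE]
    rfl
  have h2 : f.appTop = f.appLE ⊤ ⊤ le_rfl := (Scheme.Hom.appLE_eq_app _).symm
  rw [h1, h2, Scheme.Hom.app_eq_appLE, Scheme.Hom.appLE_comp_appLE, Scheme.Hom.appLE_comp_appLE]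
  simp only [Category.assoc]

theorem isClosedImmersion_v {S : Scheme.{u}} [IsIntegral S] {C : Scheme.{u}} {g : C ⟶ Spec S.functionField}
    {ZK Z : Scheme.{u}} [IsReduced Z] {j : ZK ⟶ C} {h : Z ⟶ S} [IsFinite h] {τ : ZK ⟶ Z} [IsDominant τ]
    {E : Set Γ(ZK, ⊤)} (A : Emb g j h τ E) {ι : Type u} (U : ι → S.Opens) (hU : ∀ i, IsAffineOpen (U i))
    (hcov : ⨆ i, U i = ⊤) (hτ : ∀ i, (⊤ : ZK.Opens) ≤ τ ⁻¹ᵁ h ⁻¹ᵁ U i) (G : ∀ i, Set Γ(Z, h ⁻¹ᵁ U i))
    (hG : ∀ i, letI := (h.app (U i)).hom.toAlgebra; Submodule.span Γ(S, U i) (G i) = ⊤)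
    (hGE : ∀ i, ∀ z ∈ G i, τ.appLE (h ⁻¹ᵁ U i) ⊤ (hτ i) z ∈ E) : IsClosedImmersion A.v := by
  have hp := A.proper
  have hfin : IsFinite A.v := by
    have : IsFinite (A.v ≫ A.p) := by rw [A.v_p]; infer_instance
    exact IsFinite.of_comp A.v A.p
  rw [IsClosedImmersion.iff_isFinite_and_mono]
  refine ⟨hfin, ⟨fun {T} a b hab => ?_⟩⟩
  have hc : a ≫ h = b ≫ h := by rw [← A.v_p, reassoc_of% hab]
  have hcov' : ⨆ i, (a ≫ h) ⁻¹ᵁ U i = ⊤ := by
    rw [← Scheme.Hom.preimage_iSup, hcov]; rfl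
  refine Scheme.Cover.hom_ext (T.openCoverOfIsOpenCover _ (IsOpenCover.mk hcov')) _ _ fun i => ?_
  change ((a ≫ h) ⁻¹ᵁ U i).ι ≫ a = ((a ≫ h) ⁻¹ᵁ U i).ι ≫ b
  let W := (a ≫ h) ⁻¹ᵁ U i
  let V := h ⁻¹ᵁ U i
  have ha : Set.range (W.ι ≫ a) ⊆ V := by
    rintro _ ⟨x, rfl⟩
    exact x.2
  have hb : Set.range (W.ι ≫ b) ⊆ V := by
    rintro _ ⟨x, rfl⟩
    have h1 : (a ≫ h) (W.ι x) ∈ U i := x.2
    rw [hc] at h1
    exact h1
  let a' : (W : Scheme.{u}) ⟶ V := IsOpenImmersion.lift V.ι (W.ι ≫ a) (by simpa using ha)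
  let b' : (W : Scheme.{u}) ⟶ V := IsOpenImmersion.lift V.ι (W.ι ≫ b) (by simpa using hb)
  have ha' : a' ≫ V.ι = W.ι ≫ a := IsOpenImmersion.lift_fac _ _ _
  have hb' : b' ≫ V.ι = W.ι ≫ b := IsOpenImmersion.lift_fac _ _ _
  have hVa : IsAffine (V : Scheme.{u}) := (hU i).preimage h
  suffices a' = b' by
    change W.ι ≫ a = W.ι ≫ b
    rw [← ha', ← hb', this]
  have key : ∀ z : Γ(Z, V), a'.appTop (V.topIso.inv z) = b'.appTop (V.topIso.inv z) := by
    let _ : Algebra Γ(S, U i) Γ(Z, V) := (h.app (U i)).hom.toAlgebra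
    intro z
    have hz : z ∈ Submodule.span Γ(S, U i) (G i) := by rw [hG i]; trivial
    induction hz using Submodule.span_induction with
    | mem x hx =>
      obtain ⟨r, hr⟩ := A.fn _ (hGE i x hx)
      have h1 := pt_res τ V (hτ i) x (A.v ≫ r) hr
      apply pt_injective
      rw [← comp_pt, ← comp_pt, ← h1, reassoc_of% ha', reassoc_of% hb', reassoc_of% hab]
    | zero => simp only [map_zero]
    | add x y _ _ hx hy => simp only [map_add, hx, hy]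
    | smul r x _ hx =>
      rw [Algebra.smul_def, map_mul, map_mul, map_mul, hx]
      congr 1
      have hWU : (⊤ : (W : Scheme.{u}).Opens) ≤ (W.ι ≫ a ≫ h) ⁻¹ᵁ U i := by
        intro y _
        exact y.2
      have h2 := app_topIso h (U i) a' (W.ι ≫ a ≫ h) (by rw [reassoc_of% ha']) hWU
      have h3 := app_topIso h (U i) b' (W.ι ≫ a ≫ h) (by rw [reassoc_of% hb', hc]) hWU
      exact congrArg (fun q : Γ(S, U i) ⟶ Γ((W : Scheme.{u}), ⊤) => q r) (h2.trans h3.symm)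
  apply ext_of_isAffine
  ext s
  have := key (V.topIso.hom s)
  rw [Iso.hom_inv_id_apply] at this
  exact this

/-- A proper model containing the regular finite model of a finite closed subscheme of the generic fibre as a closed
subscheme. -/
theorem exists_closed {S : Scheme.{u}} [IsIntegral S] [IsNoetherian S] {C : Scheme.{u}} [IsIntegral C]
    {g : C ⟶ Spec S.functionField} [IsProper g] (hC : ∀ c : C, IsRegularLocalRing (C.presheaf.stalk c))
    (hdimC : topologicalKrullDim C ≤ 1) {ZK Z : Scheme.{u}} {j : ZK ⟶ C} [IsClosedImmersion j] [Finite ZK]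
    {h : Z ⟶ S} {τ : ZK ⟶ Z} (hZ : K381.ZMod.IsZ (j ≫ g) h τ) :
    ∃ (Y : Scheme.{u}) (p : Y ⟶ S) (l : C ⟶ pullback p (S.fromSpecStalk (genericPoint S))) (v : Z ⟶ Y),
      IsProper p ∧ RelAF p ∧ IsClosedImmersion l ∧ l ≫ pullback.snd _ _ = g ∧ IsClosedImmersion v ∧ v ≫ p = h ∧
      j ≫ l ≫ pullback.fst _ _ = τ ≫ v := by
  have hF : IsArtinianRing S.functionField := inferInstance
  have hfin := hZ.finite
  have hred := hZ.reduced
  have hdom := hZ.dominant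
  have hCN : IsLocallyNoetherian C := LocallyOfFiniteType.isLocallyNoetherian g
  have hCc : CompactSpace C := QuasiCompact.compactSpace_of_compactSpace g
  have hCn : IsNoetherian C := {}
  have hCs : C.IsSeparated := by
    rw [Scheme.isSeparated_iff, ← terminal.comp_from g]
    infer_instance
  have hlZ := isLocallyNoetherian_Z.{u}
  -- an affine cover
  have hU : ∀ s : S, ∃ U : S.Opens, IsAffineOpen U ∧ s ∈ U := fun s => by
    obtain ⟨U, hU, hs, -⟩ := exists_isAffineOpen_mem_and_subset (X := S) (TopologicalSpace.Opens.mem_top s)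
    exact ⟨U, hU, hs⟩
  choose U hU hsU using hU
  obtain ⟨t, ht⟩ := CompactSpace.elim_nhds_subcover (fun s : S => (U s : Set S)) fun s => (U s).isOpen.mem_nhds (hsU s)
  have hτ : ∀ i : t, (⊤ : ZK.Opens) ≤ τ ⁻¹ᵁ h ⁻¹ᵁ U i := fun i x _ => by
    change h (τ x) ∈ U i
    rw [K381.GenFib.map_eq hZ.isPullback x]
    exact ((genericPoint_specializes (i : S)).mem_open (U i).2 (hsU i))
  have hG : ∀ i : t, ∃ G : Set Γ(Z, h ⁻¹ᵁ U i), G.Finite ∧
      (letI := (h.app (U i)).hom.toAlgebra; Submodule.span Γ(S, U i) G = ⊤) := fun i => by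
    let _ := (h.app (U i)).hom.toAlgebra
    have h1 : Module.Finite Γ(S, U i) Γ(Z, h ⁻¹ᵁ U i) := IsFinite.finite_app h (U i) (hU i)
    obtain ⟨G, hG⟩ := h1.fg_top
    exact ⟨G, G.finite_toSet, hG⟩
  choose G hGf hG using hG
  let E : Set Γ(ZK, ⊤) := ⋃ i : t, (fun z => τ.appLE (h ⁻¹ᵁ U i) ⊤ (hτ i) z) '' G i
  have hE : E.Finite := Set.finite_iUnion fun i => (hGf i).image _
  obtain ⟨A⟩ := exists_emb (g := g) (j := j) (h := h) (τ := τ) hdimC (by rw [hZ.isPullback.w, Category.assoc])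
    (fun {Y} p _ w hw => hZ.ext h p w hw)
    (fun t => exists_morphism (K := S.functionField) hC hdimC j t)
    (fun t => by
      obtain ⟨v, -, hv⟩ := hZ.ext (specULiftZIsTerminal.from Z) (CohB1.ProjSpace.toSpec 1 (ULift.{u} ℤ)) (pt t)
        (specULiftZIsTerminal.hom_ext _ _)
      exact ⟨v, hv⟩) E hE
  refine ⟨A.Y, A.p, A.l, A.v, A.proper, A.af, A.closed, A.l_snd,
    isClosedImmersion_v A (fun i : t => U i) (fun i => hU i) ?_ hτ G hG ?_, A.v_p, ?_⟩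
  · rw [eq_top_iff]
    intro s _
    have : s ∈ ⋃ x ∈ t, (U x : Set S) := by rw [ht]; trivial
    simp only [Set.mem_iUnion] at this
    obtain ⟨x, hx, hs⟩ := this
    exact TopologicalSpace.Opens.mem_iSup.mpr ⟨⟨x, hx⟩, hs⟩
  · intro i z hz
    exact Set.mem_iUnion.mpr ⟨i, z, hz, rfl⟩
  · rw [A.l_fst, A.comm]

end K381.P1Clos
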