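import Groth.Agent.Models.K381.P1Pt

/-!
# Proper models containing the regular finite model of a finite closed subscheme of the generic fibre
-/

set_option autoImplicit false
universe u

open AlgebraicGeometry CategoryTheory CategoryTheory.Limits IsLocalRing TopologicalSpace

namespace K381.P1Emb

open K381.P1Pt K381.AFin

theorem isLocallyNoetherian_Z : IsLocallyNoetherian (Spec (CommRingCat.of (ULift.{u} ℤ))) := by
  have hN : IsNoetherianRing (ULift.{u} ℤ) := isNoetherianRing_of_ringEquiv ℤ ULift.ringEquiv.symm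
  infer_instance

section

variable {S : Scheme.{u}} [IsIntegral S] {C : Scheme.{u}} {g : C ⟶ Spec S.functionField} {ZK Z : Scheme.{u}}
  {j : ZK ⟶ C} {h : Z ⟶ S} {τ : ZK ⟶ Z}

/-- The data of a proper scheme `Y` over `S` receiving compatible morphisms from `C` and `Z` such that the first one is
a closed immersion on the generic fibre, with prescribed functions on `ZK` coming from morphisms of `Y` to the
projective line. -/
structure Emb (g : C ⟶ Spec S.functionField) (j : ZK ⟶ C) (h : Z ⟶ S) (τ : ZK ⟶ Z) (E : Set Γ(ZK, ⊤)) where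
  Y : Scheme.{u}
  p : Y ⟶ S
  u : C ⟶ Y
  v : Z ⟶ Y
  proper : IsProper p
  af : RelAF p
  v_p : v ≫ p = h
  comm : j ≫ u = τ ≫ v
  l : C ⟶ pullback p (S.fromSpecStalk (genericPoint S))
  closed : IsClosedImmersion l
  l_fst : l ≫ pullback.fst _ _ = u
  l_snd : l ≫ pullback.snd _ _ = g
  fn : ∀ t ∈ E, ∃ r : Y ⟶ PZ.{u}, τ ≫ v ≫ r = pt t

theorem emb_empty [IsProper g] (hdim : topologicalKrullDim C ≤ 1)
    (hτ : τ ≫ h = j ≫ g ≫ S.fromSpecStalk (genericPoint S))
    (hext : ∀ {Y : Scheme.{u}} (p : Y ⟶ S) [IsProper p] (w : ZK ⟶ Y), w ≫ p = τ ≫ h →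
      ∃ v : Z ⟶ Y, v ≫ p = h ∧ τ ≫ v = w) : Nonempty (Emb g j h τ ∅) := by
  obtain ⟨n, l, hl, hl'⟩ := K381.ProjGen.exists_embedding g hdim
  have hp : IsProper (CohB1.ProjSpaceOver.toBase n S) := Groth.Agent.Dix.ProjProper.isProper_toBase n S
  obtain ⟨v, hv, hv'⟩ := hext (CohB1.ProjSpaceOver.toBase n S) (j ≫ l ≫ pullback.fst _ _) (by
    simp only [Category.assoc]
    rw [pullback.condition, reassoc_of% hl', hτ])
  exact ⟨{ Y := _, p := CohB1.ProjSpaceOver.toBase n S, u := l ≫ pullback.fst _ _, v := v, proper := hp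
           af := RelAF.projSpaceOver n S, v_p := hv, comm := by rw [hv'], l := l, closed := hl, l_fst := rfl
           l_snd := hl', fn := fun t ht => absurd ht (Set.notMem_empty t) }⟩

theorem emb_insert (hphi : ∀ t : Γ(ZK, ⊤), ∃ φ : C ⟶ PZ.{u}, j ≫ φ = pt t)
    (hpsi : ∀ t : Γ(ZK, ⊤), ∃ ψ : Z ⟶ PZ.{u}, τ ≫ ψ = pt t)
    {E : Set Γ(ZK, ⊤)} (A : Emb g j h τ E) (t : Γ(ZK, ⊤)) : Nonempty (Emb g j h τ (insert t E)) := by
  obtain ⟨φ, hφ⟩ := hphi t
  obtain ⟨ψ, hψ⟩ := hpsi t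
  let Y' := CohB1.ProjSpaceOver 1 A.Y
  let b : Y' ⟶ A.Y := CohB1.ProjSpaceOver.toBase 1 A.Y
  have hb : IsProper b := Groth.Agent.Dix.ProjProper.isProper_toBase 1 A.Y
  let c : Y' ⟶ PZ.{u} := pullback.fst _ _
  have hp := A.proper
  let u' : C ⟶ Y' := pullback.lift φ A.u (specULiftZIsTerminal.hom_ext _ _)
  let v' : Z ⟶ Y' := pullback.lift ψ A.v (specULiftZIsTerminal.hom_ext _ _)
  have hu1 : u' ≫ b = A.u := pullback.lift_snd _ _ _
  have hu2 : u' ≫ c = φ := pullback.lift_fst _ _ _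
  have hv1 : v' ≫ b = A.v := pullback.lift_snd _ _ _
  have hv2 : v' ≫ c = ψ := pullback.lift_fst _ _ _
  let m : pullback (b ≫ A.p) (S.fromSpecStalk (genericPoint S)) ⟶ pullback A.p (S.fromSpecStalk (genericPoint S)) :=
    pullback.lift (pullback.fst _ _ ≫ b) (pullback.snd _ _) (by rw [Category.assoc, pullback.condition])
  have hl0 : u' ≫ b ≫ A.p = g ≫ S.fromSpecStalk (genericPoint S) := by
    rw [← Category.assoc, hu1, ← A.l_fst, Category.assoc, pullback.condition, ← Category.assoc, A.l_snd]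
  let l' : C ⟶ pullback (b ≫ A.p) (S.fromSpecStalk (genericPoint S)) := pullback.lift u' g hl0
  have hm : IsSeparated m := by
    have h1 : m ≫ pullback.snd _ _ = pullback.snd _ _ := pullback.lift_snd _ _ _
    have h2 : IsSeparated (m ≫ pullback.snd A.p (S.fromSpecStalk (genericPoint S))) := by
      rw [h1]; infer_instance
    exact IsSeparated.of_comp m (pullback.snd A.p (S.fromSpecStalk (genericPoint S)))
  have hl' : l' ≫ m = A.l := by
    apply pullback.hom_ext
    · rw [Category.assoc, pullback.lift_fst, A.l_fst, ← Category.assoc, pullback.lift_fst, hu1]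
    · rw [Category.assoc, pullback.lift_snd, A.l_snd, pullback.lift_snd]
  refine ⟨{ Y := Y', p := b ≫ A.p, u := u', v := v', proper := inferInstance
            af := (RelAF.projSpaceOver 1 A.Y).comp A.af, v_p := ?_, comm := ?_, l := l', closed := ?_
            l_fst := pullback.lift_fst _ _ _, l_snd := pullback.lift_snd _ _ _, fn := ?_ }⟩
  · rw [← Category.assoc, hv1, A.v_p]
  · apply pullback.hom_ext
    · change (j ≫ u') ≫ c = (τ ≫ v') ≫ c
      rw [Category.assoc, Category.assoc, hu2, hv2, hφ, hψ]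
    · change (j ≫ u') ≫ b = (τ ≫ v') ≫ b
      rw [Category.assoc, Category.assoc, hu1, hv1, A.comm]
  · have := A.closed
    rw [← hl'] at this
    exact IsClosedImmersion.of_comp l' m
  · rintro t' (rfl | ht')
    · exact ⟨c, by rw [hv2, hψ]⟩
    · obtain ⟨r, hr⟩ := A.fn t' ht'
      exact ⟨b ≫ r, by rw [reassoc_of% hv1, hr]⟩

theorem exists_emb [IsProper g] (hdim : topologicalKrullDim C ≤ 1)
    (hτ : τ ≫ h = j ≫ g ≫ S.fromSpecStalk (genericPoint S))
    (hext : ∀ {Y : Scheme.{u}} (p : Y ⟶ S) [IsProper p] (w : ZK ⟶ Y), w ≫ p = τ ≫ h →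
      ∃ v : Z ⟶ Y, v ≫ p = h ∧ τ ≫ v = w)
    (hphi : ∀ t : Γ(ZK, ⊤), ∃ φ : C ⟶ PZ.{u}, j ≫ φ = pt t)
    (hpsi : ∀ t : Γ(ZK, ⊤), ∃ ψ : Z ⟶ PZ.{u}, τ ≫ ψ = pt t) (E : Set Γ(ZK, ⊤)) (hE : E.Finite) :
    Nonempty (Emb g j h τ E) := by
  induction E, hE using Set.Finite.induction_on with
  | empty => exact emb_empty hdim hτ hext
  | insert _ _ ih =>
    obtain ⟨A⟩ := ih
    exact emb_insert hphi hpsi A _

end

end K381.P1Emb
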