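import Groth.Agent.Models.K381.ZMod
import Groth.Agent.Models.K381.AFin
import Groth.Agent.Sga4B.P1Geom441
import Groth.Agent.CurvesA.TwoAffMain

/-!
# Functions as points of the projective line
-/

set_option autoImplicit false
universe u

open AlgebraicGeometry CategoryTheory CategoryTheory.Limits IsLocalRing TopologicalSpace

namespace K381.P1Pt

/-- The projective line over the integers. -/
noncomputable abbrev PZ : Scheme.{u} := CohB1.ProjSpace 1 (ULift.{u} ℤ)

/-- The point of the projective line with coordinate a given function. -/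
noncomputable def pt {T : Scheme.{u}} (t : Γ(T, ⊤)) : T ⟶ PZ.{u} :=
  AffineSpace.homOfVector (n := Groth.Agent.Sga4B.P1Geom.I.{u}) (specULiftZIsTerminal.from T) (fun _ => t) ≫
    Groth.Agent.Sga4B.P1Geom.v0 0

theorem comp_pt {T T' : Scheme.{u}} (f : T' ⟶ T) (t : Γ(T, ⊤)) : f ≫ pt t = pt (f.appTop t) := by
  unfold pt
  rw [← Category.assoc, AffineSpace.comp_homOfVector]
  congr 2
  exact specULiftZIsTerminal.hom_ext _ _

theorem pt_injective {T : Scheme.{u}} {t t' : Γ(T, ⊤)} (h : pt t = pt t') : t = t' := by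
  unfold pt at h
  rw [cancel_mono] at h
  have h1 := congrArg (fun f : T ⟶ _ => f.appTop (AffineSpace.coord _ ⟨0⟩)) h
  simpa only [AffineSpace.homOfVector_appTop_coord] using h1

theorem exists_affine {C : Scheme.{u}} [C.IsSeparated] [IsNoetherian C] (hC : topologicalKrullDim C ≤ 1) (F : Set C)
    (hF : F.Finite) : ∃ U : C.Opens, IsAffineOpen U ∧ F ⊆ U := by
  obtain ⟨U, hU, h⟩ := Groth.Agent.CurvesA.TwoAffMain.exists_affine (X := C) hF.toFinset (fun x _ =>
    ⟨inferInstance, (K381.DedFlat.ringKrullDim_stalk_le C x).trans hC⟩)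
  exact ⟨U, hU, fun x hx => h x (by simpa using hx)⟩

/-- A function on a finite closed subscheme of a regular curve is the restriction of a morphism to the projective
line. -/
theorem exists_morphism {K : CommRingCat.{u}} [IsArtinianRing K] {C Z : Scheme.{u}} [IsIntegral C] [C.IsSeparated]
    [IsNoetherian C]
    (hC : ∀ c : C, IsRegularLocalRing (C.presheaf.stalk c)) (hdimC : topologicalKrullDim C ≤ 1)
    (j : Z ⟶ C) [IsClosedImmersion j] [Finite Z] (t : Γ(Z, ⊤)) : ∃ φ : C ⟶ PZ.{u}, j ≫ φ = pt t := by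
  obtain ⟨W, hW, hFW⟩ := exists_affine hdimC (Set.range j ∪ {genericPoint C})
    ((Set.finite_range j).union (Set.finite_singleton _))
  have hη : genericPoint C ∈ W := hFW (Or.inr rfl)
  have hj : Set.range j ⊆ W := fun x hx => hFW (Or.inl hx)
  let j' : Z ⟶ W := IsOpenImmersion.lift W.ι j (by simpa using hj)
  have hj' : j' ≫ W.ι = j := IsOpenImmersion.lift_fac _ _ _
  have hcl : IsClosedImmersion j' := by
    have : IsClosedImmersion (j' ≫ W.ι) := by rw [hj']; infer_instance
    exact IsClosedImmersion.of_comp j' W.ι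
  have hWa : IsAffine (W : Scheme.{u}) := hW
  obtain ⟨w, hw⟩ := (IsClosedImmersion.isAffine_surjective_of_isAffine j').2 t
  have hprop : IsProper (CohB1.ProjSpace.toSpec 1 (ULift.{u} ℤ)) := inferInstance
  have hN : IsNoetherianRing (ULift.{u} ℤ) := isNoetherianRing_of_ringEquiv ℤ ULift.ringEquiv.symm
  have hlN : IsLocallyNoetherian (Spec (CommRingCat.of (ULift.{u} ℤ))) := inferInstance
  obtain ⟨φ, -, hφ⟩ := K381.PtExt.exists_ext (specULiftZIsTerminal.from C) (CohB1.ProjSpace.toSpec 1 (ULift.{u} ℤ)) hC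
    (fun c => (K381.DedFlat.ringKrullDim_stalk_le C c).trans hdimC) (W.fromSpecStalkOfMem _ hη ≫ pt w)
    (specULiftZIsTerminal.hom_ext _ _)
  refine ⟨φ, ?_⟩
  have hdom : IsDominant (W.fromSpecStalkOfMem _ hη) := by
    have h1 : IsDominant (W.fromSpecStalkOfMem _ hη ≫ W.ι) := by
      rw [Scheme.Opens.fromSpecStalkOfMem_ι]
      exact K262.GenExt.isDominant_fromSpecStalk C
    exact IsDominant.of_comp_of_isOpenImmersion _ W.ι
  have h2 : W.ι ≫ φ = pt w := K381.PtExt.eq_of_dominant (W.fromSpecStalkOfMem _ hη)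
    (CohB1.ProjSpace.toSpec 1 (ULift.{u} ℤ)) (specULiftZIsTerminal.hom_ext _ _) (by
      rw [Scheme.Opens.fromSpecStalkOfMem_ι_assoc, hφ])
  rw [← hj', Category.assoc, h2, comp_pt, hw]

end K381.P1Pt
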