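import Groth.Agent.Models.K381.OrdQuad
import Groth.Agent.S3999

/-!
# The inertia action on the first cohomology of a curve with semistable reduction

`main`: over a strictly henselian discrete valuation ring, a smooth proper curve with semistable reduction has a proper
flat model for which `(σ - 1) (τ - 1) = 0` on `H¹` of the geometric generic fibre (S3999).
-/

set_option autoImplicit false
universe u
open CategoryTheory CategoryTheory.Limits AlgebraicGeometry

namespace Groth.Agent.Models.K381.PicLef

/-- **Level two of the inertia action on `H¹`.** -/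
theorem main (R : Type u) [CommRing R] [IsDomain R] [IsDiscreteValuationRing R] (hR : EtCoh.IsStrictlyHenselianLocalRing R)
    {C : Scheme.{u}} {f : C ⟶ Spec (CommRingCat.of (FractionRing R))}
    (hC : Curve.IsSmoothProperCurve (FractionRing R) C f) (h : Models.HasSemistableReduction R C f) :
    ∃ (X : Scheme.{u}) (p : X ⟶ Spec (CommRingCat.of R)) (g : C ⟶ X),
      IsPullback g f p (Spec.map (CommRingCat.ofHom (algebraMap R (FractionRing R)))) ∧ IsProper p ∧ Flat p ∧
      ∀ (Ω : Type u) [Field Ω] [Algebra (FractionRing R) Ω] [IsSepClosure (FractionRing R) Ω] [Algebra R Ω]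
        [IsScalarTower R (FractionRing R) Ω] (N : ℕ) (_ : IsUnit (N : R))
        [PreservesFiniteLimits (EtCoh.pull (VanCyc.jA R p Ω))] (σ τ : Ω ≃ₐ[FractionRing R] Ω)
        [PreservesFiniteLimits (EtCoh.pull (VanCyc.galGeom p σ))]
        [PreservesFiniteLimits (EtCoh.pull (VanCyc.galGeom p τ))],
        (VanCyc.galH p σ (EtCoh.const X (ZMod N)) 1 - AddMonoidHom.id _).comp
          (VanCyc.galH p τ (EtCoh.const X (ZMod N)) 1 - AddMonoidHom.id _) = 0 := by
  obtain ⟨X, p, ⟨hflat, -, -, g, sq⟩, hp, hn⟩ := h
  refine ⟨X, p, g, sq, hp, hflat, ?_⟩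
  intro Ω _ _ _ _ _ N hN _ σ τ _ _
  obtain ⟨Sing, U, h1, h2, h3, h4⟩ := OrdQuad.main p hn
  exact Groth.Agent.S3999.result R (FractionRing R) Ω hR p 1 (OrdQuad.smooth_generic hC sq) Sing h1 h2 U h3 h4 N hN
    odd_one σ τ

end Groth.Agent.Models.K381.PicLef
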