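import Groth.Agent.Models.K381.ResGlue
import Groth.Agent.Models.H300.ExtPic

/-!
# Surjectivity of the restriction of line bundles to the generic fibre of a pinching
-/

set_option autoImplicit false
universe u

open AlgebraicGeometry CategoryTheory CategoryTheory.Limits TopologicalSpace Opposite IsLocalRing
open Groth.Agent.Dix.Center Groth.Agent.Grpsch.GrowthFF Groth.Agent.Fdesc.LocGen
  Groth.Agent.Lefpen.H725.CocDef Groth.Agent.Lefpen.H521.CartierCoc Groth.Agent.Grpsch.PicGrp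
open K515.FF K515.Coc K838.Ferr K381.PicAux K381.ResVal

namespace K381.PicMain

variable {S X Z T P C Cn D ZK : Scheme.{u}} [AlgebraicGeometry.IsIntegral S] [AlgebraicGeometry.IsIntegral X]
  [AlgebraicGeometry.IsIntegral P] [AlgebraicGeometry.IsIntegral C] [AlgebraicGeometry.IsIntegral Cn]
  {f : X ⟶ S} {ι : Z ⟶ X}
  {h : Z ⟶ S} {t : T ⟶ S} {ξ : Z ⟶ T} {a : X ⟶ P} {b : T ⟶ P} {p : P ⟶ S}

/-- Normalized cocycles for a line bundle on `C`, its pullback to `Cn`, and an extension of the latter to `X`. -/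
theorem exists_cocycles {ν : Cn ⟶ C} {i : Cn ⟶ X} [IsOpenImmersion i] [IsLocallyNoetherian X]
    (hXreg : ∀ x : X, IsRegularLocalRing (X.presheaf.stalk x)) (hνη : ν (genericPoint Cn) = genericPoint C)
    (hiη : i (genericPoint Cn) = genericPoint X) (Dset : Set C) (hDfin : Dset.Finite) {O : C.Opens}
    (hO : IsAffineOpen O) (hDO : Dset ⊆ O) (L : Pic C) :
    ∃ (α : C → C.functionField) (β : X → X.functionField), IsCoc L α ∧ (∀ x ∈ Dset, UnitAt x (α x)) ∧
      (∀ x, β x ≠ 0) ∧ (∀ x, ∃ U : X.Opens, x ∈ U ∧ ∀ y ∈ U, UnitAt y (β x / β y)) ∧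
      ∀ y : Cn, UnitAt y (fm i hiη (β (i y)) / fm ν hνη (α (ν y))) := by
  obtain ⟨α₀, hα₀⟩ := exists_isCoc L
  obtain ⟨e, he, he'⟩ := exists_semilocal hα₀ hO Dset hDfin hDO
  have hα : IsCoc L (fun x => α₀ x / e) := hα₀.change e⁻¹ (inv_ne_zero he) fun x => by
    rw [inv_mul_eq_div, div_self (div_ne_zero (hα₀.ne x) he)]
    exact unitAt_one x
  obtain ⟨M, hM⟩ := Groth.Agent.Models.H300.ExtPic.pull_surjective i hXreg (pull ν L)
  obtain ⟨β₀, hβ₀⟩ := exists_isCoc M
  obtain ⟨c, hc0, hc⟩ := (eq_iff (hβ₀.pull i hiη) (hα.pull ν hνη)).mp hM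
  obtain ⟨c', hc'⟩ := (fm_bijective i hiη).2 c
  have hc'0 : c' ≠ 0 := by
    rintro rfl
    rw [map_zero] at hc'
    exact hc0 hc'.symm
  have hβ : IsCoc M (fun x => c' * β₀ x) := hβ₀.change c' hc'0 fun x => by
    rw [div_self (mul_ne_zero hc'0 (hβ₀.ne x))]
    exact unitAt_one x
  refine ⟨fun x => α₀ x / e, fun x => c' * β₀ x, hα, he', hβ.ne, ?_, fun y => ?_⟩
  · obtain ⟨N, hN, -, hcoc⟩ := hβ
    exact hasCoc_loc hcoc
  · rw [map_mul, hc']
    exact hc y

theorem surjective [IsProper f] [IsDominant f] [IsDominant p] (hF : IsFerr ι ξ a b) (hpb : IsPullback ι ξ a b)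
    [IsClosedImmersion ι] [IsClosedImmersion b] [IsFinite a] (ha : Function.Surjective a) (hap : a ≫ p = f)
    (hbp : b ≫ p = t) (hι : ι ≫ f = h) [Finite Z] (hopen : IsOpen {genericPoint S})
    {gn : Cn ⟶ Spec S.functionField} {i : Cn ⟶ X} [IsOpenImmersion i]
    (hX : IsPullback i gn f (S.fromSpecStalk (genericPoint S))) [IsLocallyNoetherian X]
    (hXreg : ∀ x : X, IsRegularLocalRing (X.presheaf.stalk x))
    {δ : D ⟶ T} {gD : D ⟶ Spec S.functionField} (hT : IsPullback δ gD t (S.fromSpecStalk (genericPoint S)))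
    {gZ : ZK ⟶ Spec S.functionField} {τ : ZK ⟶ Z} (hZ : IsPullback τ gZ h (S.fromSpecStalk (genericPoint S)))
    {j : ZK ⟶ Cn} {π : ZK ⟶ D} (hj : j ≫ i = τ ≫ ι) {ν : Cn ⟶ C} {d : D ⟶ C} (hjd : j ≫ ν = π ≫ d)
    {g : C ⟶ Spec S.functionField} {iC : C ⟶ P} (hP : IsPullback iC g p (S.fromSpecStalk (genericPoint S)))
    (hνa : ν ≫ iC = i ≫ a) (hdb : d ≫ iC = δ ≫ b) [Surjective ν] [IsClosedImmersion d] [Finite D]
    (hνiso : ∀ U : C.Opens, (∀ x ∈ U, x ∉ Set.range d) → IsIso (ν ∣_ U))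
    (hCη : genericPoint C ∉ Set.range d)
    {O : C.Opens} (hO : IsAffineOpen O) (hDO : Set.range d ⊆ O)
    (hdvr : ∀ z : Z, h z ≠ genericPoint S → ∃ _ : IsDomain (Z.presheaf.stalk z), IsDiscreteValuationRing (Z.presheaf.stalk z))
    (hclosed : ∀ z : Z, h z ≠ genericPoint S → IsClosed ({z} : Set Z))
    (hfield : ∀ z : Z, h z = genericPoint S → IsField (Z.presheaf.stalk z))
    {V : X.Opens} (hVa : IsAffineOpen V) (hV : ∀ z, ι z ∈ V)
    {Y : Scheme.{u}} (ρ : X ⟶ Y) (hc : IsClosed ((ι ≫ ρ) '' {z | h z ≠ genericPoint S})) [IsClosedImmersion (ι ≫ ρ)]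
    (hE : BlowUp.IsEffCartierIdeal
      ((Scheme.IdealSheafData.vanishingIdeal ⟨(ι ≫ ρ) '' {z | h z ≠ genericPoint S}, hc⟩).comap ρ))
    (hρ : ∀ y : Cn, ρ (i y) ∉ (ι ≫ ρ) '' {z | h z ≠ genericPoint S}) :
    Formal2.PicPullbackSurjective iC := by
  -- generic points
  have hiη : i (genericPoint Cn) = genericPoint X := K381.GenFib.map_genericPoint_eq hX
  have hCiη : iC (genericPoint C) = genericPoint P := K381.GenFib.map_genericPoint_eq hP
  have hνη : ν (genericPoint Cn) = genericPoint C := K381.DedFlat.map_genericPoint ν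
  have hsa : Surjective a := ⟨ha⟩
  have haη : a (genericPoint X) = genericPoint P := K381.DedFlat.map_genericPoint a
  have hiCflat : Flat iC := K381.GenFib.flat hP
  have hiCemb := K381.GenFib.isPreimmersion hP
  -- `iC x ∈ range b ↔ x ∈ range d`
  have hbd : ∀ x : C, iC x ∈ Set.range b → x ∈ Set.range d := by
    rintro x ⟨y, hy⟩
    have h1 : t y = genericPoint S := by
      rw [← hbp, Scheme.Hom.comp_apply, hy]
      exact K381.GenFib.map_eq hP x
    obtain ⟨y', rfl⟩ := (K381.GenFib.mem_range_iff hT y).mpr h1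
    refine ⟨y', iC.isEmbedding.injective ?_⟩
    rw [← hy, ← Scheme.Hom.comp_apply, hdb]
    rfl
  have hPη : genericPoint P ∉ Set.range b := by
    intro h1
    rw [← hCiη] at h1
    exact hCη (hbd _ h1)
  intro L' hL'
  obtain ⟨α, β, hα, hαD, hβ0, hβ, hαβ⟩ := exists_cocycles hXreg hνη hiη (Set.range d) (Set.finite_range d) hO hDO
    (mk L' hL')
  -- `β` is a unit along the generic part of `Z`
  have hG : ∀ z ∉ {z | h z ≠ genericPoint S}, UnitAt (ι z) (β (ι z)) := by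
    intro z hz
    rw [Set.mem_ofPred_eq, not_not] at hz
    obtain ⟨z', rfl⟩ := (K381.GenFib.mem_range_iff hZ z).mpr hz
    have h1 : ι (τ z') = i (j z') := by
      rw [← Scheme.Hom.comp_apply, ← hj]
      rfl
    rw [h1]
    apply unitAt_of_fm i hiη
    have h2 : UnitAt (j z') (fm ν hνη (α (ν (j z')))) := by
      apply fm_unitAt
      apply hαD
      refine ⟨π z', ?_⟩
      rw [← Scheme.Hom.comp_apply, ← hjd]
      rfl
    have h3 := unitAt_mul (hαβ (j z')) h2
    rwa [div_mul_cancel₀ _ (unitAt_ne_zero h2)] at h3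
  obtain ⟨β', g₀, hβ'0, hβ', hg0, hg1, hg2, hβ'β⟩ := K381.ResGlue.exists_all ι ρ {z | h z ≠ genericPoint S}
    hclosed hdvr (fun z hz => hfield z (by simpa using hz)) hVa hV hβ0 hβ hG hc hE
  obtain ⟨L, γ, hL, hLγ, hγ1, hγ2⟩ := K381.FerrPic.exists_coc hF hpb haη ha hPη hβ'0 hβ' hg0 hg1
  refine ⟨L, hL, ?_⟩
  refine hasCoc_iso (hasCoc_pullback iC hCiη hLγ) hα.hasCoc 1 one_ne_zero fun x => ?_
  rw [one_mul]
  by_cases hx : x ∈ Set.range d
  · refine unitAt_div (fm_unitAt iC hCiη ?_) (hαD x hx)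
    have hxb : iC x ∈ Set.range b := by
      obtain ⟨y, rfl⟩ := hx
      refine ⟨δ y, ?_⟩
      rw [← Scheme.Hom.comp_apply, ← hdb]
      rfl
    refine K381.FerrPic.unitAt_of_one hF hpb haη hxb (U₀ := p ⁻¹ᵁ ⟨_, hopen⟩) (K381.GenFib.map_eq hP x)
      fun z hz => ?_
    have hz' : h z = genericPoint S := by
      have h1 : p (a (ι z)) = genericPoint S := hz
      rw [← hι, ← hap]
      exact h1
    have h2 := hg2 z (by simpa using hz')
    rw [hγ1 _ hxb]
    exact h2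
  · obtain ⟨y, rfl⟩ := ν.surjective x
    have hxb : a (i y) ∉ Set.range b := by
      rw [← Scheme.Hom.comp_apply, ← hνa]
      exact fun h1 => hx (hbd _ h1)
    have hiCa : iC (ν y) = a (i y) := by
      rw [← Scheme.Hom.comp_apply, hνa]
      rfl
    let U : C.Opens := ⟨(Set.range d)ᶜ, d.isClosedEmbedding.isClosed_range.isOpen_compl⟩
    have := hνiso U fun x hx => hx
    have := K381.FerrIso.isIso_stalkMap_of_restrict ν U y hx
    rw [← unitAt_fm_iff ν hνη y, map_div₀]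
    have h1 : fm ν hνη (fm iC hCiη (γ (iC (ν y)))) = fm i hiη (β (i y)) := by
      have e1 : (ν ≫ iC) (genericPoint Cn) = genericPoint P := by
        rw [Scheme.Hom.comp_apply, hνη, hCiη]
      have e2 : (i ≫ a) (genericPoint Cn) = genericPoint P := by
        rw [← hνa]; exact e1
      rw [← fm_comp ν hνη iC hCiη e1, fm_congr (ν ≫ iC) e1 hνa e2, fm_comp i hiη a haη e2, hiCa, hγ2 _ hxb,
        hβ'β _ (hρ y)]
    rw [h1]
    exact hαβ y

end K381.PicMain
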