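import Groth.Agent.Models.K381.Core
import Groth.Agent.Pinch.K838.FerrBC
import Groth.Agent.Pinch.K838.FerrProps
import Groth.Agent.S15944

/-!
# Pinching a proper flat model along a finite flat closed subscheme
-/

set_option autoImplicit false
universe u

open AlgebraicGeometry CategoryTheory CategoryTheory.Limits IsLocalRing TopologicalSpace

namespace K381.Pinch

open K381.AFin K838.Ferr

theorem exists_std {X Z S : Scheme.{u}} (f : X ⟶ S) (hf : RelAF f) (ι : Z ⟶ X) (h : Z ⟶ S) [IsFinite h]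
    (hι : ι ≫ f = h) (s : S) : ∃ U : S.Opens, IsAffineOpen U ∧ s ∈ U ∧ ∃ V : X.Opens, IsAffineOpen V ∧
      V ≤ f ⁻¹ᵁ U ∧ ∀ z : Z, h.base z ∈ U → ι.base z ∈ V := by
  obtain ⟨U₀, hU₀, hs, -⟩ := exists_isAffineOpen_mem_and_subset (X := S) (TopologicalSpace.Opens.mem_top s)
  obtain ⟨V₀, hV₀, h1, h2⟩ := hf U₀ hU₀ (ι '' (h ⁻¹' {s})) ((h.finite_preimage_singleton s).image _) (by
    rintro _ ⟨z, hz, rfl⟩
    change f (ι z) ∈ U₀
    rw [← Scheme.Hom.comp_apply, hι]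
    rw [Set.mem_preimage, Set.mem_singleton_iff] at hz
    rw [hz]; exact hs)
  let A : Set S := h '' ((ι ⁻¹ᵁ V₀ : Z.Opens) : Set Z)ᶜ
  have hA : IsClosed A := h.isClosedMap _ (ι ⁻¹ᵁ V₀).isOpen.isClosed_compl
  have hsA : s ∉ A := by
    rintro ⟨z, hz, hzs⟩
    exact hz (h2 ⟨z, hzs, rfl⟩)
  obtain ⟨r, hr, hsr⟩ := hU₀.exists_basicOpen_le ⟨s, show s ∈ (U₀ ⊓ ⟨Aᶜ, hA.isOpen_compl⟩ : S.Opens) from ⟨hs, hsA⟩⟩ hs
  refine ⟨S.basicOpen r, hU₀.basicOpen r, hsr, V₀ ⊓ f ⁻¹ᵁ S.basicOpen r, ?_, inf_le_right, fun z hz => ⟨?_, ?_⟩⟩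
  · have h3 : V₀ ⊓ f ⁻¹ᵁ S.basicOpen r = X.basicOpen (f.appLE U₀ V₀ h1 r) := by
      rw [Scheme.Hom.appLE, CommRingCat.comp_apply, Scheme.basicOpen_res, Scheme.preimage_basicOpen]
    rw [h3]
    exact hV₀.basicOpen _
  · by_contra hz'
    exact (hr hz).2 ⟨z, hz', rfl⟩
  · change f (ι z) ∈ S.basicOpen r
    rw [← Scheme.Hom.comp_apply, hι]
    exact hz

theorem exists_pinch {X Z T S : Scheme.{u}} [IsLocallyNoetherian S] (f : X ⟶ S) [IsProper f] [Flat f] (hf : RelAF f)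
    (ι : Z ⟶ X) [IsClosedImmersion ι] (t : T ⟶ S) [IsFinite t] [Flat t] (ξ : Z ⟶ T) [IsFinite (ξ ≫ t)]
    [Flat (ξ ≫ t)] (hsq : ι ≫ f = ξ ≫ t) :
    ∃ (P : Scheme.{u}) (a : X ⟶ P) (b : T ⟶ P) (p : P ⟶ S), IsFerr ι ξ a b ∧ IsProper p ∧ Flat p ∧ a ≫ p = f ∧
      b ≫ p = t ∧ IsFinite a ∧ IsPullback ι ξ a b ∧ IsClosedImmersion b ∧ ∀ w : P, (∃ x, a x = w) ∨ ∃ y, b y = w := by
  have h3 := exists_std f hf ι (ξ ≫ t) hsq
  have hξ : IsFinite ξ := IsFinite.of_comp ξ t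
  have hA : Adapted ι ξ := fun y => by
    obtain ⟨U, V, hU, hV, hy, h, -⟩ := K838.Pairs.exists_pair f t ξ ι hsq h3 y
    exact ⟨U, V, hU, hV, hy, h⟩
  obtain ⟨P, a, b, hP, -⟩ := exists_isFerr hA
  obtain ⟨h4, h5, h6, -, h7, -⟩ := props_of_isPushout hA hP
  let p : P ⟶ S := hP.desc f t hsq
  have hap : a ≫ p = f := hP.inl_desc _ _ _
  have hbp : b ≫ p = t := hP.inr_desc _ _ _
  have hp : IsProper p := (Groth.Agent.S15944.result f t ξ ι hsq h3 a b hP p hap hbp).2 inferInstance inferInstance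
  have h8 : Flat (a ≫ p) := by rw [hap]; infer_instance
  have h9 : Flat (b ≫ p) := by rw [hbp]; infer_instance
  have h10 : Flat (ι ≫ a ≫ p) := by rw [hap, hsq]; infer_instance
  exact ⟨P, a, b, p, h4, hp, K838.FerrBC.flat_corner h4, hap, hbp, K838.FerrProps.isFinite_left h4, h5, h6, h7⟩

/-- The generic fibre of the pinched model. -/
theorem exists_genericFibre {X Z T S P C Cn D ZK : Scheme.{u}} [IsIntegral S] {f : X ⟶ S} {ι : Z ⟶ X}
    {h : Z ⟶ S} {t : T ⟶ S} {ξ : Z ⟶ T} {a : X ⟶ P} {b : T ⟶ P} {p : P ⟶ S} (hF : IsFerr ι ξ a b) (hap : a ≫ p = f)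
    (hbp : b ≫ p = t) (hι : ι ≫ f = h)
    {gn : Cn ⟶ Spec S.functionField} {i : Cn ⟶ X} (hX : IsPullback i gn f (S.fromSpecStalk (genericPoint S)))
    {gD : D ⟶ Spec S.functionField} {δ : D ⟶ T} (hT : IsPullback δ gD t (S.fromSpecStalk (genericPoint S)))
    {gZ : ZK ⟶ Spec S.functionField} {τ : ZK ⟶ Z} (hZ : IsPullback τ gZ h (S.fromSpecStalk (genericPoint S)))
    {j : ZK ⟶ Cn} {π : ZK ⟶ D} (hj : j ≫ i = τ ≫ ι) (hjg : j ≫ gn = gZ) (hπ : π ≫ δ = τ ≫ ξ)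
    {ν : Cn ⟶ C} {d : D ⟶ C} {g : C ⟶ Spec S.functionField} (hC : IsPushout j π ν d) (hν : ν ≫ g = gn)
    (hd : d ≫ g = gD) :
    ∃ iC : C ⟶ P, IsPullback iC g p (S.fromSpecStalk (genericPoint S)) ∧ ν ≫ iC = i ≫ a ∧ d ≫ iC = δ ≫ b := by
  let γ := S.fromSpecStalk (genericPoint S)
  have hγ : Flat γ := K381.GenFib.flat_fromSpecStalk S _
  have hW : IsPullback (pullback.fst p γ) (pullback.snd p γ) p γ := IsPullback.of_hasPullback p γ
  let a' : Cn ⟶ pullback p γ := pullback.lift (i ≫ a) gn (by rw [Category.assoc, hap, hX.w])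
  let b' : D ⟶ pullback p γ := pullback.lift (δ ≫ b) gD (by rw [Category.assoc, hbp, hT.w])
  have ha1 : a' ≫ pullback.fst p γ = i ≫ a := pullback.lift_fst _ _ _
  have ha2 : a' ≫ pullback.snd p γ = gn := pullback.lift_snd _ _ _
  have hb1 : b' ≫ pullback.fst p γ = δ ≫ b := pullback.lift_fst _ _ _
  have hb2 : b' ≫ pullback.snd p γ = gD := pullback.lift_snd _ _ _
  have hX' : IsPullback i a' a (pullback.fst p γ) := by
    refine IsPullback.of_bot ?_ ha1.symm hW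
    rw [ha2, hap]
    exact hX
  have hY' : IsPullback δ b' b (pullback.fst p γ) := by
    refine IsPullback.of_bot ?_ hb1.symm hW
    rw [hb2, hbp]
    exact hT
  have hZ' : IsPullback τ j ι i := by
    refine IsPullback.of_bot ?_ hj.symm hX
    rw [hjg, hι]
    exact hZ
  have hw : j ≫ a' = π ≫ b' := by
    apply pullback.hom_ext
    · rw [Category.assoc, Category.assoc, ha1, hb1, ← Category.assoc, hj, ← Category.assoc, hπ, Category.assoc,
        Category.assoc, hF.w]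
    · rw [Category.assoc, Category.assoc, ha2, hb2, ← hν, ← hd, ← Category.assoc, ← Category.assoc, hC.w]
  have hpush : IsPushout j π a' b' :=
    K838.FerrBC.isPushout_flat_baseChange hF hW hX' hY' hZ' hπ hw
  let e : C ≅ pullback p γ := hC.isoIsPushout _ _ hpush
  have he1 : ν ≫ e.hom = a' := hC.inl_isoIsPushout_hom _ _ hpush
  have he2 : d ≫ e.hom = b' := hC.inr_isoIsPushout_hom _ _ hpush
  refine ⟨e.hom ≫ pullback.fst p γ, ?_, ?_, ?_⟩
  · have he3 : e.hom ≫ pullback.snd p γ = g := by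
      apply hC.hom_ext
      · rw [reassoc_of% he1, ha2, hν]
      · rw [reassoc_of% he2, hb2, hd]
    exact IsPullback.of_iso hW e.symm (Iso.refl _) (Iso.refl _) (Iso.refl _) (by simp) (by simp [← he3]) (by simp)
      (by simp; rfl)
  · rw [reassoc_of% he1, ha1]
  · rw [reassoc_of% he2, hb1]

end K381.Pinch
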