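import Groth.Agent.GIT.K686.AbH0
import Groth.Agent.S2502
import Groth.Agent.AlgSp.K639.Dim
import Mathlib.AlgebraicGeometry.Morphisms.Proper

/-!
# Rational points of proper schemes over a field and global functions
-/

set_option autoImplicit false
universe u

open AlgebraicGeometry CategoryTheory CategoryTheory.Limits IsLocalRing TopologicalSpace

namespace K381.RatPt

open Groth.Agent

variable {κ : Type u} [Field κ] {C : Scheme.{u}} (g : C ⟶ Spec (CommRingCat.of κ))

theorem exists_section (y : C) (hy : IsIso (g.residueFieldMap y)) :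
    ∃ σ : Spec (CommRingCat.of κ) ⟶ C, σ ≫ g = 𝟙 _ ∧ ∀ p, σ p = y := by
  have h1 := Scheme.Hom.SpecMap_residueFieldMap_fromSpecResidueField g y
  have h2 : IsIso ((Spec (CommRingCat.of κ)).fromSpecResidueField (g y)) :=
    K639.Dim.isIso_fromSpecResidueField (g y)
  have h3 : IsIso (C.fromSpecResidueField y ≫ g) := by
    rw [← h1]
    infer_instance
  refine ⟨inv (C.fromSpecResidueField y ≫ g) ≫ C.fromSpecResidueField y, ?_, fun p => ?_⟩
  · rw [Category.assoc, IsIso.inv_hom_id]
  · rw [Scheme.Hom.comp_apply]
    have h4 : (C.fromSpecResidueField y) ((inv (C.fromSpecResidueField y ≫ g)) p) ∈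
        Set.range (C.fromSpecResidueField y) := ⟨_, rfl⟩
    rw [Scheme.range_fromSpecResidueField] at h4
    exact h4

variable (σ : Spec (CommRingCat.of κ) ⟶ C) (hσ : σ ≫ g = 𝟙 _)

include hσ

theorem isIso_appTop_of_isIntegral [IsIntegral C] [IsProper g] : IsIso g.appTop := by
  have h1 : IsField Γ(C, ⊤) := isField_of_universallyClosed κ g
  have h2 : g.appTop ≫ σ.appTop = 𝟙 _ := by
    rw [← Scheme.Hom.comp_appTop, hσ, Scheme.Hom.id_appTop]
  have h3 : Function.Bijective σ.appTop := by
    constructor
    · let _ := h1.toField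
      have : Nontrivial Γ(Spec (CommRingCat.of κ), ⊤) := inferInstance
      exact σ.appTop.hom.injective
    · intro a
      refine ⟨g.appTop a, ?_⟩
      rw [← CommRingCat.comp_apply, h2]
      rfl
  have h4 : IsIso σ.appTop := (ConcreteCategory.isIso_iff_bijective _).mpr h3
  have h5 : IsIso (g.appTop ≫ σ.appTop) := by rw [h2]; infer_instance
  exact IsIso.of_isIso_comp_right g.appTop σ.appTop

theorem geometricallyConnected [ConnectedSpace C] : GeometricallyConnected g := by
  have h1 : GeometricallyConnected (σ ≫ g) := by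
    rw [hσ]
    refine ⟨fun K _ y Z fst snd h => ?_⟩
    have h2 : IsIso snd := MorphismProperty.of_isPullback (P := MorphismProperty.isomorphisms Scheme.{u}) h
      (inferInstanceAs (IsIso (𝟙 (Spec (CommRingCat.of κ)))))
    exact snd.homeomorph.symm.surjective.connectedSpace snd.homeomorph.symm.continuous
  exact S2502.result σ g

theorem isIso_appTop [ConnectedSpace C] [GeometricallyReduced g] [IsProper g] : IsIso g.appTop := by
  have := geometricallyConnected g σ hσ
  exact (ConcreteCategory.isIso_iff_bijective _).mpr (K686.AbH0.bijective_appTop g)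

end K381.RatPt
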