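import Groth.Agent.Models.K381.ResModel
import Groth.Agent.Models.K381.NormModel
import Groth.Agent.Models.K381.DimGen
import Groth.Agent.Models.K381.ProjGen
import Groth.Agent.CurvesC.RegNormal
import Groth.Agent.Dix.ProjProper

/-!
# Regular proper flat models of regular integral proper curves over an excellent Dedekind scheme
-/

set_option autoImplicit false
universe u

open AlgebraicGeometry CategoryTheory CategoryTheory.Limits IsLocalRing TopologicalSpace

namespace K381.RegModel

theorem isNormalScheme_of_regular {X : Scheme.{u}} (h : ∀ x : X, IsRegularLocalRing (X.presheaf.stalk x)) :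
    Pi1.IsNormalScheme X := by
  intro x
  have := h x
  have h1 := Groth.Agent.CurvesC.RegNormal.isDomain (X.presheaf.stalk x)
  exact ⟨h1, (Groth.Agent.CurvesC.RegNormal.cic (X.presheaf.stalk x)).isIntegrallyClosed⟩

section

variable {S : Scheme.{u}} [IsIntegral S] [IsNoetherian S]
  (hreg : ∀ s : S, IsRegularLocalRing (S.presheaf.stalk s)) (hdimS : topologicalKrullDim S ≤ 1)
  (hexc : K381.ExcSch.IsExc S)

include hreg hdimS hexc

/-- The closure in `P` of a regular integral curve in the generic fibre of `P → S`, its normalization and the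
resolution of the normalization by one blow-up. -/
theorem exists_model_of_closedImmersion {C : Scheme.{u}} [IsIntegral C] (g : C ⟶ Spec S.functionField)
    (hC : ∀ c : C, IsRegularLocalRing (C.presheaf.stalk c)) (hdimC : topologicalKrullDim C ≤ 1)
    {P : Scheme.{u}} (p : P ⟶ S) [LocallyOfFiniteType p] [QuasiCompact p]
    (l : C ⟶ pullback p (S.fromSpecStalk (genericPoint S))) [IsClosedImmersion l]
    (hl : l ≫ pullback.snd _ _ = g) :
    ∃ (M : Scheme.{u}) (ν : M ⟶ P) (i : C ⟶ M), IsFinite ν ∧ IsIntegral M ∧ Pi1.IsNormalScheme M ∧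
      IsDominant (ν ≫ p) ∧ IsPullback i g (ν ≫ p) (S.fromSpecStalk (genericPoint S)) ∧
      i ≫ ν = l ≫ pullback.fst _ _ ∧
      ∃ (M' : Scheme.{u}) (𝓘 : M.IdealSheafData) (b : M' ⟶ M) (i' : C ⟶ M'), BlowUp.IsBlowUp b 𝓘 ∧
        IsIntegral M' ∧ IsProper b ∧ Flat (b ≫ ν ≫ p) ∧ IsDominant (b ≫ ν ≫ p) ∧
        (∀ m : M', IsRegularLocalRing (M'.presheaf.stalk m)) ∧
        IsPullback i' g (b ≫ ν ≫ p) (S.fromSpecStalk (genericPoint S)) ∧ i' ≫ b = i := by
  have hS := K381.DedFlat.isPrincipalIdealRing_stalk hreg hdimS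
  obtain ⟨Y, j, i₀, h1, h2, h3, h4, h5, h6⟩ := K381.GenFib.exists_closure hS g p l hl
  have hYn : K375.NagSch.IsNag Y := K375.NagSch.isNag_of_locallyOfFiniteType (j ≫ p) hexc.isNag
  have hCn := isNormalScheme_of_regular hC
  obtain ⟨M, ν, i, h7, h8, h9, h10, h11, h12, h13⟩ :=
    K381.NormModel.exists_normalization hS hYn h5 hCn
  have hft : LocallyOfFiniteType (ν ≫ j ≫ p) := inferInstance
  have hqc : QuasiCompact (ν ≫ j ≫ p) := inferInstance
  have hMlN : IsLocallyNoetherian M := LocallyOfFiniteType.isLocallyNoetherian (ν ≫ j ≫ p)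
  have hMc : CompactSpace M := QuasiCompact.compactSpace_of_compactSpace (ν ≫ j ≫ p)
  have hMN : IsNoetherian M := {}
  have hMe : K381.ExcSch.IsExc M := hexc.of_locallyOfFiniteType (ν ≫ j ≫ p)
  have hMd : ∀ m : M, ringKrullDim (M.presheaf.stalk m) ≤ 2 := fun m => by
    refine (K381.DedFlat.ringKrullDim_stalk_le M m).trans ((K381.DimGen.topologicalKrullDim_le h12).trans ?_)
    exact (add_le_add hdimS hdimC).trans (by norm_num)
  obtain ⟨M', 𝓘, b, i', h14, h15, h16, h17, h18, h19, h20, h21⟩ :=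
    K381.ResModel.exists_resolution hS hMe h9 hMd h12 hC
  refine ⟨M, ν ≫ j, i, inferInstance, h8, h9, ?_, ?_, ?_, M', 𝓘, b, i', h14, h15, h16, ?_, ?_, h19, ?_, h21⟩
  · rw [Category.assoc]; exact h11
  · rw [Category.assoc]; exact h12
  · rw [← h6, ← h13, Category.assoc]
  · rw [Category.assoc]; exact h17
  · rw [Category.assoc]; exact h18
  · rw [Category.assoc]; exact h20

/-- Regular proper flat models: the integral case. -/
theorem exists_model_integral {C : Scheme.{u}} [IsIntegral C] (g : C ⟶ Spec S.functionField) [IsProper g]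
    (hC : ∀ c : C, IsRegularLocalRing (C.presheaf.stalk c)) (hdimC : topologicalKrullDim C ≤ 1) :
    ∃ (M : Scheme.{u}) (f : M ⟶ S) (i : C ⟶ M), IsProper f ∧ Flat f ∧ IsIntegral M ∧
      (∀ m : M, IsRegularLocalRing (M.presheaf.stalk m)) ∧
      IsPullback i g f (S.fromSpecStalk (genericPoint S)) := by
  obtain ⟨n, l, hl, hl'⟩ := K381.ProjGen.exists_embedding g hdimC
  have hp : IsProper (CohB1.ProjSpaceOver.toBase n S) := Groth.Agent.Dix.ProjProper.isProper_toBase n S
  obtain ⟨M, ν, i, h1, h2, h3, h4, h5, h6, M', 𝓘, b, i', h7, h8, h9, h10, h11, h12, h13, h14⟩ :=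
    exists_model_of_closedImmersion hreg hdimS hexc g hC hdimC (CohB1.ProjSpaceOver.toBase n S) l hl'
  exact ⟨M', b ≫ ν ≫ CohB1.ProjSpaceOver.toBase n S, i', inferInstance, h10, h8, h12, h13⟩

end

end K381.RegModel
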