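import Groth.Agent.Models.K381.ResMain

/-!
# Generators with value one along a finite closed subscheme
-/

set_option autoImplicit false
universe u

open AlgebraicGeometry CategoryTheory CategoryTheory.Limits TopologicalSpace Opposite IsLocalRing
open Groth.Agent.Dix.Center Groth.Agent.Grpsch.GrowthFF Groth.Agent.Fdesc.LocGen
  Groth.Agent.Lefpen.H725.CocDef Groth.Agent.Lefpen.H521.CartierCoc Groth.Agent.Grpsch.PicGrp
open K515.FF K515.Coc K381.PicAux K381.ResVal K381.Twist K484.CocIdeal K381.ResMain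

namespace K381.ResGlue

variable {X Z : Scheme.{u}} [AlgebraicGeometry.IsIntegral X]

theorem exists_isCoc_of_loc {β : X → X.functionField} (h0 : ∀ x, β x ≠ 0)
    (hβ : ∀ x, ∃ U : X.Opens, x ∈ U ∧ ∀ y ∈ U, UnitAt y (β x / β y)) : ∃ L : Pic X, IsCoc L β := by
  obtain ⟨M, hM, h⟩ := exists_of_loc β h0 hβ
  exact ⟨mk M hM, M, hM, rfl, h⟩

theorem exists_gen [Finite Z] (ι : Z ⟶ X) [IsClosedImmersion ι] (F : Set Z) (hFc : ∀ t ∈ F, IsClosed ({t} : Set Z))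
    (hfield : ∀ z ∉ F, IsField (Z.presheaf.stalk z)) {V : X.Opens} (hVa : IsAffineOpen V) (hV : ∀ z, ι z ∈ V)
    {β : X → X.functionField} (h0 : ∀ x, β x ≠ 0)
    (hβ : ∀ x, ∃ U : X.Opens, x ∈ U ∧ ∀ y ∈ U, UnitAt y (β x / β y)) (hG : ∀ z ∉ F, UnitAt (ι z) (β (ι z)))
    (hval : ∀ t ∈ F, ∀ φ, UnitAt (ι t) (φ / β (ι t)) → ∃ c : (Z.presheaf.stalk t)ˣ, ∀ z (h : z ⤳ t), z ≠ t →
      Val ι z φ (Z.presheaf.stalkSpecializes h c)) :
    ∃ g : X.functionField, g ≠ 0 ∧ (∀ z, UnitAt (ι z) (g / β (ι z))) ∧ ∀ z ∉ F, Val ι z g 1 := by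
  obtain ⟨L, hL⟩ := exists_isCoc_of_loc h0 hβ
  obtain ⟨b, hb0, hb⟩ := exists_semilocal hL hVa (Set.range ι) (Set.finite_range ι) (by
    rintro _ ⟨z, rfl⟩
    exact hV z)
  have hb' : ∀ z, UnitAt (ι z) (b / β (ι z)) := by
    intro z
    have := unitAt_inv (hb (ι z) ⟨z, rfl⟩)
    rwa [inv_div] at this
  have hbG : ∀ z ∉ F, UnitAt (ι z) b := by
    intro z hz
    have := unitAt_mul (hb' z) (hG z hz)
    rwa [div_mul_cancel₀ _ (h0 _)] at this
  -- the germs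
  have hc : ∀ z : Z, ∃ c : (Z.presheaf.stalk z)ˣ, (z ∉ F → Val ι z b c) ∧
      (z ∈ F → ∀ z' (h : z' ⤳ z), z' ≠ z → Val ι z' b (Z.presheaf.stalkSpecializes h c)) := by
    intro z
    by_cases hz : z ∈ F
    · obtain ⟨c, hc⟩ := hval z hz b (hb' z)
      exact ⟨c, fun h => absurd hz h, fun _ => hc⟩
    · obtain ⟨c, hc⟩ := exists_val ι z (hbG z hz)
      exact ⟨c, fun _ => hc, fun h => absurd h hz⟩
  choose c hc1 hc2 using hc
  obtain ⟨w, hw⟩ := exists_section (Z := Z) (fun z => (c z : Z.presheaf.stalk z)) (by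
    intro z t h
    by_cases hzt : z = t
    · subst hzt
      rw [TopCat.Presheaf.stalkSpecializes_refl]
      rfl
    · have htF : t ∈ F := by
        by_contra htF
        exact hzt (eq_of_isField h (hfield t htF))
      have hzF : z ∉ F := by
        intro hzF
        apply hzt
        have h1 : t ∈ closure ({z} : Set Z) := h.mem_closure
        rw [(hFc z hzF).closure_eq] at h1
        exact h1.symm
      exact (hc2 t htF z h hzt).unique (hc1 z hzF))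
  -- lifting to `V`
  obtain ⟨v, hv⟩ := ι.app_surjective V hVa (Z.presheaf.map (homOfLE le_top).op w)
  by_cases hZ : Nonempty Z
  swap
  · exact ⟨b, hb0, fun z => absurd ⟨z⟩ hZ, fun z => absurd ⟨z⟩ hZ⟩
  obtain ⟨z₀⟩ := hZ
  have hηV : genericPoint X ∈ V := gen_mem (hV z₀)
  have hvz : ∀ z, Val ι z (ff V hηV v) (c z) := by
    intro z
    refine ⟨X.presheaf.germ V (ι z) (hV z) v, toK_germ (hV z) v _, ?_⟩
    have hz : z ∈ ι ⁻¹ᵁ V := hV z
    rw [ι.germ_stalkMap_apply V z (hV z) v, hv, TopCat.Presheaf.germ_res_apply]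
    exact hw z
  refine ⟨b / ff V hηV v, div_ne_zero hb0 (unitAt_ne_zero ((hvz z₀).unitAt (c z₀).isUnit)), fun z => ?_,
    fun z hz => ?_⟩
  · have := unitAt_div (hb' z) ((hvz z).unitAt (c z).isUnit)
    rwa [div_right_comm] at this
  · have := (hc1 z hz).mul (hvz z).inv
    rw [Units.mul_inv] at this
    exact this

theorem exists_all [Finite Z] {Y : Scheme.{u}} (ι : Z ⟶ X) [IsClosedImmersion ι] (ρ : X ⟶ Y)
    [IsClosedImmersion (ι ≫ ρ)] (F : Set Z)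
    (hFc : ∀ t ∈ F, IsClosed ({t} : Set Z))
    (hdvr : ∀ t ∈ F, ∃ _ : IsDomain (Z.presheaf.stalk t), IsDiscreteValuationRing (Z.presheaf.stalk t))
    (hfield : ∀ z ∉ F, IsField (Z.presheaf.stalk z)) {V : X.Opens} (hVa : IsAffineOpen V) (hV : ∀ z, ι z ∈ V)
    {β : X → X.functionField} (h0 : ∀ x, β x ≠ 0)
    (hβ : ∀ x, ∃ U : X.Opens, x ∈ U ∧ ∀ y ∈ U, UnitAt y (β x / β y)) (hG : ∀ z ∉ F, UnitAt (ι z) (β (ι z)))
    (hc : IsClosed ((ι ≫ ρ) '' F))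
    (hE : BlowUp.IsEffCartierIdeal
      ((Scheme.IdealSheafData.vanishingIdeal ⟨(ι ≫ ρ) '' F, hc⟩).comap ρ)) :
    ∃ (β' : X → X.functionField) (g : X.functionField), (∀ x, β' x ≠ 0) ∧
      (∀ x, ∃ U : X.Opens, x ∈ U ∧ ∀ y ∈ U, UnitAt y (β' x / β' y)) ∧ g ≠ 0 ∧
      (∀ z, UnitAt (ι z) (g / β' (ι z))) ∧ (∀ z ∉ F, Val ι z g 1) ∧ ∀ x, ρ x ∉ (ι ≫ ρ) '' F → β' x = β x := by
  classical
  have hinj : Function.Injective (ι ≫ ρ) := (ι ≫ ρ).isClosedEmbedding.injective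
  have hd : ∀ y, IsClosed ((ι ≫ ρ) '' F \ {y}) := by
    intro y
    have h1 : (ι ≫ ρ) '' F \ {y} = (ι ≫ ρ) '' (F \ (ι ≫ ρ) ⁻¹' {y}) := by
      ext a
      constructor
      · rintro ⟨⟨t, ht, rfl⟩, hne⟩
        exact ⟨t, ⟨ht, hne⟩, rfl⟩
      · rintro ⟨t, ⟨ht, hne⟩, rfl⟩
        exact ⟨⟨t, ht, rfl⟩, hne⟩
    rw [h1]
    apply (ι ≫ ρ).isClosedEmbedding.isClosedMap
    rw [← Set.biUnion_of_singleton (F \ (ι ≫ ρ) ⁻¹' {y})]
    exact Set.Finite.isClosed_biUnion (Set.toFinite _) fun t ht => hFc t ht.1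
  obtain ⟨e, heM, he⟩ := exists_hasCoc_idealMod hE
  have he0 := heM.1
  have heloc := hasCoc_loc heM
  have heu : ∀ x, ρ x ∉ (ι ≫ ρ) '' F → UnitAt x (e x) := by
    intro x hx
    refine unitAt_of_notMem_support he fun hx' => hx ?_
    rw [Scheme.IdealSheafData.support_comap] at hx'
    exact hx'
  have hn : ∀ t : Z, ∃ n : ℤ, t ∈ F → ∀ φ : X.functionField, UnitAt (ι t) (φ * e (ι t) ^ n / β (ι t)) →
      ∃ c : (Z.presheaf.stalk t)ˣ, ∀ z (h : z ⤳ t), z ≠ t → Val ι z φ (Z.presheaf.stalkSpecializes h c) := by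
    intro t
    by_cases ht : t ∈ F
    · obtain ⟨hdom, hD⟩ := hdvr t ht
      have hzF : ∀ z, z ⤳ t → z ≠ t → z ∉ F := by
        intro z h hne hz
        apply hne
        have h1 : t ∈ closure ({z} : Set Z) := h.mem_closure
        rw [(hFc z hz).closure_eq] at h1
        exact h1.symm
      obtain ⟨τ, hτ, hτ'⟩ := exists_unif ι ρ _ hc hd he t ⟨t, ht, rfl⟩
      obtain ⟨n, hn⟩ := exists_order (ι := ι) h0 hβ hD (fun z h hne => hfield z (hzF z h hne))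
        (fun z h hne => hG z (hzF z h hne)) hτ hτ'
      exact ⟨n, fun _ => hn⟩
    · exact ⟨0, fun h => absurd h ht⟩
  choose n hn using hn
  let N : Y → ℤ := fun y => if h : ∃ t ∈ F, (ι ≫ ρ) t = y then - n h.choose else 0
  have hNF : ∀ t ∈ F, N (ρ (ι t)) = - n t := by
    intro t ht
    have h : ∃ t' ∈ F, (ι ≫ ρ) t' = ρ (ι t) := ⟨t, ht, rfl⟩
    have h1 : h.choose = t := hinj h.choose_spec.2
    change dite _ _ _ = _
    rw [dif_pos h, h1]
  have hN0 : ∀ y, y ∉ (ι ≫ ρ) '' F → N y = 0 := by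
    intro y hy
    exact dif_neg hy
  have htw := exists_twist ρ _ hc hd he0 heloc heu N hN0
  let β' : X → X.functionField := fun x => β x * e x ^ N (ρ x)
  have h0' : ∀ x, β' x ≠ 0 := fun x => mul_ne_zero (h0 x) (zpow_ne_zero _ (he0 x))
  have hβ' : ∀ x, ∃ U : X.Opens, x ∈ U ∧ ∀ y ∈ U, UnitAt y (β' x / β' y) := by
    intro x
    obtain ⟨U, hxU, hU⟩ := hβ x
    obtain ⟨U', hxU', hU'⟩ := htw x
    refine ⟨U ⊓ U', ⟨hxU, hxU'⟩, fun y hy => ?_⟩
    have := unitAt_mul (hU y hy.1) (hU' y hy.2)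
    rwa [div_mul_div_comm] at this
  have hoff : ∀ x, ρ x ∉ (ι ≫ ρ) '' F → β' x = β x := by
    intro x hx
    change β x * e x ^ N (ρ x) = β x
    rw [hN0 _ hx, zpow_zero, mul_one]
  have hZF : ∀ z ∉ F, ρ (ι z) ∉ (ι ≫ ρ) '' F := by
    rintro z hz ⟨t, ht, htz⟩
    exact hz (hinj htz ▸ ht)
  obtain ⟨g, hg0, hg1, hg2⟩ := exists_gen ι F hFc hfield hVa hV h0' hβ' (fun z hz => by
      rw [hoff _ (hZF z hz)]
      exact hG z hz) (by
    intro t ht φ hφ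
    refine hn t ht φ ?_
    have h1 : φ * e (ι t) ^ n t / β (ι t) = φ / β' (ι t) := by
      change _ = φ / (β (ι t) * e (ι t) ^ N (ρ (ι t)))
      rw [hNF t ht, zpow_neg, ← div_div, div_inv_eq_mul, div_mul_eq_mul_div]
    rw [h1]
    exact hφ)
  exact ⟨β', g, h0', hβ', hg0, hg1, hg2, hoff⟩

end K381.ResGlue
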