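import Groth.Agent.Models.K381.ResVal

/-!
# Normalizing the values of generators of a line bundle along a finite closed subscheme
-/

set_option autoImplicit false
universe u

open AlgebraicGeometry CategoryTheory CategoryTheory.Limits TopologicalSpace Opposite IsLocalRing
open Groth.Agent.Dix.Center Groth.Agent.Grpsch.GrowthFF Groth.Agent.Fdesc.LocGen
  Groth.Agent.Lefpen.H725.CocDef Groth.Agent.Lefpen.H521.CartierCoc Groth.Agent.Grpsch.PicGrp
  Groth.Agent.CycB.LocQuot
open K515.FF K515.Coc K381.PicAux K381.ResVal K381.Twist K484.CocIdeal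

namespace K381.ResMain

variable {X Z : Scheme.{u}}

theorem eq_of_dvr {z z' t : Z} [IsDomain (Z.presheaf.stalk t)] (hD : IsDiscreteValuationRing (Z.presheaf.stalk t))
    (h : z ⤳ t) (h' : z' ⤳ t) (hne : z ≠ t) (hne' : z' ≠ t) : z = z' := by
  have key : ∀ (y : Z) (hy : y ⤳ t), y ≠ t → (primeOf hy).asIdeal = ⊥ := by
    intro y hy hyt
    by_contra hb
    have hm : (primeOf hy).asIdeal.IsMaximal :=
      Ideal.IsPrime.isMaximal (primeOf hy).isPrime hb
    refine Groth.Agent.Pi1.H408.FracRes.ker_specMap_ne hy hyt ?_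
    rw [← primeOf_asIdeal hy]
    exact IsLocalRing.eq_maximalIdeal hm
  rw [← primeOf_inj h h']
  apply PrimeSpectrum.ext
  rw [key z h hne, key z' h' hne']

/-- A point whose local ring is a field is maximal for generization. -/
theorem eq_of_isField {z t : Z} (h : z ⤳ t) (ht : IsField (Z.presheaf.stalk t)) : z = t := by
  rw [← primeOf_inj h (specializes_refl t)]
  have key : ∀ P : PrimeSpectrum (Z.presheaf.stalk t), P.asIdeal = ⊥ := by
    intro P
    by_contra hb
    let _ := ht.toField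
    rcases Ideal.eq_bot_or_top P.asIdeal with h | h
    · exact hb h
    · exact P.isPrime.ne_top h
  apply PrimeSpectrum.ext
  rw [key, key]

variable [AlgebraicGeometry.IsIntegral X] {ι : Z ⟶ X}

/-- Choice of the twisting order at a closed point. -/
theorem exists_order {β : X → X.functionField} (h0 : ∀ x, β x ≠ 0)
    (hβ : ∀ x, ∃ U : X.Opens, x ∈ U ∧ ∀ y ∈ U, UnitAt y (β x / β y)) {t : Z}
    [IsDomain (Z.presheaf.stalk t)] (hD : IsDiscreteValuationRing (Z.presheaf.stalk t))
    (hfield : ∀ z, z ⤳ t → z ≠ t → IsField (Z.presheaf.stalk z))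
    (hβG : ∀ z, z ⤳ t → z ≠ t → UnitAt (ι z) (β (ι z)))
    {ε : X.functionField} {τ : X.presheaf.stalk (ι t)} (hτ : toK X (ι t) τ = ε)
    (hτ' : Ideal.span {ι.stalkMap t τ} = maximalIdeal (Z.presheaf.stalk t)) :
    ∃ n : ℤ, ∀ φ : X.functionField, UnitAt (ι t) (φ * ε ^ n / β (ι t)) →
      ∃ c : (Z.presheaf.stalk t)ˣ, ∀ z (h : z ⤳ t), z ≠ t → Val ι z φ (Z.presheaf.stalkSpecializes h c) := by
  by_cases hz : ∃ z, z ⤳ t ∧ z ≠ t
  swap
  · exact ⟨0, fun φ _ => ⟨1, fun z h hne => absurd ⟨z, h, hne⟩ hz⟩⟩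
  obtain ⟨z, h, hne⟩ := hz
  have hF := hfield z h hne
  -- the value of `β` at `z`
  have h1 : UnitAt (ι z) (β (ι t)) := by
    obtain ⟨U, hxU, hU⟩ := hβ (ι t)
    have h2 := unitAt_mul (hU (ι z) ((h.map ι.continuous).mem_open U.2 hxU)) (hβG z h hne)
    rwa [div_mul_cancel₀ _ (h0 _)] at h2
  obtain ⟨c₁, hc₁⟩ := exists_val ι z h1
  let r : Z.presheaf.stalk z →+* Z.residueField z := (Z.residue z).hom
  have hr : Function.Injective r := by
    let _ := hF.toField
    exact r.injective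
  let sp : Z.presheaf.stalk t →+* Z.presheaf.stalk z := (Z.presheaf.stalkSpecializes h).hom
  let _ : Algebra (Z.presheaf.stalk t) (Z.residueField z) := (r.comp sp).toAlgebra
  have hfr : IsFractionRing (Z.presheaf.stalk t) (Z.residueField z) :=
    Groth.Agent.Pi1.H408.FracRes.isFractionRing_residueField h hne hD
  have hirr : Irreducible (ι.stalkMap t τ) :=
    (IsDiscreteValuationRing.irreducible_iff_uniformizer _).2 hτ'.symm
  obtain ⟨n, u, hu⟩ := IsDiscreteValuationRing.exists_units_eq_smul_zpow_of_irreducible (K := Z.residueField z)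
    hirr (x := r c₁) (c₁.isUnit.map r).ne_zero
  have hϖ : IsUnit (sp (ι.stalkMap t τ)) := by
    let _ := hF.toField
    refine IsUnit.mk0 _ fun h0 => ?_
    have h3 : algebraMap (Z.presheaf.stalk t) (Z.residueField z) (ι.stalkMap t τ) = 0 := by
      change r (sp (ι.stalkMap t τ)) = 0
      rw [h0, map_zero]
    exact hirr.ne_zero ((IsFractionRing.injective (Z.presheaf.stalk t) (Z.residueField z)) (h3.trans (map_zero _).symm))
  obtain ⟨w, hw⟩ := hϖ
  have hτt : Val ι t ε (ι.stalkMap t τ) := ⟨τ, hτ, rfl⟩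
  have hτz : Val ι z ε w := by
    rw [hw]
    exact hτt.spec h
  refine ⟨n, fun φ hφ => ?_⟩
  obtain ⟨c', hc'⟩ := exists_val ι t hφ
  refine ⟨c' * u, fun z' h' hne' => ?_⟩
  obtain rfl := eq_of_dvr hD h h' hne hne'
  have hε0 : ε ≠ 0 := by
    intro h0
    have h3 := hτz
    rw [h0] at h3
    exact unitAt_ne_zero (h3.unitAt w.isUnit) rfl
  have h4 : Val ι z φ ((Units.map sp.toMonoidHom c' * c₁ * (w ^ n)⁻¹ : (Z.presheaf.stalk z)ˣ)) := by
    have h5 : φ = φ * ε ^ n / β (ι t) * β (ι t) * (ε ^ n)⁻¹ := by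
      rw [div_mul_cancel₀ _ (h0 _), mul_inv_cancel_right₀ (zpow_ne_zero _ hε0)]
    rw [h5, Units.val_mul, Units.val_mul]
    exact ((hc'.spec h).mul hc₁).mul (hτz.zpow n).inv
  have h6 : ((Units.map sp.toMonoidHom c' * c₁ * (w ^ n)⁻¹ : (Z.presheaf.stalk z)ˣ) : Z.presheaf.stalk z) =
      Z.presheaf.stalkSpecializes h ((c' * u : (Z.presheaf.stalk t)ˣ) : Z.presheaf.stalk t) := by
    apply hr
    have h7 : ∀ m : ℤ, r ((w ^ m : (Z.presheaf.stalk z)ˣ) : Z.presheaf.stalk z) = (r w) ^ m := by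
      intro m
      have h8 : ((Units.map r.toMonoidHom (w ^ m) : (Z.residueField z)ˣ) : Z.residueField z) =
          ((Units.map r.toMonoidHom w : (Z.residueField z)ˣ) : Z.residueField z) ^ m := by
        rw [map_zpow, Units.val_zpow_eq_zpow_val]
      exact h8
    have h9 : r w = algebraMap (Z.presheaf.stalk t) (Z.residueField z) (ι.stalkMap t τ) := by
      change r w = r (sp (ι.stalkMap t τ))
      rw [hw]
    have h10 : algebraMap (Z.presheaf.stalk t) (Z.residueField z) (ι.stalkMap t τ) ≠ 0 := by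
      rw [← h9]
      exact (w.isUnit.map r).ne_zero
    rw [← zpow_neg, Units.val_mul, Units.val_mul, Units.val_mul, map_mul, map_mul, h7, hu, h9]
    change r (sp c') * (u • _) * _ = r (sp (c' * u))
    rw [map_mul, map_mul, Units.smul_def, Algebra.smul_def, mul_assoc, mul_assoc, ← zpow_add₀ h10, add_neg_cancel,
      zpow_zero, mul_one]
    rfl
  rw [← h6]
  exact h4

end K381.ResMain
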