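import Groth.Agent.Models.K381.GenFib
import Groth.Agent.Models.K381.ExcSch
import Groth.Agent.Flat2C.BlowProper
import Groth.Agent.S2348
import Groth.Agent.Divis.BlowUpFormal
import Groth.Agent.Ega2.BlowBasic
import Mathlib.AlgebraicGeometry.Noetherian

/-!
# Resolution of normal models by one blow-up
-/

set_option autoImplicit false
universe u

open AlgebraicGeometry CategoryTheory CategoryTheory.Limits IsLocalRing TopologicalSpace

namespace K381.ResModel

open Groth.Agent.Ega2.BlowBasic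

theorem isIso_snd_of_range {X' X C : Scheme.{u}} (b : X' ⟶ X) (U : X.Opens) [IsIso (b ∣_ U)] (i : C ⟶ X)
    (hi : Set.range i ⊆ U) : IsIso (pullback.snd b i) := by
  let l : C ⟶ U := IsOpenImmersion.lift U.ι i (by simpa using hi)
  have hl : l ≫ U.ι = i := IsOpenImmersion.lift_fac _ _ _
  have h1 : IsPullback (b ⁻¹ᵁ U).ι (b ∣_ U) b U.ι := (isPullback_morphismRestrict b U).flip
  have hw : pullback.fst b i ≫ b = (pullback.snd b i ≫ l) ≫ U.ι := by
    rw [Category.assoc, hl, pullback.condition]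
  have h2 : IsPullback (h1.lift _ _ hw) (pullback.snd b i) (b ∣_ U) l := by
    refine IsPullback.of_right (h₁₂ := (b ⁻¹ᵁ U).ι) ?_ (h1.lift_snd _ _ _) h1
    rw [h1.lift_fst, hl]
    exact IsPullback.of_hasPullback b i
  exact MorphismProperty.of_isPullback (P := MorphismProperty.isomorphisms _) h2 ‹IsIso (b ∣_ U)›

theorem isFiniteTypeIdeal {X : Scheme.{u}} [IsLocallyNoetherian X] (I : X.IdealSheafData) :
    BlowUp.IsFiniteTypeIdeal I := by
  intro U
  have : IsNoetherianRing Γ(X, U.1) := IsLocallyNoetherian.component_noetherian U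
  exact IsNoetherian.noetherian _

theorem isIso_offSupport {X X' : Scheme.{u}} {𝓘 : X.IdealSheafData} {b : X' ⟶ X} (hb : BlowUp.IsBlowUp b 𝓘) :
    IsIso (b ∣_ offSupport 𝓘) := by
  refine Groth.Agent.Divis.BlowUpFormal.isIso_of_isBlowUp_of_isEff
    (Groth.Agent.Divis.BlowUpFormal.isBlowUp_morphismRestrict hb (offSupport 𝓘)) ?_
  rw [comap_eq_top_of_range (f := (offSupport 𝓘).ι) (I := 𝓘) (fun x => x.2)]
  exact isEffCartierIdeal_top

/-- A blow-up of a model at an ideal supported off the generic fibre. -/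
theorem blowUp_model {S : Scheme.{u}} [IsIntegral S] (hS : ∀ s : S, IsPrincipalIdealRing (S.presheaf.stalk s))
    {C M M' : Scheme.{u}} [IsIntegral M] [IsLocallyNoetherian M] {f : M ⟶ S} [IsDominant f] {i : C ⟶ M}
    {g : C ⟶ Spec S.functionField} (h : IsPullback i g f (S.fromSpecStalk (genericPoint S)))
    {𝓘 : M.IdealSheafData} {b : M' ⟶ M} (hb : BlowUp.IsBlowUp b 𝓘) (hi : ∀ c, i c ∉ 𝓘.support) :
    IsIntegral M' ∧ IsProper b ∧ Flat (b ≫ f) ∧ IsDominant (b ≫ f) ∧
      ∃ i' : C ⟶ M', IsPullback i' g (b ≫ f) (S.fromSpecStalk (genericPoint S)) ∧ i' ≫ b = i := by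
  have hbp : IsProper b := Groth.Agent.Flat2C.BlowProper.isProper_of_isBlowUp hb (isFiniteTypeIdeal 𝓘)
  obtain ⟨c₀, hc₀⟩ := K381.GenFib.exists_generic h
  have hI : 𝓘 ≠ ⊥ := by
    rintro rfl
    refine hi c₀ ?_
    rw [Scheme.IdealSheafData.support_bot]
    trivial
  have hU := isIso_offSupport hb
  obtain ⟨hM', hgen, -⟩ := Groth.Agent.S2348.result 𝓘 hI b hb
  have hbd : IsDominant b := by
    constructor
    rw [DenseRange, dense_iff_closure_eq, ← Set.univ_subset_iff, ← (genericPoint_spec M).def]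
    exact closure_mono (Set.singleton_subset_iff.mpr ⟨_, hgen⟩)
  have hdom : IsDominant (b ≫ f) := inferInstance
  refine ⟨hM', hbp, K381.DedFlat.flat_of_isDominant _ hS, hdom, ?_⟩
  have hiso : IsIso (pullback.snd b i) := isIso_snd_of_range b (offSupport 𝓘) i (by rintro _ ⟨c, rfl⟩; exact hi c)
  have h1 : IsPullback (pullback.fst b i) (pullback.snd b i ≫ g) (b ≫ f) (S.fromSpecStalk (genericPoint S)) :=
    ((IsPullback.of_hasPullback b i).flip.paste_horiz h.flip).flip
  refine ⟨inv (pullback.snd b i) ≫ pullback.fst b i, ?_, ?_⟩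
  · refine IsPullback.of_iso h1 (asIso (pullback.snd b i)) (Iso.refl _) (Iso.refl _) (Iso.refl _) ?_ ?_ ?_ ?_
    · simp
    · simp
    · simp
    · simp
  · rw [Category.assoc, pullback.condition, IsIso.inv_hom_id_assoc]

/-- Resolution of a normal model of dimension two of a regular curve by one blow-up. -/
theorem exists_resolution {S : Scheme.{u}} [IsIntegral S] (hS : ∀ s : S, IsPrincipalIdealRing (S.presheaf.stalk s))
    {C M : Scheme.{u}} [IsIntegral M] [IsNoetherian M] (hM : K381.ExcSch.IsExc M) (hMn : Pi1.IsNormalScheme M)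
    (hMd : ∀ m : M, ringKrullDim (M.presheaf.stalk m) ≤ 2) {f : M ⟶ S} [IsDominant f] {i : C ⟶ M}
    {g : C ⟶ Spec S.functionField} (h : IsPullback i g f (S.fromSpecStalk (genericPoint S)))
    (hC : ∀ c : C, IsRegularLocalRing (C.presheaf.stalk c)) :
    ∃ (M' : Scheme.{u}) (𝓘 : M.IdealSheafData) (b : M' ⟶ M) (i' : C ⟶ M'), BlowUp.IsBlowUp b 𝓘 ∧
      IsIntegral M' ∧ IsProper b ∧ Flat (b ≫ f) ∧ IsDominant (b ≫ f) ∧
      (∀ m : M', IsRegularLocalRing (M'.presheaf.stalk m)) ∧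
      IsPullback i' g (b ≫ f) (S.fromSpecStalk (genericPoint S)) ∧ i' ≫ b = i := by
  obtain ⟨𝓘, h1, h2⟩ := hM.exists_ideal hMn hMd
  obtain ⟨M', b, hb⟩ := Groth.Agent.Flat2C.BlowExist.exists_isBlowUp (𝓘 := 𝓘)
  have hi : ∀ c, i c ∉ 𝓘.support := fun c hc => by
    refine h1 _ hc ?_
    have h3 := K381.GenFib.isIso_stalkMap h c
    have h4 := hC c
    exact IsRegularLocalRing.of_ringEquiv (asIso (i.stalkMap c)).symm.commRingCatIsoToRingEquiv
  obtain ⟨h3, h4, h5, h6, i', h7, h8⟩ := blowUp_model hS h hb hi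
  exact ⟨M', 𝓘, b, i', hb, h3, h4, h5, h6, (h2 M' b hb).2, h7, h8⟩

end K381.ResModel
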