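import Groth.Agent.Models.K381.Twist
import Groth.Agent.Pi1.H408.FracRes

/-!
# Values of rational functions along a closed subscheme; gluing sections on finite schemes
-/

set_option autoImplicit false
universe u

open AlgebraicGeometry CategoryTheory CategoryTheory.Limits TopologicalSpace Opposite IsLocalRing
open Groth.Agent.Dix.Center Groth.Agent.Grpsch.GrowthFF Groth.Agent.Fdesc.LocGen
  Groth.Agent.Lefpen.H725.CocDef Groth.Agent.Lefpen.H521.CartierCoc Groth.Agent.Grpsch.PicGrp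
open K515.FF K515.Coc K381.PicAux

namespace K381.ResVal

/-- A section of the structure sheaf of a finite scheme from a compatible family of germs. -/
theorem exists_section {Z : Scheme.{u}} [Finite Z] (c : ∀ z : Z, Z.presheaf.stalk z)
    (hc : ∀ (z t : Z) (h : z ⤳ t), Z.presheaf.stalkSpecializes h (c t) = c z) :
    ∃ w : Γ(Z, ⊤), ∀ z : Z, Z.presheaf.germ ⊤ z trivial w = c z := by
  -- minimal neighbourhoods
  have h1 : ∀ t : Z, ∃ (U : Z.Opens) (_ : t ∈ U) (s : Γ(Z, U)), ∀ z (hz : z ∈ U), Z.presheaf.germ U z hz s = c z := by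
    intro t
    have h2 : ∃ N : Z.Opens, t ∈ N ∧ ∀ z ∈ N, z ⤳ t := by
      have h3 : ∀ z : Z, ∃ N : Z.Opens, t ∈ N ∧ (z ∈ N → z ⤳ t) := by
        intro z
        by_cases hz : z ⤳ t
        · exact ⟨⊤, trivial, fun _ => hz⟩
        · rw [specializes_iff_forall_open] at hz
          push Not at hz
          obtain ⟨s, hs, hts, hzs⟩ := hz
          exact ⟨⟨s, hs⟩, hts, fun h => absurd h hzs⟩
      choose N hN1 hN2 using h3
      refine ⟨⟨⋂ z, (N z : Set Z), isOpen_iInter_of_finite fun z => (N z).isOpen⟩, ?_, ?_⟩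
      · exact Set.mem_iInter.mpr hN1
      · intro z hz
        exact hN2 z (Set.mem_iInter.mp hz z)
    obtain ⟨N, htN, hN⟩ := h2
    obtain ⟨U, htU, s, hs⟩ := Z.presheaf.exists_germ_eq (c t)
    refine ⟨U ⊓ N, ⟨htU, htN⟩, Z.presheaf.map (homOfLE inf_le_left).op s, fun z hz => ?_⟩
    rw [TopCat.Presheaf.germ_res_apply, ← hc z t (hN z hz.2), ← hs]
    exact (TopCat.Presheaf.germ_stalkSpecializes_apply Z.presheaf htU (hN z hz.2) s).symm
  choose U hU s hs using h1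
  obtain ⟨w, hw, -⟩ := Z.sheaf.existsUnique_gluing' U ⊤ (fun t => homOfLE le_top)
    (fun t _ => Opens.mem_iSup.mpr ⟨t, hU t⟩) s (by
      intro t t'
      apply TopCat.Presheaf.section_ext Z.sheaf
      intro z hz
      change Z.presheaf.germ _ z hz (Z.presheaf.map _ _) = Z.presheaf.germ _ z hz (Z.presheaf.map _ _)
      rw [TopCat.Presheaf.germ_res_apply, TopCat.Presheaf.germ_res_apply]
      exact (hs t z hz.1).trans (hs t' z hz.2).symm)
  refine ⟨w, fun z => ?_⟩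
  rw [← hs z z (hU z), ← hw z]
  exact (TopCat.Presheaf.germ_res_apply Z.presheaf (homOfLE le_top) z (hU z) w).symm

variable {X Z : Scheme.{u}} [AlgebraicGeometry.IsIntegral X] (ι : Z ⟶ X)

/-- `φ` is regular at `ι z` and restricts to the germ `c`. -/
def Val (z : Z) (φ : X.functionField) (c : Z.presheaf.stalk z) : Prop :=
  ∃ a : X.presheaf.stalk (ι z), toK X (ι z) a = φ ∧ ι.stalkMap z a = c

variable {ι} {z : Z} {φ ψ : X.functionField} {c d : Z.presheaf.stalk z}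

theorem Val.unique (h : Val ι z φ c) (h' : Val ι z φ d) : c = d := by
  obtain ⟨a, ha, rfl⟩ := h
  obtain ⟨b, hb, rfl⟩ := h'
  rw [toK_injective X (ι z) (ha.trans hb.symm)]

theorem Val.mul (h : Val ι z φ c) (h' : Val ι z ψ d) : Val ι z (φ * ψ) (c * d) := by
  obtain ⟨a, rfl, rfl⟩ := h
  obtain ⟨b, rfl, rfl⟩ := h'
  exact ⟨a * b, map_mul _ _ _, map_mul _ _ _⟩

theorem Val.inv {c : (Z.presheaf.stalk z)ˣ} (h : Val ι z φ c) : Val ι z φ⁻¹ (c⁻¹ : (Z.presheaf.stalk z)ˣ) := by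
  obtain ⟨a, rfl, hc⟩ := h
  have hu : IsUnit a := by
    have : IsUnit (ι.stalkMap z a) := by rw [hc]; exact c.isUnit
    exact isUnit_of_map_unit (ι.stalkMap z).hom a this
  obtain ⟨u, rfl⟩ := hu
  refine ⟨(u⁻¹ : (X.presheaf.stalk (ι z))ˣ), ?_, ?_⟩
  · refine eq_inv_of_mul_eq_one_left ?_
    rw [← map_mul, Units.inv_mul, map_one]
  · rw [← Units.mul_left_inj c, Units.inv_mul, ← hc, ← map_mul, Units.inv_mul, map_one]

theorem Val.pow (h : Val ι z φ c) (n : ℕ) : Val ι z (φ ^ n) (c ^ n) := by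
  obtain ⟨a, rfl, rfl⟩ := h
  exact ⟨a ^ n, map_pow _ _ _, map_pow _ _ _⟩

theorem Val.zpow {c : (Z.presheaf.stalk z)ˣ} (h : Val ι z φ c) (n : ℤ) :
    Val ι z (φ ^ n) (c ^ n : (Z.presheaf.stalk z)ˣ) := by
  obtain ⟨k, rfl | rfl⟩ := n.eq_nat_or_neg
  · rw [zpow_natCast, zpow_natCast, Units.val_pow_eq_pow_val]
    exact h.pow k
  · rw [zpow_neg, zpow_neg, zpow_natCast, zpow_natCast]
    have h1 := h.pow k
    rw [← Units.val_pow_eq_pow_val] at h1
    exact h1.inv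

theorem Val.unitAt (h : Val ι z φ c) (hc : IsUnit c) : UnitAt (ι z) φ := by
  obtain ⟨a, rfl, rfl⟩ := h
  have hu : IsUnit a := isUnit_of_map_unit (ι.stalkMap z).hom a hc
  obtain ⟨u, rfl⟩ := hu
  rw [unitAt_iff]
  refine ⟨(u.isUnit.map (toK X (ι z))).ne_zero, toK_mem_O _, ?_⟩
  refine ⟨(u⁻¹ : (X.presheaf.stalk (ι z))ˣ), ?_⟩
  refine eq_inv_of_mul_eq_one_left ?_
  rw [← map_mul, Units.inv_mul, map_one]

theorem exists_val (ι : Z ⟶ X) (z : Z) (h : UnitAt (ι z) φ) : ∃ c : (Z.presheaf.stalk z)ˣ, Val ι z φ c := by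
  obtain ⟨U, hx, hη, g, hg, rfl⟩ := h
  refine ⟨((hg.map (X.presheaf.germ U (ι z) hx).hom).map (ι.stalkMap z).hom).unit,
    X.presheaf.germ U (ι z) hx g, toK_germ hx g hη, rfl⟩

theorem Val.spec {t : Z} (h : z ⤳ t) {c : Z.presheaf.stalk t} (hc : Val ι t φ c) :
    Val ι z φ (Z.presheaf.stalkSpecializes h c) := by
  obtain ⟨a, rfl, rfl⟩ := hc
  refine ⟨X.presheaf.stalkSpecializes (h.map ι.continuous) a, toK_stalkSpecializes _ _, ?_⟩
  have h1 := Scheme.Hom.stalkSpecializes_stalkMap ι z t h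
  exact DFunLike.congr_fun (congrArg CommRingCat.Hom.hom h1) a

end K381.ResVal
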