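import Groth.Agent.Smoothlim.SmoothLocusBC
import Groth.Agent.Dual3.K477.NormalGeo
import Groth.Agent.Models.K381.ResMain
import Groth.Agent.Sga4h.UlaDvr
import Groth.Agent.CurvesC.RegNormal
import Groth.Agent.S8723
import Groth.Agent.S1365
import Groth.Agent.S11100

/-!
# Global functions on the special fibre of a regular model with a section
-/

set_option autoImplicit false
universe u

open AlgebraicGeometry CategoryTheory CategoryTheory.Limits IsLocalRing TopologicalSpace

namespace K381.SecFib

open Groth.Agent Groth.Agent.CycB.LocQuot K381.ResMain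

/-- A point with a regular local ring has a generization whose local ring is a field. -/
theorem exists_gen {X : Scheme.{u}} (x : X) [IsDomain (X.presheaf.stalk x)] :
    ∃ ξ : X, ξ ⤳ x ∧ IsField (X.presheaf.stalk ξ) := by
  let P : PrimeSpectrum (X.presheaf.stalk x) := ⟨⊥, Ideal.isPrime_bot⟩
  refine ⟨ptOf P, ptOf_specializes P, ?_⟩
  let _ : Algebra (X.presheaf.stalk x) (X.presheaf.stalk (ptOf P)) :=
    (X.presheaf.stalkSpecializes (ptOf_specializes P)).hom.toAlgebra
  have h1 : IsLocalization.AtPrime (X.presheaf.stalk (ptOf P)) (RingHom.ker (Cyc.specMap x (ptOf P) (ptOf_specializes P))) :=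
    isLocalization_stalkSpecializes (ptOf_specializes P)
  have h2 : RingHom.ker (Cyc.specMap x (ptOf P) (ptOf_specializes P)) = ⊥ := by
    rw [← primeOf_asIdeal, primeOf_ptOf]
  have h3 : (RingHom.ker (Cyc.specMap x (ptOf P) (ptOf_specializes P))).primeCompl = nonZeroDivisors (X.presheaf.stalk x) := by
    ext a
    rw [mem_nonZeroDivisors_iff_ne_zero]
    change a ∉ RingHom.ker (Cyc.specMap x (ptOf P) (ptOf_specializes P)) ↔ _
    rw [h2]
    rfl
  have h4 : IsFractionRing (X.presheaf.stalk x) (X.presheaf.stalk (ptOf P)) := by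
    change IsLocalization _ _
    rw [← h3]
    exact h1
  exact (IsFractionRing.toField (X.presheaf.stalk x)).toIsField

theorem bijective_of_section (R : Type u) [CommRing R] [IsDomain R] [IsDiscreteValuationRing R] {X : Scheme.{u}}
    (f : X ⟶ Spec (CommRingCat.of R)) [IsProper f] [Flat f] [IsIntegral X]
    (hreg : ∀ x : X, IsRegularLocalRing (X.presheaf.stalk x)) (hdim : topologicalKrullDim X = 2)
    (h0 : Function.Bijective ((f.fiberToSpecResidueField (genericPoint (Spec (CommRingCat.of R)))).appTop))
    (σ : Spec (CommRingCat.of R) ⟶ X) (hσ : σ ≫ f = 𝟙 _) :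
    Function.Bijective (pullback.snd f (Spec.map (CommRingCat.ofHom (IsLocalRing.residue R)))).appTop.hom := by
  have hN : IsLocallyNoetherian X := LocallyOfFiniteType.isLocallyNoetherian f
  have hfp : LocallyOfFinitePresentation f := inferInstance
  have hgc : GeometricallyConnected f := by
    refine (S1365.result f ?_ ?_ h0).2
    · intro s
      have h1 := (Groth.Agent.Sga4h.UlaDvr.regular_spec_pid R s).1
      exact ⟨S0558.result _, CurvesC.RegNormal.isIntegrallyClosed _⟩
    · intro Z hZ x hx
      have hZ' : Z = Set.univ := by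
        rw [irreducibleComponents_eq_singleton] at hZ
        exact hZ
      rw [hZ'] at hx
      obtain ⟨x', hx', h2⟩ := Flat.generalizingMap f (genericPoint_specializes (f x))
      rw [← h2, ((hx.specializes (Set.mem_univ x')).antisymm hx').eq]
  refine S8723.result R f hreg hdim (fun K _ _ => ?_) (fun ℓ hℓ => ?_)
  · exact GeometricallyConnected.geometrically_connectedSpace _ _ _ (IsPullback.of_hasPullback _ _)
  · let κ := ResidueField R
    let g : Spec (CommRingCat.of (AlgebraicClosure κ)) ⟶ Spec (CommRingCat.of R) :=
      Spec.map (CommRingCat.ofHom ((algebraMap κ (AlgebraicClosure κ)).comp (IsLocalRing.residue R)))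
    let p := closedPoint (AlgebraicClosure κ)
    have hx₀ := S11100.result f hreg σ hσ (g p)
    have h1 : f (σ (g p)) = g p := by
      rw [← Scheme.Hom.comp_apply, hσ]
      rfl
    obtain ⟨y, hy1, hy2⟩ := Scheme.exists_preimage_of_isPullback (IsPullback.of_hasPullback f g) (σ (g p)) p h1
    have h2 : y ∈ (pullback.snd f g).smoothLocus := by
      rw [Smoothlim.SmoothLocusBC.mem_smoothLocus_iff_of_isPullback (IsPullback.of_hasPullback f g) y
        (Or.inl (Flat.stalkMap f _)), hy1]
      exact hx₀
    have h3 : IsRegularLocalRing ((pullback f g).presheaf.stalk y) :=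
      VarietyA.RegSmoothSch.isRegularLocalRing_stalk_of_mem_smoothLocus _ y h2
    have h4 : IsDomain ((pullback f g).presheaf.stalk y) := S0558.result _
    obtain ⟨ξ, hξ, hF⟩ := exists_gen y
    refine ⟨ξ, fun z hz => eq_of_isField hz hF, ?_⟩
    have h5 : Module.length ((pullback f g).presheaf.stalk ξ) ((pullback f g).presheaf.stalk ξ) = 1 := by
      let _ := hF.toField
      exact Module.length_eq_one _ _
    intro h6
    have h7 : (Module.length ((pullback f g).presheaf.stalk ξ) ((pullback f g).presheaf.stalk ξ)).toNat = 1 := by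
      rw [h5]; rfl
    have h8 : ℓ ∣ 1 := by
      rw [← h7]
      exact h6
    exact hℓ.one_lt.ne' (Nat.dvd_one.mp h8)

end K381.SecFib
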