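import Groth.Agent.Models.K381.ResMain
import Groth.Agent.Models.K381.ZMod

/-!
# Points of the regular finite models
-/

set_option autoImplicit false
universe u

open AlgebraicGeometry CategoryTheory CategoryTheory.Limits TopologicalSpace IsLocalRing
open K381.ZMod K381.ResMain

namespace K381.ZPts

variable {S C Z : Scheme.{u}} [IsIntegral S] {e : C ⟶ Spec S.functionField} {h : Z ⟶ S} {τ : C ⟶ Z}

theorem isField_of_iso {A B : CommRingCat.{u}} (φ : A ⟶ B) [IsIso φ] (hB : IsField B) : IsField A :=
  (asIso φ).commRingCatIsoToRingEquiv.toMulEquiv.isField hB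

theorem isField_of_eq (hZ : IsZ e h τ) (z : Z) (hz : h z = genericPoint S) : IsField (Z.presheaf.stalk z) := by
  obtain ⟨c, rfl⟩ := (K381.GenFib.mem_range_iff hZ.isPullback z).mpr hz
  have h1 := hZ.reduced
  have h2 : IsReduced C := K381.GenFib.isReduced hZ.isPullback
  have h3 := hZ.finite
  have h4 : IsFinite e := MorphismProperty.of_isPullback (P := @IsFinite) hZ.isPullback h3
  have h5 : IsArtinianRing S.functionField := inferInstance
  have h6 : IsArtinianScheme C := isLocallyArtinian_of_isFinite e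
  have h7 := K381.GenFib.isIso_stalkMap hZ.isPullback c
  exact isField_of_iso (τ.stalkMap c) (isField_stalk c)

theorem eq_of_isField_stalk (hZ : IsZ e h τ) (z : Z) (hz : IsField (Z.presheaf.stalk z)) : h z = genericPoint S := by
  have h1 := hZ.flat
  obtain ⟨z', hz', h2⟩ := Flat.generalizingMap h (genericPoint_specializes (h z))
  rw [← h2, eq_of_isField hz' hz]

theorem isDomain_stalk (hZ : IsZ e h τ) (z : Z) : IsDomain (Z.presheaf.stalk z) := by
  have := hZ.regular z
  exact Groth.Agent.S0558.result _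

theorem isDVR (hZ : IsZ e h τ) (z : Z) (hz : h z ≠ genericPoint S) :
    ∃ _ : IsDomain (Z.presheaf.stalk z), IsDiscreteValuationRing (Z.presheaf.stalk z) := by
  have h1 := isDomain_stalk hZ z
  have h2 := hZ.regular z
  have h3 := K381.DedFlat.isPrincipalIdealRing_of_isRegularLocalRing _ (hZ.dim z)
  have h4 : ¬ IsField (Z.presheaf.stalk z) := fun h4 => hz (eq_of_isField_stalk hZ z h4)
  exact ⟨h1, ((IsDiscreteValuationRing.iff_pid_with_one_nonzero_prime _).mpr ⟨h3,
    ⟨maximalIdeal _, ⟨fun h5 => h4 (IsLocalRing.isField_iff_maximalIdeal_eq.mpr h5), inferInstance⟩, fun P hP =>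
      IsLocalRing.eq_maximalIdeal (Ideal.IsPrime.isMaximal hP.2 hP.1)⟩⟩)⟩

theorem isClosed_singleton (hZ : IsZ e h τ) (z : Z) (hz : h z ≠ genericPoint S) : IsClosed ({z} : Set Z) := by
  rw [← closure_subset_iff_isClosed]
  intro w hw
  have hzw : z ⤳ w := specializes_iff_mem_closure.mpr hw
  by_contra hne
  have hne' : z ≠ w := fun h => hne h.symm
  have h0 := hZ.flat
  obtain ⟨z', hz', h2⟩ := Flat.generalizingMap h (genericPoint_specializes (h z))
  have h3 : h w ≠ genericPoint S := fun h3 => hne' (eq_of_isField hzw (isField_of_eq hZ w h3))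
  obtain ⟨h4, h5⟩ := isDVR hZ w h3
  have h6 : z' ≠ w := by
    rintro rfl
    exact hne' (hzw.antisymm hz').eq
  have h7 := eq_of_dvr h5 hzw (hz'.trans hzw) hne' h6
  rw [← h7] at h2
  exact hz h2

theorem finite (hZ : IsZ e h τ) [Finite S] : Finite Z := by
  have h3 := hZ.finite
  have h4 : (Set.univ : Set Z).Finite := by
    have h5 : (Set.univ : Set Z) = ⋃ s : S, h ⁻¹' {s} := by
      ext z
      simp
    rw [h5]
    exact Set.finite_iUnion fun s => h.finite_preimage_singleton s
  exact Set.finite_univ_iff.mp h4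

end K381.ZPts
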