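import Groth.Agent.Models.K381.PicMain
import Groth.Agent.Models.K381.SnData
import Groth.Agent.Models.K381.ZPts

/-!
# Semi-factorial models of seminormal curves
-/

set_option autoImplicit false
universe u

open AlgebraicGeometry CategoryTheory CategoryTheory.Limits TopologicalSpace Opposite IsLocalRing
open K838.Ferr K381.AFin K381.ZMod

namespace K381.SemiFac

/-- The normalization of an integral curve is integral. -/
theorem isIntegral_of_dense {C Cn : Scheme.{u}} [IsIntegral C] (ν : Cn ⟶ C)
    (hreg : ∀ x : Cn, IsRegularLocalRing (Cn.presheaf.stalk x)) (O : C.Opens) (hO : genericPoint C ∈ O)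
    [IsIso (ν ∣_ O)] (hd : Dense (ν ⁻¹' (O : Set C))) : IsIntegral Cn := by
  have h1 : IsReduced Cn := by
    have : ∀ x : Cn, _root_.IsReduced (Cn.presheaf.stalk x) := fun x => by
      have := hreg x
      have : IsDomain (Cn.presheaf.stalk x) := Groth.Agent.S0558.result _
      infer_instance
    exact isReduced_of_isReduced_stalk Cn
  have h2 : IrreducibleSpace (O : Scheme.{u}) := by
    have : Nonempty O := ⟨⟨genericPoint C, hO⟩⟩
    infer_instance
  have h3 : IrreducibleSpace (ν ⁻¹ᵁ O : Scheme.{u}) := (ν ∣_ O).homeomorph.symm.surjective.irreducibleSpace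
    (ν ∣_ O).homeomorph.symm.continuous
  have h4 : IsIrreducible ((ν ⁻¹ᵁ O : Cn.Opens) : Set Cn) := by
    have h5 := (IrreducibleSpace.isIrreducible_univ (ν ⁻¹ᵁ O : Scheme.{u})).image (ν ⁻¹ᵁ O).ι
      (ν ⁻¹ᵁ O).ι.continuous.continuousOn
    rw [Set.image_univ, Scheme.Opens.range_ι] at h5
    exact h5
  have h6 : IrreducibleSpace Cn := by
    rw [irreducibleSpace_def]
    have := h4.closure
    rwa [show closure ((ν ⁻¹ᵁ O : Cn.Opens) : Set Cn) = Set.univ from hd.closure_eq] at this
  exact isIntegral_of_irreducibleSpace_of_isReduced _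

/-- **Semi-factorial models of seminormal integral curves** over an affine base with finitely many points. -/
theorem exists_model {S : Scheme.{u}} [IsIntegral S] [IsNoetherian S] [S.IsSeparated] [IsAffine S] [Finite S]
    (hreg : ∀ s : S, IsRegularLocalRing (S.presheaf.stalk s)) (hdimS : topologicalKrullDim S ≤ 1)
    (hexc : K381.ExcSch.IsExc S) [IsOpenImmersion (S.fromSpecStalk (genericPoint S))]
    {C : Scheme.{u}} (g : C ⟶ Spec S.functionField) [IsProper g] [IsIntegral C]
    (hsn : HTop.IsSeminormal C)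
    (hdimC : ∀ W ∈ irreducibleComponents (C : Type u), topologicalKrullDim W = 1) :
    ∃ (M : Scheme.{u}) (f : M ⟶ S) (i : C ⟶ M), IsProper f ∧ Flat f ∧
      IsPullback i g f (S.fromSpecStalk (genericPoint S)) ∧ Formal2.PicPullbackSurjective i := by
  obtain ⟨Cn, D, ν, d, hνf, hνs, hCreg, hCdim, hdc, hDred, hDrange, hνiso, hpush, hZred, hDfin, hdense⟩ :=
    K381.SnData.exists_data (κ := S.functionField) g hdimC hsn
  have hCη : genericPoint C ∉ Set.range d := by
    rw [hDrange]
    change IsRegularLocalRing C.functionField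
    infer_instance
  have hCn : IsIntegral Cn := by
    let O : C.Opens := ⟨(Set.range d)ᶜ, d.isClosedEmbedding.isClosed_range.isOpen_compl⟩
    have := hνiso O fun x hx => hx
    exact isIntegral_of_dense ν hCreg O hCη hdense
  let gn : Cn ⟶ Spec S.functionField := ν ≫ g
  have hgn : IsProper gn := inferInstanceAs (IsProper (ν ≫ g))
  let ZK := pullback ν d
  let j : ZK ⟶ Cn := pullback.fst ν d
  let π : ZK ⟶ D := pullback.snd ν d
  have hjd : j ≫ ν = π ≫ d := pullback.condition
  have hj : IsClosedImmersion j := inferInstance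
  have hπs : Surjective π := inferInstance
  have hπf : IsFinite π := inferInstance
  have hjg : j ≫ gn = π ≫ (d ≫ g) := by
    change j ≫ ν ≫ g = _
    rw [reassoc_of% hjd]
  have hZfin : IsFinite (j ≫ gn) := by
    have h1 : IsFinite (π ≫ (d ≫ g)) := @MorphismProperty.comp_mem _ _ @IsFinite _ _ _ _ π (d ≫ g) hπf hDfin
    rwa [hjg]
  have hZred' : IsReduced ZK := hZred
  obtain ⟨Z, h, τ, hZ⟩ := exists_Z hreg hdimS hexc (j ≫ gn)
  obtain ⟨T, t, δ, hT⟩ := exists_Z hreg hdimS hexc (d ≫ g)
  have hFη : IsOpen ({genericPoint S} : Set S) := by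
    have h1 : Set.range (S.fromSpecStalk (genericPoint S)) = {genericPoint S} := by
      have h2 : Subsingleton (Spec S.functionField) := Groth.Agent.Ega2.Normal.subsingleton_spec_functionField S
      apply subset_antisymm
      · rintro _ ⟨c, rfl⟩
        rw [Subsingleton.elim c (closedPoint S.functionField)]
        exact Scheme.fromSpecStalk_closedPoint
      · rintro _ rfl
        exact ⟨closedPoint S.functionField, Scheme.fromSpecStalk_closedPoint⟩
    rw [← h1]
    exact (S.fromSpecStalk (genericPoint S)).isOpenEmbedding.isOpen_range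
  let F : Set Z := {z | h z ≠ genericPoint S}
  have hFc : IsClosed F := by
    have : F = h ⁻¹' {genericPoint S}ᶜ := rfl
    rw [this]
    exact hFη.isClosed_compl.preimage h.continuous
  have hZ1 := hZ.finite
  have hZ2 := hZ.flat
  have hZ3 := hZ.reduced
  have hT1 := hT.finite
  have hT2 := hT.flat
  have hT3 := hT.reduced
  have hZKfin : Finite ZK := by
    have h1 : IsArtinianRing S.functionField := inferInstance
    have h2 : IsArtinianScheme ZK := isLocallyArtinian_of_isFinite (j ≫ gn)
    infer_instance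
  have hDf : Finite D := by
    have h1 : IsArtinianRing S.functionField := inferInstance
    have h2 : IsArtinianScheme D := isLocallyArtinian_of_isFinite (d ≫ g)
    infer_instance
  -- the map `ξ`
  obtain ⟨ξ, hξ1, hξ2⟩ := hZ.ext h t (π ≫ δ) (by
    rw [Category.assoc, hT.isPullback.w, ← Category.assoc, ← hjg, hZ.isPullback.w])
  -- the regular model
  obtain ⟨X, f, i, ι, hf1, hf2, hf3, hf4, hX, hAF, hι1, hι2, hι3, Y, ρ, hc, hι4, hE, hρ⟩ :=
    K381.Core.exists_core hreg hdimS hexc hCreg hCdim hZ F hFc (fun t ht => ht)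
  have hξf : IsFinite (ξ ≫ t) := by rw [hξ1]; exact hZ1
  have hξfl : Flat (ξ ≫ t) := by rw [hξ1]; exact hZ2
  obtain ⟨P, a, b, p, hP1, hP2, hP3, hap, hbp, hP4, hP5, hP6, hP7⟩ :=
    K381.Pinch.exists_pinch f hAF ι t ξ (by rw [hι2, hξ1])
  obtain ⟨iC, hiC1, hiC2, hiC3⟩ := K381.Pinch.exists_genericFibre hP1 hap hbp hι2 hX hT.isPullback hZ.isPullback
    hι3 rfl hξ2.symm hpush rfl rfl
  have hξs : Surjective ξ := by
    have h1 : IsDominant (π ≫ δ) := by
      have := hT.dominant
      infer_instance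
    have h2 : IsDominant (τ ≫ ξ) := by rw [hξ2]; exact h1
    have h3 : IsDominant ξ := IsDominant.of_comp τ ξ
    have h4 : IsFinite ξ := IsFinite.of_comp ξ t
    refine ⟨?_⟩
    have h5 : Set.range ξ = Set.univ := by
      rw [← ξ.isClosedMap.isClosed_range.closure_eq]
      exact ξ.denseRange.closure_eq
    exact Set.range_eq_univ.mp h5
  have has : Function.Surjective a := K381.FerrIso.surjective_left hP1 hP7
  have hPint : IsIntegral P := K381.FerrIso.isIntegral hP1 has
  have hfd : IsDominant f := isDominant hX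
  have hpd : IsDominant p := isDominant hiC1
  have hio : IsOpenImmersion i := MorphismProperty.of_isPullback (P := @IsOpenImmersion) hX.flip inferInstance
  have hXN : IsLocallyNoetherian X := LocallyOfFiniteType.isLocallyNoetherian f
  have hZfinite : Finite Z := K381.ZPts.finite hZ
  -- affine opens
  obtain ⟨V, hVa, -, hV⟩ := hAF ⊤ (isAffineOpen_top S) (Set.range ι) (Set.finite_range ι) (fun _ _ => trivial)
  have hia : IsAffineHom i :=
    MorphismProperty.of_isPullback (P := @IsAffineHom) hX.flip inferInstance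
  have hDa : IsAffine D := isAffine_of_isAffineHom (d ≫ g)
  obtain ⟨O, hO, -, hDO⟩ : ∃ O : C.Opens, IsAffineOpen O ∧ ν ⁻¹ᵁ O = i ⁻¹ᵁ V ∧ d ⁻¹ᵁ O = ⊤ := by
    have h1 : j ⁻¹ᵁ (i ⁻¹ᵁ V) = ⊤ := by
      rw [eq_top_iff]
      intro z _
      change i (j z) ∈ V
      rw [← Scheme.Hom.comp_apply, hι3]
      exact hV ⟨τ z, rfl⟩
    have h2 : Adapted j π := fun y => ⟨i ⁻¹ᵁ V, ⊤, hVa.preimage i, isAffineOpen_top D, trivial, h1⟩
    obtain ⟨-, -, -, -, -, h3⟩ := props_of_isPushout h2 hpush
    exact h3 (i ⁻¹ᵁ V) ⊤ (hVa.preimage i) (isAffineOpen_top D) h1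
  refine ⟨P, p, iC, hP2, hP3, hiC1, ?_⟩
  exact K381.PicMain.surjective hP1 hP5 has hap hbp hι2 hFη hX hf4 hT.isPullback hZ.isPullback hι3 hjd hiC1 hiC2 hiC3
    hνiso hCη hO (by
      rintro _ ⟨y, rfl⟩
      have : y ∈ d ⁻¹ᵁ O := by rw [hDO]; trivial
      exact this)
    (fun z hz => K381.ZPts.isDVR hZ z hz) (fun z hz => K381.ZPts.isClosed_singleton hZ z hz)
    (fun z hz => K381.ZPts.isField_of_eq hZ z hz) hVa (fun z => hV ⟨z, rfl⟩) ρ hc hE hρ

end K381.SemiFac
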