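import Groth.Agent.Models.K381.ExtMod
import Groth.Agent.Models.H55.CompGeom

/-!
# Vertical curves are components, local factorisation of the uniformizer
-/

set_option autoImplicit false
universe u

open AlgebraicGeometry CategoryTheory CategoryTheory.Limits IsLocalRing TopologicalSpace
open Groth.Agent.Models.H36.FibreFact Groth.Agent.Divis.CartierBasic Groth.Agent.Dix.VertGeom

namespace K381.StalkFac

variable {R : Type u} [CommRing R] [IsDomain R] [IsDiscreteValuationRing R]
variable {X : Over (Spec (CommRingCat.of R))}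

/-- Vertical curves with the same support have the same generic point. -/
theorem genPtOf_eq {Γ Δ : ArSurf.VertComp R X}
    (h : Set.range (Γ.ι.base : Γ.curve.left → X.left) = Set.range (Δ.ι.base : Δ.curve.left → X.left)) :
    Models.genPtOf R X Γ = Models.genPtOf R X Δ := by
  have h1 : closure {Models.genPtOf R X Γ} = closure {Models.genPtOf R X Δ} := by
    rw [closure_genPt, closure_genPt, h]
  have h2 : Models.genPtOf R X Γ ⤳ Models.genPtOf R X Δ := by
    rw [specializes_iff_mem_closure, h1]; exact subset_closure rfl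
  have h3 : Models.genPtOf R X Δ ⤳ Models.genPtOf R X Γ := by
    rw [specializes_iff_mem_closure, ← h1]; exact subset_closure rfl
  exact (h2.antisymm h3).eq

theorem mult_eq_of_range_eq {Γ Δ : ArSurf.VertComp R X}
    (h : Set.range (Γ.ι.base : Γ.curve.left → X.left) = Set.range (Δ.ι.base : Δ.curve.left → X.left)) :
    Models.mult R X Γ = Models.mult R X Δ := by
  unfold Models.mult
  rw [genPtOf_eq h]

/-- A vertical curve is a component of the closed fibre. -/
theorem range_mem_fibreComponents [IsIntegral X.left] [Flat X.hom] [QuasiCompact X.hom]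
    (hd : ∀ x : X.left, IsClosed ({x} : Set X.left) → ringKrullDim (X.left.presheaf.stalk x) = 2)
    (Γ : ArSurf.VertComp R X) :
    Set.range (Γ.ι.base : Γ.curve.left → X.left) ∈ Models.fibreComponents R X := by
  rw [← closure_genPt Γ, K381.FibComp.closure_mem_iff]
  have hc : CompactSpace X.left := QuasiCompact.compactSpace_of_compactSpace X.hom
  obtain ⟨x, hx, hxc⟩ := IsClosed.exists_closed_singleton (X := X.left)
    (S := Set.range (Γ.ι.base : Γ.curve.left → X.left)) Γ.ι.isClosedEmbedding.isClosed_range
    ⟨_, genericPoint Γ.curve.left, rfl⟩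
  have hs : Models.genPtOf R X Γ ⤳ x := by
    rw [specializes_iff_mem_closure, closure_genPt]; exact hx
  by_cases hne : x = Models.genPtOf R X Γ
  · exfalso
    have hd1 := Γ.dim_eq
    have hsub : Subsingleton Γ.curve.left := by
      refine ⟨fun a b => ?_⟩
      have key : ∀ a : Γ.curve.left, Γ.ι a = Models.genPtOf R X Γ := fun a => by
        have h1 : Models.genPtOf R X Γ ⤳ Γ.ι a := (genericPoint_specializes a).map Γ.ι.continuous
        rw [← hne] at h1
        have h2 := h1.mem_closure
        rw [hxc.closure_eq] at h2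
        exact h2.trans hne
      exact Γ.ι.isClosedEmbedding.injective ((key a).trans (key b).symm)
    have h2 : topologicalKrullDim Γ.curve.left ≤ 0 := by
      rw [topologicalKrullDim, Order.krullDim_nonpos_iff_forall_isMax]
      intro a b hab
      have e : (a : Set Γ.curve.left) = b := by
        ext y
        constructor
        · exact fun h => hab h
        · intro h
          obtain ⟨z, hz⟩ := a.isIrreducible'.1
          rw [Subsingleton.elim y z]
          exact hz
      exact e.ge
    rw [hd1] at h2
    exact absurd h2 (by decide)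
  · exact K381.ExtMod.isGen_of_specializes X hd (genPt_mem_specialFibreSet Γ _) hxc hs hne

/-- Local factorisation of the uniformizer at a closed point of the closed fibre. -/
theorem exists_factorisation [IsIntegral X.left] [Flat X.hom] [IsProper X.hom]
    (hreg : Models.IsRegularScheme X.left)
    (hd : ∀ x : X.left, IsClosed ({x} : Set X.left) → ringKrullDim (X.left.presheaf.stalk x) = 2)
    (x : X.left) {n : ℕ} (Γ : Fin n → ArSurf.VertComp R X)
    (hinj : Function.Injective fun i => Set.range ((Γ i).ι.base : (Γ i).curve.left → X.left))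
    (hΓ : ∀ Z ∈ Models.fibreComponents R X,
      x ∈ Z ↔ ∃ i, Set.range ((Γ i).ι.base : (Γ i).curve.left → X.left) = Z)
    (ϖ : R) (hϖ : Irreducible ϖ) :
    ∃ f : Fin n → X.left.presheaf.stalk x, (∀ i, f i ∈ maximalIdeal (X.left.presheaf.stalk x)) ∧
      Ideal.span {Models.stalkHom R X x ϖ} = Ideal.span {∏ i, f i ^ Models.mult R X (Γ i)} := by
  classical
  have hN : IsLocallyNoetherian X.left := LocallyOfFiniteType.isLocallyNoetherian X.hom
  obtain ⟨m, Δ, hΔ⟩ := Groth.Agent.Models.H55.CompGeom.exists_componentList hd
    (K381.ExtMod.hom_genericPoint X)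
  have hex : ∀ j : Fin n, ∃ i : Fin m, Set.range ((Δ i).ι.base : (Δ i).curve.left → X.left) =
      Set.range ((Γ j).ι.base : (Γ j).curve.left → X.left) := fun j => by
    have h1 := range_mem_fibreComponents hd (Γ j)
    rw [← hΔ.2] at h1
    exact h1
  choose σ hσ using hex
  have hσi : Function.Injective σ := fun j j' h => hinj (by
    change Set.range ((Γ j).ι.base : (Γ j).curve.left → X.left) = Set.range ((Γ j').ι.base : (Γ j').curve.left → X.left)
    rw [← hσ j, ← hσ j', h])
  have hmem : ∀ i : Fin m, x ∈ Set.range ((Δ i).ι.base : (Δ i).curve.left → X.left) ↔ ∃ j, σ j = i := by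
    intro i
    rw [hΓ _ (Groth.Agent.Models.H36.FibreFact.range_mem_fibreComponents hΔ i)]
    constructor
    · rintro ⟨j, hj⟩
      refine ⟨j, hΔ.1 ?_⟩
      change Set.range ((Δ (σ j)).ι.base : (Δ (σ j)).curve.left → X.left) = _
      rw [hσ j, hj]
    · rintro ⟨j, rfl⟩
      exact ⟨j, (hσ j).symm⟩
  have hgen : ∀ j, ∃ f : X.left.presheaf.stalk x, f ∈ nonZeroDivisors _ ∧
      stalkIdeal (Δ (σ j)).ι.ker x = Ideal.span {f} := fun j =>
    exists_stalkIdeal_eq_span (isEffCartier_ker hreg (Δ (σ j))
      (Groth.Agent.Models.H36.FibreFact.range_mem_fibreComponents hΔ _)) x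
  choose f hf hf' using hgen
  refine ⟨f, fun j => ?_, ?_⟩
  · have h1 : x ∈ (Δ (σ j)).ι.ker.support := by
      rw [mem_support_ker_iff]
      exact (hmem _).mpr ⟨j, rfl⟩
    rw [mem_support_iff_stalkIdeal_le, hf'] at h1
    exact h1 (Ideal.mem_span_singleton_self _)
  · have h1 := stalkIdeal_specialFibreIdeal (R := R) (X := X) x
    rw [specialFibreIdeal_eq_prod hreg hΔ, stalkIdeal_prod, hϖ.maximalIdeal_eq, Ideal.map_span,
      Set.image_singleton] at h1
    rw [← h1, ← Ideal.prod_span_singleton]
    rw [← Finset.prod_subset (Finset.subset_univ (Finset.univ.image σ)), Finset.prod_image (fun a _ b _ h => hσi h)]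
    · refine Finset.prod_congr rfl fun j _ => ?_
      rw [stalkIdeal_pow, hf', Ideal.span_singleton_pow, mult_eq_of_range_eq (hσ j)]
    · intro i _ hi
      have h2 : x ∉ (Δ i).ι.ker.support := by
        rw [mem_support_ker_iff, hmem]
        rintro ⟨j, hj⟩
        exact hi (Finset.mem_image.mpr ⟨j, Finset.mem_univ _, hj⟩)
      rw [stalkIdeal_pow, (notMem_support_iff_stalkIdeal_eq_top _ _).1 h2, ← Ideal.one_eq_top, one_pow]

end K381.StalkFac
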