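import Groth.Agent.Models.K381.ZPts
import Groth.Agent.Models.K381.AFin
import Groth.Agent.Ega2.SigmaMap

/-!
# Finite disjoint unions of models; flatness of maps between finite models
-/

set_option autoImplicit false
universe u

open AlgebraicGeometry CategoryTheory CategoryTheory.Limits TopologicalSpace IsLocalRing
open K381.ZMod K381.ResMain K381.ZPts K381.AFin

namespace K381.SumGeom

section flat

variable {S C Z D T : Scheme.{u}} [IsIntegral S] {e : C ⟶ Spec S.functionField} {h : Z ⟶ S} {τ : C ⟶ Z}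
  {e' : D ⟶ Spec S.functionField} {t : T ⟶ S} {δ : D ⟶ T}

theorem injective_specializes {X : Scheme.{u}} {x y : X} (h : x ⤳ y) [IsDomain (X.presheaf.stalk y)] :
    Function.Injective (X.presheaf.stalkSpecializes h) := by
  let _ : Algebra (X.presheaf.stalk y) (X.presheaf.stalk x) := (X.presheaf.stalkSpecializes h).hom.toAlgebra
  have h1 : IsLocalization.AtPrime (X.presheaf.stalk x) (RingHom.ker (Cyc.specMap y x h)) :=
    Groth.Agent.CycB.LocQuot.isLocalization_stalkSpecializes h
  exact IsLocalization.injective (X.presheaf.stalk x)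
    (Ideal.primeCompl_le_nonZeroDivisors (RingHom.ker (Cyc.specMap y x h)))

theorem flat_of_isZ (hZ : IsZ e h τ) (hT : IsZ e' t δ) (ξ : Z ⟶ T) (hξ : ξ ≫ t = h) : Flat ξ := by
  refine Flat.of_stalkMap ξ fun z => ?_
  have h1 : IsDomain (Z.presheaf.stalk z) := isDomain_stalk hZ z
  have h2 : IsDomain (T.presheaf.stalk (ξ z)) := isDomain_stalk hT (ξ z)
  have h3 := hT.regular (ξ z)
  have h4 := K381.DedFlat.isPrincipalIdealRing_of_isRegularLocalRing _ (hT.dim (ξ z))
  refine K381.DedFlat.ringHom_flat_of_injective _ ?_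
  rw [injective_iff_map_eq_zero]
  intro a ha
  have h5 := hZ.flat
  obtain ⟨z', hz', h6⟩ := Flat.generalizingMap h (genericPoint_specializes (h z))
  have h7 : IsField (T.presheaf.stalk (ξ z')) := isField_of_eq hT (ξ z') (by
    rw [← Scheme.Hom.comp_apply, hξ, h6])
  have h8 : Function.Injective (ξ.stalkMap z') := by
    let _ := h7.toField
    exact (ξ.stalkMap z').hom.injective
  apply injective_specializes (hz'.map ξ.continuous)
  rw [map_zero]
  apply h8
  rw [map_zero]
  have h9 := Scheme.Hom.stalkSpecializes_stalkMap_apply ξ z' z hz' a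
  refine h9.trans ?_
  have h10 : ξ.stalkMap z a = 0 := ha
  rw [h10, map_zero]

end flat

theorem exists_sigma {J : Type u} {X : J → Scheme.{u}} (x : ↥(∐ X)) : ∃ (j : J) (x' : X j), Sigma.ι X j x' = x :=
  ⟨(sigmaOpenCover X).idx x, (sigmaOpenCover X).covers x⟩

theorem relAF_sigmaDesc {S : Scheme.{u}} {J : Type u} [Finite J] {X : J → Scheme.{u}} (f : ∀ j, X j ⟶ S)
    (hf : ∀ j, RelAF (f j)) : RelAF (Limits.Sigma.desc f) := by
  intro W hW F hF hFW
  have key : ∀ j, ∃ W' : (X j).Opens, IsAffineOpen W' ∧ W' ≤ (f j) ⁻¹ᵁ W ∧ (Sigma.ι X j) ⁻¹' F ⊆ W' := by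
    intro j
    refine hf j W hW _ (hF.preimage (Sigma.ι X j).isOpenEmbedding.injective.injOn) fun x hx => ?_
    have h1 := hFW hx
    change Limits.Sigma.desc f (Sigma.ι X j x) ∈ W at h1
    rw [← Scheme.Hom.comp_apply, Sigma.ι_desc] at h1
    exact h1
  choose W' hW' h1 h2 using key
  let m : (∐ fun j => (W' j : Scheme.{u})) ⟶ ∐ X := Limits.Sigma.map fun j => (W' j).ι
  have hm : IsOpenImmersion m :=
    Groth.Agent.Ega2.SigmaMap.sigmaMap_of_isZariskiLocalAtTarget (@IsOpenImmersion) _ fun j => inferInstance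
  have ha : ∀ j, IsAffine (W' j : Scheme.{u}) := fun j => hW' j
  have haff : IsAffine (∐ fun j => (W' j : Scheme.{u})) := inferInstance
  refine ⟨m.opensRange, isAffineOpen_opensRange m, ?_, ?_⟩
  · rintro _ ⟨v, rfl⟩
    obtain ⟨j, v', rfl⟩ := exists_sigma v
    change Limits.Sigma.desc f (m (Sigma.ι (fun j => (W' j : Scheme.{u})) j v')) ∈ W
    have h3 : Sigma.ι (fun j => (W' j : Scheme.{u})) j ≫ m ≫ Limits.Sigma.desc f = (W' j).ι ≫ f j := by simp [m]
    have h4 : Limits.Sigma.desc f (m (Sigma.ι (fun j => (W' j : Scheme.{u})) j v')) = f j ((W' j).ι v') := by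
      rw [← Scheme.Hom.comp_apply, ← Scheme.Hom.comp_apply, ← Scheme.Hom.comp_apply, h3]
    rw [h4]
    exact h1 j v'.2
  · intro x hx
    obtain ⟨j, x', rfl⟩ := exists_sigma x
    refine ⟨Sigma.ι (fun j => (W' j : Scheme.{u})) j ⟨x', h2 j hx⟩, ?_⟩
    have h3 : Sigma.ι (fun j => (W' j : Scheme.{u})) j ≫ m = (W' j).ι ≫ Sigma.ι X j := by simp [m]
    rw [← Scheme.Hom.comp_apply, h3]
    rfl

end K381.SumGeom
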