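import Groth.Agent.Models.K381.FerrPic
import Groth.Agent.BlowUp.K484.CocIdeal
import Groth.Agent.Divis.CartierStalk

/-!
# Twisting a Cartier cocycle by exceptional divisors over closed points
-/

set_option autoImplicit false
universe u

open AlgebraicGeometry CategoryTheory CategoryTheory.Limits TopologicalSpace Opposite IsLocalRing
open Groth.Agent.Dix.Center Groth.Agent.Grpsch.GrowthFF Groth.Agent.Fdesc.LocGen
  Groth.Agent.Lefpen.H725.CocDef Groth.Agent.Lefpen.H521.CartierCoc Groth.Agent.Grpsch.PicGrp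
  Groth.Agent.Divis.CartierBasic Groth.Agent.Divis.CartierStalk
open K515.FF K515.Coc K838.Ferr K381.PicAux K484.CocIdeal

namespace K381.Twist

theorem stalkIdeal_vanishing {Y : Scheme.{u}} (F : Set Y) (hc : IsClosed F) (y : Y) (hy : y ∈ F)
    (hd : IsClosed (F \ {y})) :
    stalkIdeal (Scheme.IdealSheafData.vanishingIdeal ⟨F, hc⟩) y = maximalIdeal (Y.presheaf.stalk y) := by
  -- membership in the ideal of a small affine
  have key : ∀ (W : Y.affineOpens) (hyW : y ∈ W.1) (f : Γ(Y, W.1)),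
      f ∈ (Scheme.IdealSheafData.vanishingIdeal ⟨F, hc⟩).ideal W → Y.presheaf.germ W.1 y hyW f ∈ maximalIdeal (Y.presheaf.stalk y) := by
    intro W hyW f hf
    rw [Scheme.IdealSheafData.vanishingIdeal_ideal] at hf
    obtain ⟨p, hp⟩ : ∃ p, W.2.fromSpec p = y := by
      have : y ∈ Set.range W.2.fromSpec := by rw [W.2.range_fromSpec]; exact hyW
      exact this
    have h1 : f ∈ p.asIdeal := (PrimeSpectrum.mem_vanishingIdeal _ _).mp hf p (by
      change W.2.fromSpec p ∈ F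
      rw [hp]; exact hy)
    rw [mem_maximalIdeal, mem_nonunits_iff]
    intro hu
    have h2 : y ∈ Y.basicOpen f := (Y.mem_basicOpen f y hyW).mpr hu
    have h3 : p ∈ W.2.fromSpec ⁻¹ᵁ Y.basicOpen f := by
      change W.2.fromSpec p ∈ Y.basicOpen f
      rw [hp]; exact h2
    rw [W.2.fromSpec_preimage_basicOpen] at h3
    exact h3 h1
  apply le_antisymm
  · obtain ⟨W, hW, hyW, -⟩ := exists_isAffineOpen_mem_and_subset (X := Y) (U := ⊤) (x := y) trivial
    rw [stalkIdeal_eq _ ⟨W, hW⟩ hyW, Ideal.map_le_iff_le_comap]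
    exact fun f hf => key ⟨W, hW⟩ hyW f hf
  · intro a ha
    obtain ⟨U, hyU, s, rfl⟩ := Y.presheaf.exists_germ_eq a
    obtain ⟨W, hW, hyW, hWU⟩ := exists_isAffineOpen_mem_and_subset (X := Y)
      (U := U ⊓ ⟨(F \ {y})ᶜ, hd.isOpen_compl⟩) (x := y) ⟨hyU, fun h => h.2 rfl⟩
    rw [stalkIdeal_eq _ ⟨W, hW⟩ hyW]
    have hWU' : W ≤ U := fun x hx => (hWU hx).1
    have h1 : Y.presheaf.germ U y hyU s = Y.presheaf.germ W y hyW (Y.presheaf.map (homOfLE hWU').op s) := by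
      rw [TopCat.Presheaf.germ_res_apply]
    rw [h1] at ha ⊢
    refine Ideal.mem_map_of_mem _ ?_
    rw [Scheme.IdealSheafData.vanishingIdeal_ideal, PrimeSpectrum.mem_vanishingIdeal]
    intro p hp
    have hp1 : hW.fromSpec p ∈ F := hp
    have hp2 : hW.fromSpec p ∈ W := by
      have : hW.fromSpec p ∈ Set.range hW.fromSpec := ⟨p, rfl⟩
      rw [hW.range_fromSpec] at this
      exact this
    have hp3 : hW.fromSpec p = y := by
      by_contra hne
      exact (hWU hp2).2 ⟨hp1, hne⟩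
    by_contra hn
    have h3 : p ∈ hW.fromSpec ⁻¹ᵁ Y.basicOpen (Y.presheaf.map (homOfLE hWU').op s) := by
      rw [hW.fromSpec_preimage_basicOpen]
      exact hn
    have h4 : y ∈ Y.basicOpen (Y.presheaf.map (homOfLE hWU').op s) := by
      rw [← hp3]
      exact h3
    rw [mem_maximalIdeal, mem_nonunits_iff] at ha
    exact ha ((Y.mem_basicOpen _ y hyW).mp h4)

/-- The local equation of the exceptional divisor restricts to a uniformizer. -/
theorem exists_unif {X Y Z : Scheme.{u}} [IsIntegral X] (ι : Z ⟶ X) (ρ : X ⟶ Y) [IsClosedImmersion (ι ≫ ρ)]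
    (F : Set Y) (hc : IsClosed F) (hd : ∀ y, IsClosed (F \ {y})) {e : X → X.functionField}
    (he : IsEq ((Scheme.IdealSheafData.vanishingIdeal ⟨F, hc⟩).comap ρ) e) (t : Z) (ht : ρ (ι t) ∈ F) :
    ∃ τ : X.presheaf.stalk (ι t), toK X (ι t) τ = e (ι t) ∧
      Ideal.span {ι.stalkMap t τ} = maximalIdeal (Z.presheaf.stalk t) := by
  obtain ⟨τ, hτ, hτe⟩ := exists_stalk_eq he (ι t)
  refine ⟨τ, hτe, ?_⟩
  rw [stalkIdeal_comap, stalkIdeal_vanishing F hc _ ht (hd _)] at hτ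
  have h1 := congrArg (Ideal.map (ι.stalkMap t).hom) hτ
  rw [Ideal.map_map, Ideal.map_span, Set.image_singleton, ← CommRingCat.hom_comp] at h1
  rw [show ι.stalkMap t τ = (ι.stalkMap t).hom τ from rfl, ← h1]
  have h2 : (ρ.stalkMap (ι t) ≫ ι.stalkMap t) = (ι ≫ ρ).stalkMap t := (Scheme.Hom.stalkMap_comp ι ρ t).symm
  rw [h2]
  have h3 : Function.Surjective ((ι ≫ ρ).stalkMap t).hom := (ι ≫ ρ).stalkMap_surjective t
  exact IsLocalRing.map_maximalIdeal_of_surjective _ h3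

/-- Coherence of the twist. -/
theorem exists_twist {X Y : Scheme.{u}} [IsIntegral X] (ρ : X ⟶ Y) (F : Set Y) (hc : IsClosed F)
    (hd : ∀ y, IsClosed (F \ {y})) {e : X → X.functionField} (h0 : ∀ x, e x ≠ 0)
    (he : ∀ x, ∃ U : X.Opens, x ∈ U ∧ ∀ y ∈ U, UnitAt y (e x / e y))
    (hu : ∀ x, ρ x ∉ F → UnitAt x (e x)) (n : Y → ℤ) (hn : ∀ y, y ∉ F → n y = 0) (x : X) :
    ∃ U : X.Opens, x ∈ U ∧ ∀ y ∈ U, UnitAt y (e x ^ n (ρ x) / e y ^ n (ρ y)) := by
  have hz : ∀ {x : X} {φ : X.functionField} (m : ℤ), UnitAt x φ → UnitAt x (φ ^ m) := by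
    intro x φ m h
    obtain ⟨k, rfl | rfl⟩ := m.eq_nat_or_neg
    · rw [zpow_natCast]; exact unitAt_pow h k
    · rw [zpow_neg, zpow_natCast]; exact unitAt_inv (unitAt_pow h k)
  obtain ⟨U, hxU, hU⟩ := he x
  by_cases hx : ρ x ∈ F
  · refine ⟨U ⊓ ρ ⁻¹ᵁ ⟨(F \ {ρ x})ᶜ, (hd _).isOpen_compl⟩, ⟨hxU, fun h => h.2 rfl⟩, fun y hy => ?_⟩
    by_cases hyF : ρ y ∈ F
    · have h1 : ρ y = ρ x := by
        by_contra hne
        exact hy.2 ⟨hyF, hne⟩
      rw [h1, ← div_zpow]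
      exact hz _ (hU y hy.1)
    · rw [hn _ hyF, zpow_zero, div_one]
      have h1 := hz (n (ρ x)) (unitAt_mul (hU y hy.1) (hu y hyF))
      rwa [div_mul_cancel₀ _ (h0 y)] at h1
  · refine ⟨ρ ⁻¹ᵁ ⟨Fᶜ, hc.isOpen_compl⟩, hx, fun y hy => ?_⟩
    rw [hn _ hx, hn _ hy, zpow_zero, zpow_zero, div_one]
    exact unitAt_one y

end K381.Twist
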